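import Groth.Agent.NonAbH1.K550.LocFree
import Mathlib.AlgebraicGeometry.Morphisms.Finite
import Mathlib.AlgebraicGeometry.Morphisms.FinitePresentation

/-!
# Finite flat morphisms and their sections over affine opens
-/

set_option autoImplicit false
universe u

open CategoryTheory CategoryTheory.Limits AlgebraicGeometry TopologicalSpace Opposite MonoidalCategory
  CartesianMonoidalCategory

namespace K550.FinFlat

open K550.SecLoc K550.SecT K550.SatMod K550.TI Groth.Agent.Desc.AffineHull K550.LocFree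

variable {X Y : Scheme.{u}}

theorem app_iff {P : ∀ {R S : Type u} [CommRing R] [CommRing S], (R →+* S) → Prop}
    (hP : RingHom.RespectsIso P) (f : Y ⟶ X) (U : X.Opens) {W : X.Opens} (hW : W ≤ U) :
    P (f.app W).hom ↔ P ((pullback.snd f U.ι).app (U.ι ⁻¹ᵁ W)).hom := by
  have h1 : IsIso (U.ι.app W) := Scheme.Hom.isIso_app _ _ (by
    rw [Scheme.Opens.opensRange_ι]; exact hW)
  have h2 : IsIso ((pullback.fst f U.ι).app (f ⁻¹ᵁ W)) := Scheme.Hom.isIso_app _ _ (by
    rw [Scheme.Hom.opensRange_pullbackFst, Scheme.Opens.opensRange_ι]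
    exact f.preimage_mono hW)
  have key : f.app W ≫ (pullback.fst f U.ι).app (f ⁻¹ᵁ W) =
      (U.ι.app W ≫ (pullback.snd f U.ι).app (U.ι ⁻¹ᵁ W)) ≫ (pullback f U.ι).presheaf.map
        (eqToHom (by rw [← Scheme.Hom.comp_preimage, ← Scheme.Hom.comp_preimage,
          pullback.condition])).op := by
    have := Scheme.Hom.congr_app (pullback.condition (f := f) (g := U.ι)) W
    rw [Scheme.Hom.comp_app, Scheme.Hom.comp_app] at this
    exact this
  rw [← hP.cancel_right_isIso (f.app W) ((pullback.fst f U.ι).app (f ⁻¹ᵁ W)),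
    ← CommRingCat.hom_comp, key, CommRingCat.hom_comp, hP.cancel_right_isIso, CommRingCat.hom_comp,
    hP.cancel_left_isIso]

/-- the sections of a finite flat morphism of finite presentation -/
theorem app_of_pullback (f : Y ⟶ X) (U : X.Opens) [IsFinite (pullback.snd f U.ι)]
    [Flat (pullback.snd f U.ι)] [LocallyOfFinitePresentation (pullback.snd f U.ι)]
    {W : X.Opens} (hWa : IsAffineOpen W) (hW : W ≤ U) :
    (f.app W).hom.Finite ∧ (f.app W).hom.Flat ∧ (f.app W).hom.FinitePresentation := by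
  have hW' : IsAffineOpen (U.ι ⁻¹ᵁ W) := hWa.preimage_of_isOpenImmersion U.ι (by
    rw [Scheme.Opens.opensRange_ι]; exact hW)
  refine ⟨?_, ?_, ?_⟩
  · rw [app_iff RingHom.finite_respectsIso f U hW]
    exact ((isFinite_iff (pullback.snd f U.ι)).mp inferInstance).2 _ hW'
  · rw [app_iff RingHom.Flat.respectsIso f U hW, Scheme.Hom.app_eq_appLE]
    exact Flat.flat_appLE _ hW' (hW'.preimage _) _
  · rw [app_iff RingHom.finitePresentation_respectsIso f U hW, Scheme.Hom.app_eq_appLE]
    exact HasRingHomProperty.appLE (P := @LocallyOfFinitePresentation) _ inferInstance ⟨_, hW'⟩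
      ⟨_, hW'.preimage _⟩ le_rfl

set_option backward.isDefEq.respectTransparency.types false in
theorem snd_of_app (f : Y ⟶ X) [IsAffineHom f] {W : X.Opens} (hWa : IsAffineOpen W)
    (h : (f.app W).hom.Finite ∧ (f.app W).hom.Flat ∧ (f.app W).hom.FinitePresentation) :
    IsFinite (pullback.snd f W.ι) ∧ Flat (pullback.snd f W.ι) ∧
      LocallyOfFinitePresentation (pullback.snd f W.ι) := by
  obtain ⟨h1, h2, h3⟩ := h
  rw [app_iff RingHom.finite_respectsIso f W le_rfl, Scheme.Opens.ι_preimage_self] at h1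
  rw [app_iff RingHom.Flat.respectsIso f W le_rfl, Scheme.Opens.ι_preimage_self] at h2
  rw [app_iff RingHom.finitePresentation_respectsIso f W le_rfl, Scheme.Opens.ι_preimage_self] at h3
  have hW : IsAffine (W : Scheme.{u}) := hWa
  have hg : IsAffineHom (pullback.snd f W.ι) := MorphismProperty.pullback_snd _ _ inferInstance
  have hY : IsAffine (pullback f W.ι) := isAffine_of_isAffineHom (pullback.snd f W.ι)
  refine ⟨?_, ?_, ?_⟩
  · rw [HasAffineProperty.iff_of_isAffine (P := @IsFinite)]
    exact ⟨hY, h1⟩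
  · rw [HasRingHomProperty.iff_of_isAffine (P := @Flat)]
    exact h2
  · rw [HasRingHomProperty.iff_of_isAffine (P := @LocallyOfFinitePresentation)]
    exact h3

set_option backward.isDefEq.respectTransparency.types false in
/-- Finite, flat and of finite presentation may be checked locally on the target. -/
theorem of_forall_exists (f : Y ⟶ X) (h : ∀ x : X, ∃ W : X.Opens, x ∈ W ∧
    IsFinite (pullback.snd f W.ι) ∧ Flat (pullback.snd f W.ι) ∧
      LocallyOfFinitePresentation (pullback.snd f W.ι)) :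
    IsFinite f ∧ Flat f ∧ LocallyOfFinitePresentation f := by
  choose W hxW h1 h2 h3 using h
  have hW : IsOpenCover W := by
    rw [IsOpenCover, eq_top_iff]
    exact fun x _ => Opens.mem_iSup.mpr ⟨x, hxW x⟩
  exact ⟨IsZariskiLocalAtTarget.of_openCover (P := @IsFinite) (X.openCoverOfIsOpenCover W hW) h1,
    IsZariskiLocalAtTarget.of_openCover (P := @Flat) (X.openCoverOfIsOpenCover W hW) h2,
    IsZariskiLocalAtTarget.of_openCover (P := @LocallyOfFinitePresentation)
      (X.openCoverOfIsOpenCover W hW) h3⟩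

attribute [local instance] algSec algSec' algRs

/-- sections over `D(f)` are finite free if they are isomorphic to a free module up to powers
of `f` -/
theorem free_of_torIso (Q : Over X) [IsAffineHom Q.hom] {V : X.Opens} (hV : IsAffineOpen V)
    (f : Γ(X, V)) {n : ℕ} (φ : (Fin n → Γ(X, V)) →ₗ[Γ(X, V)] Sec Q V)
    (hφ : TorIso (.powers f) φ) :
    Module.Finite Γ(X, X.basicOpen f) (Sec Q (X.basicOpen f)) ∧
      Module.Free Γ(X, X.basicOpen f) (Sec Q (X.basicOpen f)) := by
  have h1 := isLocalizedModule_resL Q hV f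
  have hloc : IsLocalization.Away f Γ(X, X.basicOpen f) := hV.isLocalization_basicOpen f
  let l : (Fin n → Γ(X, V)) →ₗ[Γ(X, V)] (Fin n → Γ(X, X.basicOpen f)) :=
    .pi fun i => (Algebra.linearMap _ _) ∘ₗ .proj i
  have : IsLocalizedModule (.powers f) (Algebra.linearMap Γ(X, V) Γ(X, X.basicOpen f)) :=
    inferInstance
  have hl : IsLocalizedModule (.powers f) l := inferInstance
  let e := LinearEquiv.ofBijective _ (hφ.bijective_map l (resL Q f))
  let e' : (Fin n → Γ(X, X.basicOpen f)) ≃ₗ[Γ(X, X.basicOpen f)] Sec Q (X.basicOpen f) :=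
    LinearEquiv.extendScalarsOfIsLocalization (.powers f) Γ(X, X.basicOpen f) e
  exact ⟨Module.Finite.equiv e', Module.Free.of_equiv e'⟩

theorem app_of_torIso (Q : Over X) [IsAffineHom Q.hom] {V : X.Opens} (hV : IsAffineOpen V)
    (f : Γ(X, V)) {n : ℕ} (φ : (Fin n → Γ(X, V)) →ₗ[Γ(X, V)] Sec Q V)
    (hφ : TorIso (.powers f) φ) :
    (Q.hom.app (X.basicOpen f)).hom.Finite ∧ (Q.hom.app (X.basicOpen f)).hom.Flat ∧
      (Q.hom.app (X.basicOpen f)).hom.FinitePresentation := by
  obtain ⟨h2, h3⟩ := free_of_torIso Q hV f φ hφ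
  have h4 : Module.FinitePresentation Γ(X, X.basicOpen f) (Sec Q (X.basicOpen f)) :=
    Module.finitePresentation_of_projective _ _
  have h5 : Module.Flat Γ(X, X.basicOpen f) (Sec Q (X.basicOpen f)) := inferInstance
  have h6 : Algebra.FinitePresentation Γ(X, X.basicOpen f) (Sec Q (X.basicOpen f)) :=
    inferInstance
  exact ⟨h2, h5, h6⟩

open scoped TensorProduct in
theorem exists_torIso_atPrime {A B : Type u} [CommRing A] [CommRing B] [Algebra A B]
    [Module.FinitePresentation A B] [Module.Flat A B] (p : Ideal A) [p.IsPrime] :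
    ∃ s ∉ p, ∃ (n : ℕ) (φ : (Fin n → A) →ₗ[A] B), TorIso (.powers s) φ := by
  let R := Localization.AtPrime p
  let N := R ⊗[A] B
  have hfree : Module.Free R N := Module.free_of_flat_of_isLocalRing
  let n := Module.finrank R N
  let e : Module.Basis (Fin n) R N := Module.finBasis R N
  let c : B →ₗ[A] N := TensorProduct.mk A R B 1
  have hc : IsLocalizedModule p.primeCompl c :=
    inferInstanceAs (IsLocalizedModule p.primeCompl (TensorProduct.mk A R B 1))
  obtain ⟨s, hs⟩ := IsLocalizedModule.exist_integer_multiples_of_finite p.primeCompl c e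
  choose b hb using hs
  let φ : (Fin n → A) →ₗ[A] B := (Pi.basisFun A (Fin n)).constr A b
  let f : (Fin n → A) →ₗ[A] (Fin n → R) := .pi fun i => (Algebra.linearMap A R) ∘ₗ .proj i
  have : IsLocalizedModule p.primeCompl (Algebra.linearMap A R) := inferInstance
  have hf : IsLocalizedModule p.primeCompl f := inferInstance
  obtain ⟨u, hu⟩ : IsUnit (algebraMap A R s) := IsLocalization.map_units (M := p.primeCompl) R s
  let ψ : (Fin n → R) ≃ₗ[R] N := e.equivFun.symm.trans (LinearEquiv.smulOfUnit u)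
  have hφ : TorIso p.primeCompl φ := by
    refine TorIso.of_bijective_map f c ψ (fun x => ?_) (map_zero _) (fun a y => ?_) ψ.bijective
    · have h1 : ψ (f x) = (u : R) • ∑ j, algebraMap A R (x j) • e j := by
        change (u : R) • (e.equivFun.symm (f x)) = _
        rw [Module.Basis.equivFun_symm_apply]
        rfl
      rw [h1, Finset.smul_sum, Module.Basis.constr_apply_fintype, map_sum]
      refine Finset.sum_congr rfl fun j _ => ?_
      rw [map_smul, hb, hu, algebraMap_smul, algebraMap_smul, smul_comm]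
      rfl
    · exact LinearMap.map_smul_of_tower ψ.toLinearMap a y
  obtain ⟨s, hs, hs'⟩ := hφ.exists_powers
  exact ⟨s, hs, n, φ, hs'⟩

theorem exists_free_nhd (G : Over X) [IsFinite G.hom] [Flat G.hom]
    [LocallyOfFinitePresentation G.hom] (z : X) : ∃ V : X.Opens, IsAffineOpen V ∧ z ∈ V ∧
      Module.Free Γ(X, V) (Sec G V) ∧ Module.Finite Γ(X, V) (Sec G V) := by
  obtain ⟨V, hV, hz, -⟩ := exists_isAffineOpen_mem_and_subset (U := ⊤) (x := z) trivial
  have h1 : Module.Finite Γ(X, V) (Sec G V) := ((isFinite_iff G.hom).mp inferInstance).2 _ hV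
  have h2 : Module.Flat Γ(X, V) (Sec G V) := by
    have := Flat.flat_appLE G.hom hV (hV.preimage G.hom) le_rfl
    rw [← Scheme.Hom.app_eq_appLE] at this
    exact this
  have h3 : Algebra.FinitePresentation Γ(X, V) (Sec G V) := by
    have := HasRingHomProperty.appLE (P := @LocallyOfFinitePresentation) G.hom inferInstance
      ⟨V, hV⟩ ⟨_, hV.preimage G.hom⟩ le_rfl
    rw [← Scheme.Hom.app_eq_appLE] at this
    exact this
  have h4 : Module.FinitePresentation Γ(X, V) (Sec G V) :=
    Module.FinitePresentation.of_finite_of_finitePresentation _ _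
  have hp := (hV.primeIdealOf ⟨z, hz⟩).isPrime
  obtain ⟨s, hs, n, φ, hφ⟩ := exists_torIso_atPrime (A := Γ(X, V)) (B := Sec G V)
    (hV.primeIdealOf ⟨z, hz⟩).asIdeal
  obtain ⟨h5, h6⟩ := free_of_torIso G hV s φ hφ
  exact ⟨X.basicOpen s, hV.basicOpen s, (mem_basicOpen_iff hV hz s).mpr hs, h6, h5⟩

/-- **Main local result** -/
theorem finite_flat (G Q : Over X) [IsFinite G.hom] [Flat G.hom]
    [LocallyOfFinitePresentation G.hom] [IsAffineHom Q.hom] (U : X.Opens) [QuasiCompact U.ι]
    [OIso U.ι] [OIso (pullback.fst Q.hom U.ι)] [IsFinite (pullback.snd Q.hom U.ι)]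
    [Flat (pullback.snd Q.hom U.ι)] [LocallyOfFinitePresentation (pullback.snd Q.hom U.ι)]
    (s : G ⊗ Q ⟶ Q ⊗ Q) (hs : s ≫ snd Q Q = snd G Q) (hsU : IsIso ((Over.pullback U.ι).map s))
    (hZ : ∀ z : X, z ∉ U → IsRegularLocalRing (X.presheaf.stalk z) ∧
      (2 : WithBot ℕ∞) ≤ ringKrullDim (X.presheaf.stalk z)) :
    IsFinite Q.hom ∧ Flat Q.hom ∧ LocallyOfFinitePresentation Q.hom := by
  refine of_forall_exists Q.hom fun x => ?_
  by_cases hx : x ∈ U
  · exact ⟨U, hx, inferInstance, inferInstance, inferInstance⟩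
  · obtain ⟨V, hV, hz, h1, h2⟩ := exists_free_nhd G x
    obtain ⟨f, hf, n, φ, hφ⟩ := exists_torIso_sec G Q hV U h1 h2
      (fun W hWa hW => app_of_pullback Q.hom U hWa hW) s hs hsU hZ x hz hx
    exact ⟨X.basicOpen f, hf, snd_of_app Q.hom (hV.basicOpen f) (app_of_torIso Q hV f φ hφ)⟩

end K550.FinFlat
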