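import Groth.Agent.Divis.ReflexAlg
import Groth.Agent.CalgA.RegLoc

/-!
# Regular pairs in regular local rings
-/

set_option autoImplicit false

open IsLocalRing

namespace K550.RegPairs

open Groth.Agent.Divis.DepthTwo Groth.Agent.Divis.ReflexAlg

/-- the maximal ideal of a regular local ring of positive dimension is nonzero -/
theorem maximalIdeal_ne_bot {R : Type*} [CommRing R] [IsRegularLocalRing R]
    (h : 1 ≤ ringKrullDim R) : maximalIdeal R ≠ ⊥ := by
  intro hm
  rw [← IsRegularLocalRing.spanFinrank_maximalIdeal (R := R),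
    (Submodule.spanFinrank_eq_zero_iff_eq_bot (maximalIdeal R).fg_of_isNoetherianRing).mpr hm] at h
  exact absurd h (by decide)

theorem exists_notMem_sq {R : Type*} [CommRing R] [IsRegularLocalRing R]
    (h : 1 ≤ ringKrullDim R) : ∃ x ∈ maximalIdeal R, x ∉ maximalIdeal R ^ 2 := by
  obtain ⟨x, hx, hx2, -⟩ := Groth.Agent.CalgA.RegBasic.exists_notMem_sq_notMem_minimalPrimes
    (R := R) ∅ Set.finite_empty (by simp) (by simp) (maximalIdeal_ne_bot h)
  exact ⟨x, hx, hx2⟩

theorem ne_zero_of_notMem_sq {R : Type*} [CommRing R] [IsLocalRing R] {x : R}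
    (hx : x ∉ maximalIdeal R ^ 2) : x ≠ 0 := by
  rintro rfl
  exact hx (zero_mem _)

theorem isPrime_span_of_notMem_sq {R : Type*} [CommRing R] [IsRegularLocalRing R] {x : R}
    (hx : x ∈ maximalIdeal R) (hx2 : x ∉ maximalIdeal R ^ 2) : (Ideal.span {x}).IsPrime := by
  obtain ⟨hreg, -⟩ := Groth.Agent.CalgA.RegBasic.quotient_of_notMem_sq x hx hx2
  exact (Ideal.Quotient.isDomain_iff_prime _).mp (Groth.Agent.CalgA.RegBasic.isDomain _)

theorem regPair_of_notMem {R : Type*} [CommRing R] [IsRegularLocalRing R] {x y : R}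
    (hx : x ∈ maximalIdeal R) (hx2 : x ∉ maximalIdeal R ^ 2) (hy : y ∉ Ideal.span {x}) :
    RegPair x y R := by
  have := Groth.Agent.CalgA.RegBasic.isDomain R
  have hx0 := ne_zero_of_notMem_sq hx2
  have hprime := isPrime_span_of_notMem_sq hx hx2
  refine ⟨fun z hz => ?_, fun z w hzw => ?_⟩
  · simpa [hx0] using hz
  · have h3 : y * z ∈ Ideal.span {x} := by
      rw [Ideal.mem_span_singleton']
      exact ⟨w, by rw [← smul_eq_mul y z, hzw, smul_eq_mul, mul_comm]⟩
    have h4 := (hprime.mem_or_mem h3).resolve_left hy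
    rw [Ideal.mem_span_singleton'] at h4
    obtain ⟨k, hk⟩ := h4
    exact ⟨k, by rw [← hk, smul_eq_mul, mul_comm]⟩

/-- A regular local ring of dimension at least two has a regular pair. -/
theorem exists_regPair_of_regular {R : Type*} [CommRing R] [IsRegularLocalRing R]
    (h : 2 ≤ ringKrullDim R) : ∃ x ∈ maximalIdeal R, ∃ y ∈ maximalIdeal R, RegPair x y R := by
  obtain ⟨x, hx, hx2⟩ := exists_notMem_sq (le_trans (by decide) h)
  obtain ⟨hreg, hdim⟩ := Groth.Agent.CalgA.RegBasic.quotient_of_notMem_sq x hx hx2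
  have hdim1 : 1 ≤ ringKrullDim (R ⧸ Ideal.span {x}) := by
    rw [← ENat.WithBot.add_le_add_one_right_iff, hdim]
    exact h
  obtain ⟨y, hy, hy0⟩ : ∃ y ∈ maximalIdeal (R ⧸ Ideal.span {x}), y ≠ 0 := by
    by_contra! hcon
    exact maximalIdeal_ne_bot hdim1 (le_bot_iff.mp fun y hy => hcon y hy)
  obtain ⟨y, rfl⟩ := Ideal.Quotient.mk_surjective y
  refine ⟨x, hx, y, ?_, regPair_of_notMem hx hx2 fun h => hy0 (Ideal.Quotient.eq_zero_iff_mem.mpr h)⟩
  by_contra hyu
  have : IsUnit y := by simpa using hyu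
  exact hy (this.map _)

section localize

variable {R : Type*} [CommRing R] {M : Type*} [AddCommGroup M] [Module R M]

theorem _root_.Groth.Agent.Divis.DepthTwo.RegPair.unit_mul' {a b : R} (h : RegPair a b M) {u v : R}
    (hu : IsUnit u) (hv : IsUnit v) : RegPair (u * a) (v * b) M := by
  obtain ⟨u, rfl⟩ := hu
  obtain ⟨v, rfl⟩ := hv
  refine ⟨fun x hx => h.inj x ?_, fun x y hxy => ?_⟩
  · rw [mul_smul] at hx
    have := congr((↑u⁻¹ : R) • $hx)
    rwa [smul_smul, Units.inv_mul, one_smul, smul_zero] at this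
  · obtain ⟨z, hz⟩ := h.div x ((↑v⁻¹ * ↑u : R) • y) (by
      have := congr((↑v⁻¹ : R) • $hxy)
      rw [smul_smul, ← mul_assoc, Units.inv_mul, one_mul] at this
      rw [this, smul_smul, smul_smul]
      congr 1
      ring)
    refine ⟨(↑u⁻¹ : R) • z, ?_⟩
    rw [hz, smul_smul, mul_right_comm, Units.mul_inv, one_mul]

/-- a regular pair on `R_p` with entries in `p` -/
theorem exists_regPair_localizedModule (p : Ideal R) [p.IsPrime]
    (h : ∃ a ∈ maximalIdeal (Localization.AtPrime p), ∃ b ∈ maximalIdeal (Localization.AtPrime p),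
      RegPair a b (Localization.AtPrime p)) :
    ∃ a ∈ p, ∃ b ∈ p, RegPair a b (LocalizedModule p.primeCompl R) := by
  obtain ⟨α, hα, β, hβ, hab⟩ := h
  obtain ⟨⟨a, s⟩, has⟩ := IsLocalization.surj p.primeCompl α
  obtain ⟨⟨b, t⟩, hbt⟩ := IsLocalization.surj p.primeCompl β
  simp only at has hbt
  have ha : a ∈ p := by
    rw [← IsLocalization.AtPrime.to_map_mem_maximal_iff (Localization.AtPrime p) p, ← has]
    exact Ideal.mul_mem_right _ _ hα
  have hb : b ∈ p := by
    rw [← IsLocalization.AtPrime.to_map_mem_maximal_iff (Localization.AtPrime p) p, ← hbt]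
    exact Ideal.mul_mem_right _ _ hβ
  have h1 : RegPair (algebraMap R (Localization.AtPrime p) a) (algebraMap R _ b)
      (Localization.AtPrime p) := by
    rw [← has, ← hbt, mul_comm α, mul_comm β]
    exact hab.unit_mul' (IsLocalization.map_units _ s) (IsLocalization.map_units _ t)
  have h2 : RegPair a b (Localization.AtPrime p) :=
    ⟨fun x hx => h1.inj x (by rwa [algebraMap_smul]), fun x y hxy => by
      obtain ⟨z, hz⟩ := h1.div x y (by rwa [algebraMap_smul, algebraMap_smul])
      exact ⟨z, by rwa [algebraMap_smul] at hz⟩⟩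
  exact ⟨a, ha, b, hb, h2.congr (IsLocalizedModule.linearEquiv p.primeCompl
    (Algebra.linearMap R (Localization.AtPrime p)) (LocalizedModule.mkLinearMap p.primeCompl R))⟩

end localize

/-- An ideal of a regular local ring all of whose primes have local rings of dimension at least two
contains a regular pair. -/
theorem exists_regPair_ideal {R : Type*} [CommRing R] [IsRegularLocalRing R] (I : Ideal R)
    (h : ∀ p : Ideal R, ∀ _ : p.IsPrime, I ≤ p → IsRegularLocalRing (Localization.AtPrime p) ∧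
      2 ≤ ringKrullDim (Localization.AtPrime p)) :
    ∃ f ∈ I, ∃ g ∈ I, RegPair f g R := by
  refine exists_regPair I fun p hp hle => ?_
  obtain ⟨h1, h2⟩ := h p hp hle
  exact exists_regPair_localizedModule p (exists_regPair_of_regular h2)

end K550.RegPairs
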