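import Groth.Prelude.Def_ActBC

/-!
# Lifting group actions along a monoidal functor
-/

set_option autoImplicit false

open CategoryTheory Limits MonoidalCategory CartesianMonoidalCategory MonObj
open scoped CategoryTheory.Obj

namespace K550.ActUp

universe v₁ v₂ u₁ u₂

variable {C : Type u₁} [Category.{v₁} C] [CartesianMonoidalCategory C] {D : Type u₂}
  [Category.{v₂} D] [CartesianMonoidalCategory D] (F : C ⥤ D) [F.Monoidal] {G Q : C} [GrpObj G]
  (act : G ⊗ Q ⟶ Q) {P : D} (φ : F.obj Q ≅ P) (bact : F.obj G ⊗ P ⟶ P)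

open Functor.LaxMonoidal

omit [GrpObj G] in
lemma mu_map_act (h : Functor.LaxMonoidal.μ F G Q ≫ F.map act ≫ φ.hom = (F.obj G ◁ φ.hom) ≫ bact) :
    Functor.LaxMonoidal.μ F G Q ≫ F.map act = (F.obj G ◁ φ.hom) ≫ bact ≫ φ.inv := by
  rw [← Category.assoc, Iso.eq_comp_inv, ← h, Category.assoc]

theorem map_one_act
    (h : Functor.LaxMonoidal.μ F G Q ≫ F.map act ≫ φ.hom = (F.obj G ◁ φ.hom) ≫ bact)
    (hb : (η[F.obj G] ▷ P) ≫ bact = (λ_ P).hom) :
    F.map ((η[G] ▷ Q) ≫ act) = F.map (λ_ Q).hom := by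
  rw [← cancel_epi (Functor.LaxMonoidal.μ F (𝟙_ C) Q),
    ← cancel_epi (Functor.LaxMonoidal.ε F ▷ F.obj Q), ← Functor.LaxMonoidal.left_unitality,
    Functor.map_comp, ← Functor.LaxMonoidal.μ_natural_left_assoc, mu_map_act F act φ bact h,
    ← comp_whiskerRight_assoc, ← Functor.obj.η_def, ← whisker_exchange_assoc, reassoc_of% hb,
    leftUnitor_naturality_assoc, Iso.hom_inv_id, Category.comp_id]

theorem map_mul_act
    (h : Functor.LaxMonoidal.μ F G Q ≫ F.map act ≫ φ.hom = (F.obj G ◁ φ.hom) ≫ bact)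
    (hb : (μ[F.obj G] ▷ P) ≫ bact = (α_ _ _ _).hom ≫ (F.obj G ◁ bact) ≫ bact) :
    F.map ((μ[G] ▷ Q) ≫ act) = F.map ((α_ G G Q).hom ≫ (G ◁ act) ≫ act) := by
  have h' := mu_map_act F act φ bact h
  rw [← cancel_epi (Functor.LaxMonoidal.μ F (G ⊗ G) Q),
    ← cancel_epi (Functor.LaxMonoidal.μ F G G ▷ F.obj Q),
    Functor.map_comp, Functor.map_comp, Functor.map_comp,
    ← Functor.LaxMonoidal.μ_natural_left_assoc, h', ← comp_whiskerRight_assoc, ← Functor.obj.μ_def,
    ← whisker_exchange_assoc, reassoc_of% hb, Functor.LaxMonoidal.associativity_assoc,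
    ← Functor.LaxMonoidal.μ_natural_right_assoc, h', ← whiskerLeft_comp_assoc, h']
  simp only [MonoidalCategory.whiskerLeft_comp, Category.assoc,
    MonoidalCategory.whiskerLeft_inv_hom_assoc, tensor_whiskerLeft, Iso.inv_hom_id_assoc]

omit [GrpObj G] in
theorem isIso_map_shear
    (h : Functor.LaxMonoidal.μ F G Q ≫ F.map act ≫ φ.hom = (F.obj G ◁ φ.hom) ≫ bact)
    [IsIso (lift bact (snd (F.obj G) P))] : IsIso (F.map (lift act (snd G Q))) := by
  have h' := mu_map_act F act φ bact h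
  have key : Functor.LaxMonoidal.μ F G Q ≫ F.map (lift act (snd G Q)) ≫
      Functor.OplaxMonoidal.δ F Q Q =
      (F.obj G ◁ φ.hom) ≫ lift bact (snd (F.obj G) P) ≫ (φ.inv ⊗ₘ φ.inv) := by
    rw [Functor.OplaxMonoidal.lift_δ, comp_lift, h', Functor.Monoidal.μ_snd]
    apply CartesianMonoidalCategory.hom_ext <;> simp
  have h1 : IsIso (Functor.LaxMonoidal.μ F G Q ≫ F.map (lift act (snd G Q)) ≫
      Functor.OplaxMonoidal.δ F Q Q) := by
    rw [key]; infer_instance
  have h2 := IsIso.of_isIso_comp_left (Functor.LaxMonoidal.μ F G Q)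
    (F.map (lift act (snd G Q)) ≫ Functor.OplaxMonoidal.δ F Q Q)
  exact IsIso.of_isIso_comp_right _ (Functor.OplaxMonoidal.δ F Q Q)

end K550.ActUp
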