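import Mathlib.Algebra.Module.FinitePresentation
import Mathlib.RingTheory.Finiteness.Ideal
import Mathlib.RingTheory.LocalRing.MaximalIdeal.Basic
import Mathlib.RingTheory.Localization.AtPrime.Basic
import Mathlib.Algebra.Module.LocalizedModule.AtPrime
import Mathlib.Algebra.Module.Projective

/-!
# The splitting ideal of a surjection onto a module which is projective on the punctured spectrum
-/

set_option autoImplicit false

open IsLocalRing

namespace K550.SplitId

variable {R : Type*} [CommRing R] {F N : Type*} [AddCommGroup F] [Module R F] [AddCommGroup N]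
  [Module R N] (π : F →ₗ[R] N)

/-- the ideal of `s` such that `s • id` factors through `π` -/
def splitIdeal : Ideal R where
  carrier := {s | ∃ σ : N →ₗ[R] F, π ∘ₗ σ = s • LinearMap.id}
  add_mem' := by
    rintro a b ⟨σ, hσ⟩ ⟨τ, hτ⟩
    exact ⟨σ + τ, by rw [LinearMap.comp_add, hσ, hτ, add_smul]⟩
  zero_mem' := ⟨0, by simp⟩
  smul_mem' := by
    rintro c a ⟨σ, hσ⟩
    exact ⟨c • σ, by rw [LinearMap.comp_smul, hσ, smul_smul, smul_eq_mul]⟩

theorem mem_splitIdeal {s : R} : s ∈ splitIdeal π ↔ ∃ σ : N →ₗ[R] F, ∀ n, π (σ n) = s • n :=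
  ⟨fun ⟨σ, hσ⟩ => ⟨σ, fun n => LinearMap.congr_fun hσ n⟩, fun ⟨σ, hσ⟩ => ⟨σ, LinearMap.ext hσ⟩⟩

theorem exists_notMem_of_projective [Module.FinitePresentation R N]
    (hπ : Function.Surjective π) (p : Ideal R) [p.IsPrime]
    [Module.Projective (Localization.AtPrime p) (LocalizedModule p.primeCompl N)] :
    ∃ s ∉ p, s ∈ splitIdeal π := by
  let lF := LocalizedModule.mkLinearMap p.primeCompl F
  let lN := LocalizedModule.mkLinearMap p.primeCompl N
  have hs : Function.Surjective (LocalizedModule.map p.primeCompl π) :=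
    LocalizedModule.map_surjective _ _ hπ
  obtain ⟨σ', hσ'⟩ := Module.projective_lifting_property (LocalizedModule.map p.primeCompl π)
    LinearMap.id hs
  obtain ⟨σ, s, hσ⟩ := Module.FinitePresentation.exists_lift_of_isLocalizedModule p.primeCompl lF
    ((σ'.restrictScalars R) ∘ₗ lN)
  have h1 : lN ∘ₗ (π ∘ₗ σ) = lN ∘ₗ ((s : R) • LinearMap.id) := by
    ext n
    have h2 := LinearMap.congr_fun hσ n
    simp only [LinearMap.comp_apply, LinearMap.smul_apply, LinearMap.coe_restrictScalars,
      LinearMap.id_apply] at h2 ⊢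
    have h3 : lN (π (σ n)) = LocalizedModule.map p.primeCompl π (lF (σ n)) := by
      simp [lN, lF, LocalizedModule.map_mk]
    have h4 := LinearMap.congr_fun hσ' (lN n)
    simp only [LinearMap.comp_apply, LinearMap.id_apply] at h4
    rw [h3, h2, Submonoid.smul_def, LinearMap.map_smul_of_tower, h4, map_smul]
  obtain ⟨t, ht⟩ := Module.Finite.exists_smul_of_comp_eq_of_isLocalizedModule p.primeCompl lN _ _ h1
  refine ⟨t * s, (t * s).2, (mem_splitIdeal π).mpr ⟨(t : R) • σ, fun n => ?_⟩⟩
  have := LinearMap.congr_fun ht n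
  simp only [LinearMap.smul_apply, LinearMap.comp_apply, LinearMap.id_apply,
    Submonoid.smul_def] at this
  rw [LinearMap.smul_apply, map_smul, this, mul_smul]

theorem exists_pow_le [IsLocalRing R] [IsNoetherianRing R] [Module.Finite R N]
    (hπ : Function.Surjective π)
    (h : ∀ (p : Ideal R) [p.IsPrime], p ≠ maximalIdeal R →
      Module.Projective (Localization.AtPrime p) (LocalizedModule p.primeCompl N)) :
    ∃ k : ℕ, maximalIdeal R ^ k ≤ splitIdeal π := by
  have := Module.finitePresentation_of_finite R N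
  refine Ideal.exists_pow_le_of_le_radical_of_fg ?_ (maximalIdeal R).fg_of_isNoetherianRing
  rw [Ideal.radical_eq_sInf]
  refine le_sInf fun p ⟨hp, hpr⟩ => ?_
  by_contra hcon
  have := h p (fun he => hcon he.ge)
  obtain ⟨s, hs, hs'⟩ := exists_notMem_of_projective π hπ p
  exact hs (hp hs')

end K550.SplitId
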