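import Groth.Agent.NonAbH1.K550.RegDepth
import Groth.Agent.NonAbH1.K550.SplitId
import Mathlib.LinearAlgebra.Contraction
import Mathlib.LinearAlgebra.TensorProduct.Pi
import Mathlib.LinearAlgebra.Dimension.Torsion.Finite
import Mathlib.LinearAlgebra.Dimension.Localization
import Mathlib.LinearAlgebra.TensorProduct.RightExactness
import Mathlib.RingTheory.Finiteness.Prod

/-!
# Auslander's theorem in dimension three

`0 → R^a → R^b → N → 0` with matrix entries in the maximal ideal, `End(N) ≅ N^r` and `N` projective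
on the punctured spectrum: then `a = 0`.
-/

set_option autoImplicit false
universe u

open CategoryTheory Abelian IsLocalRing TensorProduct

namespace K550.Aus3

open Groth.Agent.CalgA Groth.Agent.CalgA.RegProjDim K550.ExtLen K550.RegDepth K550.SplitId

variable {R : Type u} [CommRing R] {a b : ℕ}
  (φ : (Fin a → R) →ₗ[R] (Fin b → R)) {N : Type u} [AddCommGroup N] [Module R N]
  (π : (Fin b → R) →ₗ[R] N)

/-- the cokernel of the transposed map -/
abbrev E : Type u := Module.Dual R (Fin a → R) ⧸ LinearMap.range φ.dualMap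

/-- precomposition with `φ` -/
noncomputable abbrev ψ (P : Type u) [AddCommGroup P] [Module R P] :
    ((Fin b → R) →ₗ[R] P) →ₗ[R] ((Fin a → R) →ₗ[R] P) := LinearMap.lcomp R P φ

/-- `Ext^1(N, P)` -/
abbrev T (P : Type u) [AddCommGroup P] [Module R P] : Type u :=
  ((Fin a → R) →ₗ[R] P) ⧸ LinearMap.range (ψ φ P)

variable {φ π}

/-- for `s` in the splitting ideal, `s` on `R^a` extends to `R^b` -/
theorem exists_extend (hφ : Function.Injective φ) (hex : Function.Exact φ π) {s : R}
    (hs : s ∈ splitIdeal π) :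
    ∃ τ : (Fin b → R) →ₗ[R] (Fin a → R), ∀ v, τ (φ v) = s • v := by
  obtain ⟨σ, hσ⟩ := (mem_splitIdeal π).mp hs
  let ρ : (Fin b → R) →ₗ[R] (Fin b → R) := s • LinearMap.id - σ ∘ₗ π
  have hρ : ∀ w, ρ w ∈ LinearMap.range φ := by
    intro w
    have : π (ρ w) = 0 := by simp [ρ, hσ]
    exact (hex (ρ w)).mp this
  let e := LinearEquiv.ofInjective φ hφ
  refine ⟨e.symm.toLinearMap ∘ₗ ρ.codRestrict (LinearMap.range φ) hρ, fun v => ?_⟩
  apply e.injective
  ext1
  have h1 : π (φ v) = 0 := (hex (φ v)).mpr ⟨v, rfl⟩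
  simp [ρ, e, h1]

theorem T_smul_eq_zero (hφ : Function.Injective φ) (hex : Function.Exact φ π) {s : R}
    (hs : s ∈ splitIdeal π) (P : Type u) [AddCommGroup P] [Module R P] (t : T φ P) :
    s • t = 0 := by
  obtain ⟨τ, hτ⟩ := exists_extend hφ hex hs
  obtain ⟨h, rfl⟩ := Submodule.mkQ_surjective _ t
  rw [← map_smul, Submodule.mkQ_apply, Submodule.Quotient.mk_eq_zero]
  refine ⟨h ∘ₗ τ, ?_⟩
  ext v
  simp [hτ]

theorem E_smul_eq_zero (hφ : Function.Injective φ) (hex : Function.Exact φ π) {s : R}
    (hs : s ∈ splitIdeal π) (t : E φ) : s • t = 0 :=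
  T_smul_eq_zero hφ hex hs R t

section lengths

variable [IsLocalRing R]

/-- the socle of a nonzero module killed by a power of the maximal ideal -/
theorem exists_socle {T : Type*} [AddCommGroup T] [Module R T] [Nontrivial T] (k : ℕ)
    (h : ∀ s ∈ maximalIdeal R ^ k, ∀ t : T, s • t = 0) :
    ∃ t : T, t ≠ 0 ∧ ∀ s ∈ maximalIdeal R, s • t = 0 := by
  induction k with
  | zero =>
    obtain ⟨t, ht⟩ := exists_ne (0 : T)
    have := h 1 (by simp) t
    rw [one_smul] at this
    exact absurd this ht
  | succ k ih =>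
    by_cases hk : ∀ s ∈ maximalIdeal R ^ k, ∀ t : T, s • t = 0
    · exact ih hk
    · push Not at hk
      obtain ⟨s, hs, t, hst⟩ := hk
      refine ⟨s • t, hst, fun r hr => ?_⟩
      rw [smul_smul]
      exact h _ (by rw [pow_succ']; exact Ideal.mul_mem_mul hr hs) t

/-- the lower bound on the length of `E ⊗ N` -/
theorem lower_bound (hex : Function.Exact φ π) (hπ : Function.Surjective π)
    (hmem : ∀ v j, φ v j ∈ maximalIdeal R) (ha : a ≠ 0) (ε : E φ) (hε : ε ≠ 0)
    (hε' : ∀ s ∈ maximalIdeal R, s • ε = 0) :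
    (b : ℕ∞) * Module.length R (E φ) + 1 ≤
      (a : ℕ∞) * Module.length R (E φ) + Module.length R (E φ ⊗[R] N) := by
  classical
  let u := φ.lTensor (E φ)
  let v := π.lTensor (E φ)
  have huv : Function.Exact u v := lTensor_exact (E φ) hex hπ
  have hv : Function.Surjective v := LinearMap.lTensor_surjective _ hπ
  have e1 : Module.length R (E φ ⊗[R] (Fin b → R)) =
      Module.length R (LinearMap.range u) + Module.length R (E φ ⊗[R] N) := by
    refine Module.length_eq_add_of_exact (LinearMap.range u).subtype v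
      (Submodule.injective_subtype _) hv ?_
    intro x
    rw [huv x]
    simp
  have e2 : Module.length R (E φ ⊗[R] (Fin a → R)) =
      Module.length R (LinearMap.ker u) + Module.length R (LinearMap.range u) := by
    refine Module.length_eq_add_of_exact (LinearMap.ker u).subtype u.rangeRestrict
      (Submodule.injective_subtype _) u.surjective_rangeRestrict ?_
    intro x
    constructor
    · intro hx
      exact ⟨⟨x, by simpa [Subtype.ext_iff] using hx⟩, rfl⟩
    · rintro ⟨y, rfl⟩
      ext
      exact y.2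
  have e3 (c : ℕ) : Module.length R (E φ ⊗[R] (Fin c → R)) = (c : ℕ∞) * Module.length R (E φ) := by
    rw [(TensorProduct.piScalarRight R R (E φ) (Fin c)).length_eq, Module.length_pi]
    simp
  have e4 : 1 ≤ Module.length R (LinearMap.ker u) := by
    rw [Order.one_le_iff_pos, Module.length_pos_iff]
    let i : Fin a := ⟨0, Nat.pos_of_ne_zero ha⟩
    refine ⟨⟨ε ⊗ₜ Pi.single i 1, ?_⟩, 0, ?_⟩
    · rw [LinearMap.mem_ker]
      change ε ⊗ₜ[R] φ (Pi.single i 1) = 0
      have h1 : φ (Pi.single i 1) = ∑ j, φ (Pi.single i 1) j • Pi.single j (1 : R) := by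
        ext j
        simp [Finset.sum_apply, Pi.single_apply]
      rw [h1, tmul_sum]
      refine Finset.sum_eq_zero fun j _ => ?_
      rw [← smul_tmul, hε' _ (hmem _ _), zero_tmul]
    · intro h
      have h1 : ε ⊗ₜ[R] (Pi.single i 1 : Fin a → R) = 0 := congrArg Subtype.val h
      have h2 := congrArg (fun x => TensorProduct.piScalarRight R R (E φ) (Fin a) x i) h1
      simp at h2
      exact hε h2
  rw [e3] at e1 e2
  rw [e1, e2]
  calc Module.length R (LinearMap.range u) + Module.length R (E φ ⊗[R] N) + 1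
      = 1 + Module.length R (LinearMap.range u) + Module.length R (E φ ⊗[R] N) := by ring
    _ ≤ Module.length R (LinearMap.ker u) + Module.length R (LinearMap.range u) +
        Module.length R (E φ ⊗[R] N) := by gcongr

end lengths

/-- `E ⊗ N` is a quotient of `Ext^1(N, N)` -/
theorem length_tensor_le (φ : (Fin a → R) →ₗ[R] (Fin b → R)) (N : Type u) [AddCommGroup N]
    [Module R N] : Module.length R (E φ ⊗[R] N) ≤ Module.length R (T φ N) := by
  let q : ((Fin a → R) →ₗ[R] N) →ₗ[R] (E φ ⊗[R] N) :=
    (LinearMap.range φ.dualMap).mkQ.rTensor N ∘ₗ (dualTensorHomEquiv R (Fin a → R) N).symm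
  have hq : Function.Surjective q :=
    (LinearMap.rTensor_surjective N (Submodule.mkQ_surjective _)).comp
      (dualTensorHomEquiv R (Fin a → R) N).symm.surjective
  have hker : LinearMap.range (ψ φ N) ≤ LinearMap.ker q := by
    rintro _ ⟨θ, rfl⟩
    obtain ⟨t, rfl⟩ := (dualTensorHomEquiv R (Fin b → R) N).surjective θ
    have key : ∀ t, ψ φ N (dualTensorHomEquiv R (Fin b → R) N t) =
        dualTensorHomEquiv R (Fin a → R) N (φ.dualMap.rTensor N t) := by
      intro t
      induction t using TensorProduct.induction_on with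
      | zero => simp
      | tmul l n =>
        ext v
        simp [dualTensorHomEquiv, dualTensorHom_apply]
      | add x y hx hy => simp only [map_add, hx, hy]
    rw [LinearMap.mem_ker, key]
    simp only [q, LinearMap.comp_apply, LinearEquiv.coe_coe, LinearEquiv.symm_apply_apply]
    rw [← LinearMap.comp_apply, ← LinearMap.rTensor_comp]
    have : (LinearMap.range φ.dualMap).mkQ ∘ₗ φ.dualMap = 0 := by
      ext x
      simp
    rw [this, LinearMap.rTensor_zero, LinearMap.zero_apply]
  refine Module.length_le_of_surjective (Submodule.liftQ _ q hker) fun x => ?_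
  obtain ⟨y, rfl⟩ := hq x
  exact ⟨Submodule.mkQ _ y, by simp⟩

/-- `Ext^1(N, R)` is a quotient of `E` -/
theorem length_X_one_le (hφ : Function.Injective φ) (hex : Function.Exact φ π)
    (hπ : Function.Surjective π) : Module.length R (X R N 1) ≤ Module.length R (E φ) := by
  have hb : Subsingleton (X R (Fin b → R) 1) :=
    subsingleton_X_of_PD (Fin b → R) (PD.of_projective (n := 1) le_rfl) le_rfl
  let m : Module.Dual R (Fin a → R) →ₗ[R] X R (Fin a → R) 0 :=
    { toFun := fun l => Ext.mk₀ (ModuleCat.ofHom l)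
      map_add' := fun l l' => by rw [ModuleCat.ofHom_add, Ext.mk₀_add]
      map_smul' := fun r l => by
        have : ModuleCat.ofHom (r • l) = r • ModuleCat.ofHom l := rfl
        rw [this, Ext.mk₀_smul]; rfl }
  have hm : Function.Surjective m := by
    intro y
    obtain ⟨f, rfl⟩ := (Ext.mk₀_bijective _ _).2 y
    exact ⟨f.hom, rfl⟩
  let q : Module.Dual R (Fin a → R) →ₗ[R] X R N (1 + 0) := δ φ π hφ hex hπ 0 ∘ₗ m
  have hq : Function.Surjective q := by
    intro y
    obtain ⟨z, rfl⟩ := (exact₃ φ π hφ hex hπ 0 y).mp (Subsingleton.elim (α := X R (Fin b → R) 1) _ _)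
    obtain ⟨l, rfl⟩ := hm z
    exact ⟨l, rfl⟩
  have hker : LinearMap.range φ.dualMap ≤ LinearMap.ker q := by
    rintro _ ⟨l, rfl⟩
    rw [LinearMap.mem_ker]
    refine (exact₁ φ π hφ hex hπ 0 _).mpr ⟨Ext.mk₀ (ModuleCat.ofHom l), ?_⟩
    change (Ext.mk₀ (ModuleCat.ofHom φ)).comp (Ext.mk₀ (ModuleCat.ofHom l)) (zero_add 0) =
      Ext.mk₀ (ModuleCat.ofHom (φ.dualMap l))
    rw [Ext.mk₀_comp_mk₀]
    rfl
  refine Module.length_le_of_surjective (Submodule.liftQ _ q hker) fun x => ?_
  obtain ⟨y, rfl⟩ := hq x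
  exact ⟨Submodule.mkQ _ y, by simp⟩

/-- `Ext^n(M^r, R)` is a quotient of `Ext^n(M, R)^r` -/
theorem length_X_pi_le (M : Type u) [AddCommGroup M] [Module R M] (r n : ℕ) :
    Module.length R (X R (Fin r → M) n) ≤ r * Module.length R (X R M n) := by
  classical
  let q : (Fin r → X R M n) →ₗ[R] X R (Fin r → M) n :=
    ∑ i, pull (LinearMap.proj i : (Fin r → M) →ₗ[R] M) n ∘ₗ LinearMap.proj i
  have hq : Function.Surjective q := by
    intro y
    refine ⟨fun i => pull (LinearMap.single R (fun _ : Fin r => M) i) n y, ?_⟩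
    let Φ : ((Fin r → M) →ₗ[R] (Fin r → M)) →+ X R (Fin r → M) n :=
      AddMonoidHom.mk' (fun g => pull g n y) (by
        intro g h
        change (Ext.mk₀ (ModuleCat.ofHom (g + h))).comp y (zero_add n) = _
        rw [ModuleCat.ofHom_add, Ext.mk₀_add, Ext.add_comp]
        rfl)
    have h1 : ∑ i, (LinearMap.single R (fun _ : Fin r => M) i) ∘ₗ
        (LinearMap.proj i : (Fin r → M) →ₗ[R] M) = LinearMap.id := by
      ext i m j
      simp [Pi.single_apply]
    calc q (fun i => pull (LinearMap.single R (fun _ : Fin r => M) i) n y)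
        = ∑ i, Φ ((LinearMap.single R (fun _ : Fin r => M) i) ∘ₗ
          (LinearMap.proj i : (Fin r → M) →ₗ[R] M)) := by
          simp only [q, LinearMap.sum_apply, LinearMap.comp_apply, LinearMap.proj_apply]
          exact Finset.sum_congr rfl fun i _ => (pull_comp _ _ n y).symm
      _ = y := by rw [← map_sum, h1]; exact pull_id n y
  calc Module.length R (X R (Fin r → M) n) ≤ Module.length R (Fin r → X R M n) :=
        Module.length_le_of_surjective q hq
    _ = _ := by rw [Module.length_pi]; simp

theorem projective_pi (K : Type u) [AddCommGroup K] [Module R K] [Module.Projective R K] (c : ℕ) :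
    Module.Projective R (Fin c → K) := by
  classical
  exact Module.Projective.of_equiv (DFinsupp.linearEquivFunOnFintype (R := R) (M := fun _ : Fin c => K))

theorem finrank_pi' [IsDomain R] (K : Type u) [AddCommGroup K] [Module R K] [Module.Finite R K]
    (c : ℕ) : Module.finrank R (Fin c → K) = c * Module.finrank R K := by
  induction c with
  | zero => rw [zero_mul]; exact Module.finrank_zero_of_subsingleton
  | succ c ih =>
    have h1 : Module.Finite R (Fin c → K) := Module.Finite.pi
    have h2 : Module.Finite R (K × (Fin c → K)) := inferInstance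
    rw [← (Fin.consLinearEquiv R (fun _ : Fin (c + 1) => K)).finrank_eq]
    have h := Submodule.finrank_quotient_add_finrank (R := R)
      (LinearMap.ker (LinearMap.fst R K (Fin c → K)))
    rw [((LinearMap.fst R K (Fin c → K)).quotKerEquivOfSurjective
      LinearMap.fst_surjective).finrank_eq, LinearMap.ker_fst,
      ← (LinearEquiv.ofInjective (LinearMap.inr R K (Fin c → K))
        LinearMap.inr_injective).finrank_eq, ih] at h
    change Module.finrank R (K × (Fin c → K)) = _
    rw [← h]
    ring

theorem PD_pi (hN : PD R N 2) (c : ℕ) : PD R (Fin c → N) 2 := by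
  obtain ⟨F, _, _, _, g, hg⟩ := exists_free_cover R N
  have hexg : Function.Exact (LinearMap.ker g).subtype g := LinearMap.exact_subtype_ker_map g
  have hinj := (LinearMap.ker g).injective_subtype
  have hK : PD R (LinearMap.ker g) 1 := (PD.ses_iff _ g hinj hexg hg 0).mp hN
  have := PD.one_iff.mp hK
  let eK : (Fin c → LinearMap.ker g) →ₗ[R] (Fin c → F) :=
    LinearMap.pi fun i => (LinearMap.ker g).subtype ∘ₗ LinearMap.proj i
  let eg : (Fin c → F) →ₗ[R] (Fin c → N) := LinearMap.pi fun i => g ∘ₗ LinearMap.proj i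
  refine (PD.ses_iff eK eg ?_ ?_ ?_ 0).mpr (PD.one_iff.mpr (projective_pi _ c))
  · intro x y hxy
    ext i
    exact congrFun hxy i
  · intro x
    constructor
    · intro hx
      exact ⟨fun i => ⟨x i, congrFun hx i⟩, rfl⟩
    · rintro ⟨y, rfl⟩
      ext i
      exact (y i).2
  · intro x
    choose y hy using fun i => hg (x i)
    exact ⟨y, funext hy⟩

/-- `Hom(R^c, N)` has projective dimension at most one if `N` does -/
theorem PD_hom (hN : PD R N 2) (c : ℕ) : PD R ((Fin c → R) →ₗ[R] N) 2 :=
  PD.of_linearEquiv (Module.piEquiv (Fin c) R N) (PD_pi hN c)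

variable (φ) in
/-- the kernel of precomposition with `φ` -/
noncomputable def kerEquiv (hex : Function.Exact φ π) (hπ : Function.Surjective π) :
    (N →ₗ[R] N) ≃ₗ[R] LinearMap.ker (ψ φ N) :=
  LinearEquiv.ofBijective ((LinearMap.lcomp R N π).codRestrict _ (fun f => by
    rw [LinearMap.mem_ker]
    ext v
    have : π (φ (Pi.single v 1)) = 0 := (hex _).mpr ⟨_, rfl⟩
    simp [this])) (by
    constructor
    · intro f g hfg
      ext n
      obtain ⟨v, rfl⟩ := hπ n
      exact LinearMap.congr_fun (congrArg Subtype.val hfg) v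
    · rintro ⟨g, hg⟩
      have hker : LinearMap.ker π ≤ LinearMap.ker g := by
        intro v hv
        obtain ⟨w, rfl⟩ := (hex v).mp hv
        exact LinearMap.congr_fun hg w
      refine ⟨(LinearMap.ker π).liftQ g hker ∘ₗ (π.quotKerEquivOfSurjective hπ).symm, ?_⟩
      ext1
      refine LinearMap.ext fun v => ?_
      have : (π.quotKerEquivOfSurjective hπ).symm (π v) = Submodule.Quotient.mk v := by
        rw [LinearEquiv.symm_apply_eq]
        rfl
      change (LinearMap.ker π).liftQ g hker ((π.quotKerEquivOfSurjective hπ).symm (π v)) = g v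
      rw [this]
      rfl)

/-- the upper bound on the length of `Ext^1(N, N)` -/
theorem upper_bound [IsRegularLocalRing R] (hd : ringKrullDim R = 3)
    (hφ : Function.Injective φ) (hex : Function.Exact φ π)
    (hπ : Function.Surjective π) (k : ℕ) (hk : maximalIdeal R ^ k ≤ splitIdeal π) (r : ℕ)
    (e : (N →ₗ[R] N) ≃ₗ[R] (Fin r → N)) :
    Module.length R (T φ N) ≤ r * Module.length R (E φ) := by
  have hN : Module.Finite R N := Module.Finite.of_surjective π hπ
  have hPN : PD R N 2 := by
    refine (PD.ses_iff φ π hφ hex hπ 0).mpr (PD.one_iff.mpr inferInstance)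
  have hPa := PD_hom hPN a
  have hPb := PD_hom hPN b
  have hTfin : IsFiniteLength R (T φ N) := isFiniteLength_of_pow_smul k
    (fun s hs t => T_smul_eq_zero hφ hex (hk hs) N t)
  have h1 : Module.length R (T φ N) ≤ Module.length R (X R (T φ N) (1 + 2)) :=
    length_le_ext_of_regular 2 (by rw [hd]; rfl) _ hTfin
  let Z := LinearMap.range (ψ φ N)
  have hexZ : Function.Exact Z.subtype Z.mkQ := LinearMap.exact_subtype_mkQ Z
  have h2 : Module.length R (X R (T φ N) (1 + 2)) ≤ Module.length R (X R Z 2) := by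
    refine Module.length_le_of_surjective (δ Z.subtype Z.mkQ Z.injective_subtype hexZ
      Z.mkQ_surjective 2) fun y => ?_
    have := subsingleton_X_of_PD ((Fin a → R) →ₗ[R] N) hPa (i := 1 + 2) (by omega)
    exact (exact₃ Z.subtype Z.mkQ Z.injective_subtype hexZ Z.mkQ_surjective 2 y).mp
      (Subsingleton.elim _ _)
  let H := LinearMap.ker (ψ φ N)
  have hexH : Function.Exact H.subtype (ψ φ N).rangeRestrict := by
    intro x
    constructor
    · intro hx
      exact ⟨⟨x, by simpa [Subtype.ext_iff] using! hx⟩, rfl⟩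
    · rintro ⟨y, rfl⟩
      ext1
      exact y.2
  have h3 : Module.length R (X R Z 2) ≤ Module.length R (X R H 1) := by
    refine Module.length_le_of_surjective (δ H.subtype (ψ φ N).rangeRestrict H.injective_subtype
      hexH (ψ φ N).surjective_rangeRestrict 1) fun y => ?_
    have := subsingleton_X_of_PD ((Fin b → R) →ₗ[R] N) hPb (i := 1 + 1) (by omega)
    exact (exact₃ H.subtype (ψ φ N).rangeRestrict H.injective_subtype
      hexH (ψ φ N).surjective_rangeRestrict 1 y).mp (Subsingleton.elim _ _)
  let ε : (Fin r → N) ≃ₗ[R] H := e.symm.trans (kerEquiv φ hex hπ)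
  have h4 : Module.length R (X R H 1) ≤ Module.length R (X R (Fin r → N) 1) := by
    refine Module.length_le_of_injective (pull ε.toLinearMap 1) fun y z hyz => ?_
    have h5 := congrArg (pull ε.symm.toLinearMap 1) hyz
    rw [← pull_comp, ← pull_comp] at h5
    have h6 : ε.toLinearMap ∘ₗ ε.symm.toLinearMap = LinearMap.id := by ext; simp
    rwa [h6, pull_id, pull_id] at h5
  calc Module.length R (T φ N) ≤ Module.length R (X R (Fin r → N) 1) :=
        h1.trans (h2.trans (h3.trans h4))
    _ ≤ r * Module.length R (X R N 1) := length_X_pi_le N r 1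
    _ ≤ r * Module.length R (E φ) := by gcongr; exact length_X_one_le hφ hex hπ

/-- the rank of `N` is `r` -/
theorem rank_eq [IsRegularLocalRing R] (hφ : Function.Injective φ) (hex : Function.Exact φ π)
    (hπ : Function.Surjective π) [Module.IsTorsionFree R N] [Nontrivial N]
    (hT : Module.IsTorsion R (T φ N)) (r : ℕ) (e : (N →ₗ[R] N) ≃ₗ[R] (Fin r → N)) :
    a + r = b := by
  have := RegBasic.isDomain R
  have hN : Module.Finite R N := Module.Finite.of_surjective π hπ
  have h1 : Module.finrank R N + a = b := by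
    have h := Submodule.finrank_quotient_add_finrank (R := R) (LinearMap.ker π)
    rw [(π.quotKerEquivOfSurjective hπ).finrank_eq, Module.finrank_fin_fun] at h
    have h2 : LinearMap.ker π = LinearMap.range φ := LinearMap.exact_iff.mp hex
    rwa [h2, ← (LinearEquiv.ofInjective φ hφ).finrank_eq, Module.finrank_fin_fun] at h
  have h0 : Module.finrank R N ≠ 0 := by
    intro h0
    rw [Module.finrank_eq_zero_iff_isTorsion] at h0
    obtain ⟨n, hn⟩ := exists_ne (0 : N)
    obtain ⟨s, hs⟩ := @h0 n
    exact hn ((smul_eq_zero_iff_right (nonZeroDivisors.ne_zero s.2)).mp hs)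
  have hc (c : ℕ) : Module.finrank R ((Fin c → R) →ₗ[R] N) = c * Module.finrank R N := by
    rw [← (Module.piEquiv (Fin c) R N).finrank_eq, finrank_pi']
  have hT0 : Module.finrank R (T φ N) = 0 := Module.finrank_eq_zero_iff_isTorsion.mpr hT
  have h3 := Submodule.finrank_quotient_add_finrank (R := R) (LinearMap.range (ψ φ N))
  have h4 := Submodule.finrank_quotient_add_finrank (R := R) (LinearMap.ker (ψ φ N))
  rw [(ψ φ N).quotKerEquivRange.finrank_eq, hc] at h4
  rw [hT0, hc, zero_add] at h3
  rw [h3] at h4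
  have h5 : Module.finrank R (LinearMap.ker (ψ φ N)) = r * Module.finrank R N := by
    rw [← (kerEquiv φ hex hπ).finrank_eq, e.finrank_eq, finrank_pi']
  rw [h5, ← add_mul] at h4
  exact Nat.eq_of_mul_eq_mul_right (Nat.pos_of_ne_zero h0) h4

/-- the main step -/
theorem a_eq_zero [IsRegularLocalRing R] (hd : ringKrullDim R = 3)
    (hφ : Function.Injective φ) (hex : Function.Exact φ π)
    (hπ : Function.Surjective π) (hmem : ∀ v j, φ v j ∈ maximalIdeal R)
    [Module.IsTorsionFree R N] [Nontrivial N]
    (k : ℕ) (hk : maximalIdeal R ^ k ≤ splitIdeal π) (r : ℕ)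
    (e : (N →ₗ[R] N) ≃ₗ[R] (Fin r → N)) : a = 0 := by
  classical
  by_contra ha
  have := RegBasic.isDomain R
  have hm : maximalIdeal R ≠ ⊥ := by
    intro hm
    have h1 := IsRegularLocalRing.spanFinrank_maximalIdeal (R := R)
    rw [(Submodule.spanFinrank_eq_zero_iff_eq_bot (maximalIdeal R).fg_of_isNoetherianRing).mpr hm,
      hd] at h1
    exact absurd h1 (by decide)
  have hE : Nontrivial (E φ) := by
    by_contra hE
    rw [not_nontrivial_iff_subsingleton, Submodule.Quotient.subsingleton_iff] at hE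
    let i : Fin a := ⟨0, Nat.pos_of_ne_zero ha⟩
    have h1 : (LinearMap.proj i : (Fin a → R) →ₗ[R] R) ∈ LinearMap.range φ.dualMap := by
      rw [hE]; trivial
    obtain ⟨l, hl⟩ := h1
    have h2 : l (φ (Pi.single i 1)) = 1 := by
      have := LinearMap.congr_fun hl (Pi.single i 1)
      simpa using this
    have h3 : l (φ (Pi.single i 1)) ∈ maximalIdeal R := by
      have h4 : φ (Pi.single i 1) = ∑ j, φ (Pi.single i 1) j • Pi.single j (1 : R) := by
        ext j
        simp [Finset.sum_apply, Pi.single_apply]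
      rw [h4, map_sum]
      refine Ideal.sum_mem _ fun j _ => ?_
      rw [map_smul, smul_eq_mul]
      exact Ideal.mul_mem_right _ _ (hmem _ _)
    rw [h2] at h3
    exact (Ideal.ne_top_iff_one _).mp (maximalIdeal.isMaximal R).ne_top h3
  have hkill : ∀ s ∈ maximalIdeal R ^ k, ∀ t : E φ, s • t = 0 :=
    fun s hs t => E_smul_eq_zero hφ hex (hk hs) t
  have hEfin : IsFiniteLength R (E φ) := isFiniteLength_of_pow_smul k hkill
  obtain ⟨ε, hε, hε'⟩ := exists_socle k hkill
  have h1 := lower_bound (N := N) hex hπ hmem ha ε hε hε'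
  have h2 := upper_bound hd hφ hex hπ k hk r e
  have h3 := length_tensor_le φ N
  have hT : Module.IsTorsion R (T φ N) := by
    obtain ⟨x, hx, hx0⟩ := Submodule.exists_mem_ne_zero_of_ne_bot hm
    intro t
    refine ⟨⟨x ^ k, mem_nonZeroDivisors_of_ne_zero (pow_ne_zero _ hx0)⟩, ?_⟩
    exact T_smul_eq_zero hφ hex (hk (Ideal.pow_mem_pow hx k)) N t
  have h4 := rank_eq hφ hex hπ hT r e
  have h5 : (b : ℕ∞) * Module.length R (E φ) + 1 ≤ b * Module.length R (E φ) := by
    calc (b : ℕ∞) * Module.length R (E φ) + 1 ≤ a * Module.length R (E φ) +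
          r * Module.length R (E φ) := h1.trans (by gcongr; exact h3.trans h2)
      _ = b * Module.length R (E φ) := by rw [← add_mul, ← Nat.cast_add, h4]
  have h6 : Module.length R (E φ) ≠ ⊤ := Module.length_ne_top_iff.mpr hEfin
  obtain ⟨l, hl⟩ := ENat.ne_top_iff_exists.mp h6
  rw [← hl] at h5
  have h7 : b * l + 1 ≤ b * l := by exact_mod_cast h5
  omega

end K550.Aus3
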