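import Groth.Agent.NonAbH1.K550.Aus4
import Groth.Agent.NonAbH1.K550.Aus3
import Mathlib.RingTheory.TensorProduct.IsBaseChangePi

/-!
# Auslander's theorem

Let `R` be a regular local ring and `N` a finite reflexive `R`-module with `End(N) ≅ N^r`.
Then `N` is free.
-/

set_option autoImplicit false
universe u

open IsLocalRing

namespace K550.Auslander

open Groth.Agent.CalgA Groth.Agent.CalgA.RegProjDim K550.SplitId K550.HullDD K550.EndDD
open Groth.Agent.Divis.ReflexAlg

variable {R : Type u} [CommRing R]

/-- `End(N) ≅ N^r` localizes -/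
theorem exists_end_equiv_localization [IsNoetherianRing R] (S : Submonoid R) (N : Type u)
    [AddCommGroup N] [Module R N] [Module.Finite R N] (r : ℕ)
    (e : (N →ₗ[R] N) ≃ₗ[R] (Fin r → N)) :
    Nonempty ((LocalizedModule S N →ₗ[Localization S] LocalizedModule S N) ≃ₗ[Localization S]
      (Fin r → LocalizedModule S N)) := by
  have := Module.finitePresentation_of_finite R N
  let l := LocalizedModule.mkLinearMap S N
  let f : (N →ₗ[R] N) →ₗ[R]
      (LocalizedModule S N →ₗ[Localization S] LocalizedModule S N) :=
    IsLocalizedModule.mapExtendScalars S l l (Localization S)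
  have hf : IsLocalizedModule S f := inferInstance
  let g : (Fin r → N) →ₗ[R] (Fin r → LocalizedModule S N) :=
    LinearMap.pi fun i => l ∘ₗ LinearMap.proj i
  have hg : IsLocalizedModule S g := inferInstance
  have hg' : IsLocalizedModule S (g ∘ₗ e.toLinearMap) := IsLocalizedModule.of_linearEquiv_right ..
  exact ⟨LinearEquiv.extendScalarsOfIsLocalization S (Localization S)
    (IsLocalizedModule.linearEquiv S f (g ∘ₗ e.toLinearMap))⟩

theorem ringKrullDim_localization_lt [IsRegularLocalRing R] (p : Ideal R) [p.IsPrime]
    (hp : p ≠ maximalIdeal R) : ringKrullDim (Localization.AtPrime p) < ringKrullDim R := by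
  rw [IsLocalization.AtPrime.ringKrullDim_eq_height p (Localization.AtPrime p),
    ← IsLocalRing.maximalIdeal_height_eq_ringKrullDim]
  have hlt : p < maximalIdeal R :=
    lt_of_le_of_ne (IsLocalRing.le_maximalIdeal (Ideal.IsPrime.ne_top inferInstance)) hp
  exact_mod_cast Ideal.height_strict_mono_of_isPrime hlt

theorem finite_dual (S : Type u) [CommRing S] [IsNoetherianRing S] (M : Type u) [AddCommGroup M]
    [Module S M] [Module.Finite S M] : Module.Finite S (Module.Dual S M) := inferInstance

/-- **Auslander.** -/
theorem free_of_end_equiv (d : ℕ) : ∀ (R : Type u) [CommRing R] [IsRegularLocalRing R],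
    ringKrullDim R = d → ∀ (N : Type u) [AddCommGroup N] [Module R N] [Module.Finite R N]
    [Module.IsReflexive R N] (r : ℕ), ((N →ₗ[R] N) ≃ₗ[R] (Fin r → N)) → Module.Free R N := by
  induction d using Nat.strong_induction_on with
  | _ d ih =>
    intro R _ _ hd N _ _ _ _ r e
    rcases Nat.lt_or_ge 2 d with hd2 | hd2
    swap
    · exact free_of_isReflexive (by rw [hd]; exact_mod_cast hd2) N
    rcases subsingleton_or_nontrivial N with hN0 | hN0
    · infer_instance
    have hdom := RegBasic.isDomain R
    -- freeness on the punctured spectrum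
    have hloc : ∀ (p : Ideal R) [p.IsPrime], p ≠ maximalIdeal R →
        Module.Projective (Localization.AtPrime p) (LocalizedModule p.primeCompl N) := by
      intro p _ hp
      have hreg := RegLoc.isRegularLocalRing_localization R p
      obtain ⟨d', hd'⟩ := RegBasic.ringKrullDim_eq_natCast (Localization.AtPrime p)
      have hlt := ringKrullDim_localization_lt p hp
      rw [hd, hd'] at hlt
      have hlt' : d' < d := by exact_mod_cast hlt
      have hrefl : Module.IsReflexive (Localization.AtPrime p) (LocalizedModule p.primeCompl N) :=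
        isReflexive_of_isLocalizedModule p.primeCompl (Localization.AtPrime p)
          (LocalizedModule.mkLinearMap p.primeCompl N)
      have hfin : Module.Finite (Localization.AtPrime p) (LocalizedModule p.primeCompl N) :=
        Module.Finite.of_isLocalizedModule p.primeCompl (LocalizedModule.mkLinearMap p.primeCompl N)
      obtain ⟨e'⟩ := exists_end_equiv_localization p.primeCompl N r e
      have := ih d' hlt' (Localization.AtPrime p) hd' (LocalizedModule p.primeCompl N) r e'
      infer_instance
    obtain ⟨b, π, hπ, hmin⟩ := exists_minimal_cover (R := R) N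
    obtain ⟨k, hk⟩ := exists_pow_le π hπ hloc
    rcases Nat.lt_or_ge 3 d with hd3 | hd3
    · -- slicing
      have hdim3 : (3 : WithBot ℕ∞) ≤ ringKrullDim R := by
        rw [hd]; exact_mod_cast hd3.le
      obtain ⟨x, hx, hx2⟩ := K550.RegPairs.exists_notMem_sq (R := R)
        (le_trans (by decide) hdim3)
      obtain ⟨hreg, hdim⟩ := RegBasic.quotient_of_notMem_sq x hx hx2
      have hdom' := RegBasic.isDomain (R ⧸ Ideal.span {x})
      obtain ⟨d, rfl⟩ : ∃ c, d = c + 4 := ⟨d - 4, by omega⟩
      have hfin : Module.Finite (R ⧸ Ideal.span {x}) (QuotSMulTop x N) :=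
        Module.Finite.of_restrictScalars_finite R _ _
      have hd' : ringKrullDim (R ⧸ Ideal.span {x}) = (d + 3 : ℕ) := by
        obtain ⟨c, hc⟩ := RegBasic.ringKrullDim_eq_natCast (R ⧸ Ideal.span {x})
        rw [hc, hd] at hdim
        have : c + 1 = d + 4 := by exact_mod_cast hdim
        rw [hc]
        congr 1
        omega
      obtain ⟨e'⟩ := exists_end_equiv hx hx2 hdim3 π k hk r e
      have hfin1 : Module.Finite (R ⧸ Ideal.span {x})
          (Module.Dual (R ⧸ Ideal.span {x}) (QuotSMulTop x N)) := finite_dual _ _
      have hfin2 : Module.Finite (R ⧸ Ideal.span {x}) (DD x N) := finite_dual _ _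
      have hr1 : Module.IsReflexive (R ⧸ Ideal.span {x})
          (Module.Dual (R ⧸ Ideal.span {x}) (QuotSMulTop x N)) :=
        Groth.Agent.S6875.result _ _ _
      have hr2 : Module.IsReflexive (R ⧸ Ideal.span {x}) (DD x N) :=
        Groth.Agent.S6875.result _ _ _
      have hfree := ih (d + 3) (by omega) (R ⧸ Ideal.span {x}) hd' (DD x N) r e'
      exact K550.Aus4.slice d hd hx hx2 N π k hk hfree
    · -- dimension three
      obtain rfl : d = 3 := by omega
      have hPD : PD R N 2 := by
        obtain ⟨u, hu, v, hv, huv⟩ := K550.RegPairs.exists_regPair_of_regular (R := R) (by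
          rw [hd]; exact_mod_cast (by omega : 2 ≤ 3))
        exact Groth.Agent.Pi1C.ConeDepth.PD_of_depth R 2 1 (by rw [hd]) N
          ((regPair_of_isReflexive (M := N) huv).two_le_idealDepth hu hv)
      have hex : Function.Exact (LinearMap.ker π).subtype π := LinearMap.exact_subtype_ker_map π
      have hinj := (LinearMap.ker π).injective_subtype
      have hK : PD R (LinearMap.ker π) 1 := (PD.ses_iff _ π hinj hex hπ 0).mp hPD
      have := PD.one_iff.mp hK
      obtain ⟨a, ⟨ε⟩⟩ := RegAB.exists_equiv_pi (R := R) (LinearMap.ker π)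
      let φ : (Fin a → R) →ₗ[R] (Fin b → R) := (LinearMap.ker π).subtype ∘ₗ ε.symm.toLinearMap
      have hφ : Function.Injective φ := hinj.comp ε.symm.injective
      have hex' : Function.Exact φ π := by
        intro v
        rw [hex v]
        constructor
        · rintro ⟨w, rfl⟩; exact ⟨ε w, by simp [φ]⟩
        · rintro ⟨w, rfl⟩; exact ⟨ε.symm w, rfl⟩
      have ha : a = 0 := K550.Aus3.a_eq_zero hd hφ hex' hπ
        (fun v j => hmin _ (ε.symm v).2 j) k hk r e
      subst ha
      have hker : LinearMap.ker π = ⊥ := by
        rw [eq_bot_iff]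
        intro v hv
        obtain ⟨w, rfl⟩ := (hex' v).mp hv
        rw [Subsingleton.elim w 0, map_zero]
        exact zero_mem _
      exact Module.Free.of_equiv (LinearEquiv.ofBijective π ⟨LinearMap.ker_eq_bot.mp hker, hπ⟩)

end K550.Auslander
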