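import Groth.Agent.S6875
import Groth.Agent.NonAbH1.K550.RegPairs
import Groth.Agent.NonAbH1.K550.SplitId
import Mathlib.RingTheory.QuotSMulTop

/-!
# The reflexive hull of `N / xN` over `R / x`
-/

set_option autoImplicit false
universe u

open IsLocalRing Pointwise

namespace K550.HullDD

open Groth.Agent.Divis.DepthTwo Groth.Agent.Divis.ReflexAlg K550.SplitId

section general

variable {S : Type*} [CommRing S] {M : Type*} [AddCommGroup M] [Module S M] {b : ℕ}

/-- if `s` factors through a free module, then `s` times the double dual consists of evaluations -/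
theorem exists_smul_eq_eval (σ : M →ₗ[S] (Fin b → S)) (π : (Fin b → S) →ₗ[S] M) (s : S)
    (h : ∀ m, π (σ m) = s • m) (ξ : Module.Dual S (Module.Dual S M)) :
    ∃ m, s • ξ = Module.Dual.eval S M m := by
  classical
  refine ⟨π (fun j => ξ (LinearMap.proj j ∘ₗ σ)), ?_⟩
  ext l
  have h1 : s • l = ∑ j, l (π (Pi.single j 1)) • (LinearMap.proj j ∘ₗ σ : M →ₗ[S] S) := by
    ext m
    have h2 : σ m = ∑ j, σ m j • Pi.single j (1 : S) := by
      ext j
      simp [Finset.sum_apply, Pi.single_apply]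
    rw [LinearMap.smul_apply, ← map_smul, ← h]
    conv_lhs => rw [h2]
    simp [mul_comm]
  have h3 : (fun j => ξ (LinearMap.proj j ∘ₗ σ)) =
      ∑ j, ξ (LinearMap.proj j ∘ₗ σ) • Pi.single j (1 : S) := by
    ext j
    simp [Finset.sum_apply, Pi.single_apply]
  rw [LinearMap.smul_apply, ← map_smul, h1, h3]
  simp [mul_comm]

end general

variable {R : Type u} [CommRing R] (x : R) (N : Type u) [AddCommGroup N] [Module R N]

/-- the double dual of `N / xN` over `R / x` -/
abbrev DD : Type u := Module.Dual (R ⧸ Ideal.span {x}) (Module.Dual (R ⧸ Ideal.span {x})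
  (QuotSMulTop x N))

/-- the map to the double dual -/
noncomputable def ι : N →ₗ[R] DD x N :=
  (Module.Dual.eval (R ⧸ Ideal.span {x}) (QuotSMulTop x N)).restrictScalars R ∘ₗ
    (x • (⊤ : Submodule R N)).mkQ

lemma ι_apply (n : N) : ι x N n = Module.Dual.eval (R ⧸ Ideal.span {x}) (QuotSMulTop x N)
    (Submodule.Quotient.mk n) := rfl

variable {x N}

lemma mk_eq_zero_iff (n : N) : (Submodule.Quotient.mk n : QuotSMulTop x N) = 0 ↔
    ∃ m, n = x • m := by
  rw [Submodule.Quotient.mk_eq_zero, Submodule.mem_smul_pointwise_iff_exists]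
  constructor
  · rintro ⟨m, -, hm⟩; exact ⟨m, hm.symm⟩
  · rintro ⟨m, hm⟩; exact ⟨m, trivial, hm.symm⟩

section torsionfree

variable [IsRegularLocalRing R] (hx : x ∈ maximalIdeal R) (hx2 : x ∉ maximalIdeal R ^ 2)

include hx hx2

/-- `N / xN` is torsion free over `R / x` -/
theorem isTorsionFree [Module.IsReflexive R N] :
    Module.IsTorsionFree (R ⧸ Ideal.span {x}) (QuotSMulTop x N) := by
  constructor
  intro r hr
  obtain ⟨r, rfl⟩ := Ideal.Quotient.mk_surjective r
  have hprime := K550.RegPairs.isPrime_span_of_notMem_sq hx hx2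
  have hrx : r ∉ Ideal.span {x} := by
    intro hrx
    rw [Ideal.Quotient.eq_zero_iff_mem.mpr hrx] at hr
    have : Nontrivial (R ⧸ Ideal.span {x}) := Ideal.Quotient.nontrivial_iff.mpr hprime.ne_top
    exact hr.ne_zero rfl
  have hpair' : RegPair x r N := regPair_of_isReflexive (K550.RegPairs.regPair_of_notMem hx hx2 hrx)
  rw [isSMulRegular_iff_right_eq_zero_of_smul]
  intro m
  obtain ⟨m, rfl⟩ := Submodule.mkQ_surjective _ m
  intro hm
  change (Submodule.Quotient.mk (r • m) : QuotSMulTop x N) = 0 at hm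
  change (Submodule.Quotient.mk m : QuotSMulTop x N) = 0
  rw [mk_eq_zero_iff] at hm ⊢
  obtain ⟨n, hn⟩ := hm
  exact hpair'.div m n hn

theorem ι_eq_zero_iff [Module.Finite R N] [Module.IsReflexive R N] (n : N) :
    ι x N n = 0 ↔ ∃ m, n = x • m := by
  obtain ⟨hreg, -⟩ := Groth.Agent.CalgA.RegBasic.quotient_of_notMem_sq x hx hx2
  have := Groth.Agent.CalgA.RegBasic.isDomain (R ⧸ Ideal.span {x})
  have := isTorsionFree (N := N) hx hx2
  have hfin : Module.Finite (R ⧸ Ideal.span {x}) (QuotSMulTop x N) :=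
    Module.Finite.of_restrictScalars_finite R _ _
  rw [← mk_eq_zero_iff, ι_apply]
  have hinj := (K63.TorsionFree.eval_injective_iff
    (R := R ⧸ Ideal.span {x}) (QuotSMulTop x N)).mpr this
  constructor
  · intro h
    exact hinj (h.trans (map_zero _).symm)
  · intro h
    rw [h, map_zero]

end torsionfree

/-- elements of the splitting ideal kill the cokernel of `ι` -/
theorem exists_smul_eq_ι {b : ℕ} (π : (Fin b → R) →ₗ[R] N) {s : R} (hs : s ∈ splitIdeal π)
    (ξ : DD x N) : ∃ n, s • ξ = ι x N n := by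
  classical
  obtain ⟨σ, hσ⟩ := (mem_splitIdeal π).mp hs
  let q : (Fin b → R) →ₗ[R] (Fin b → R ⧸ Ideal.span {x}) :=
    LinearMap.pi fun j => (Algebra.linearMap R (R ⧸ Ideal.span {x})) ∘ₗ LinearMap.proj j
  have hq : ∀ v : Fin b → R, q (x • v) = 0 := by
    intro v
    ext j
    change Ideal.Quotient.mk _ (x * v j) = 0
    rw [Ideal.Quotient.eq_zero_iff_mem]
    exact Ideal.mul_mem_right _ _ (Ideal.mem_span_singleton_self x)
  have hker : x • (⊤ : Submodule R N) ≤ LinearMap.ker (q ∘ₗ σ) := by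
    intro n hn
    rw [Submodule.mem_smul_pointwise_iff_exists] at hn
    obtain ⟨m, -, rfl⟩ := hn
    rw [LinearMap.mem_ker, LinearMap.comp_apply, map_smul, hq]
  let σ' : QuotSMulTop x N →ₗ[R ⧸ Ideal.span {x}] (Fin b → R ⧸ Ideal.span {x}) :=
    ((x • (⊤ : Submodule R N)).liftQ (q ∘ₗ σ) hker).extendScalarsOfSurjective
      Ideal.Quotient.mk_surjective
  let π' : (Fin b → R ⧸ Ideal.span {x}) →ₗ[R ⧸ Ideal.span {x}] QuotSMulTop x N :=
    (Pi.basisFun (R ⧸ Ideal.span {x}) (Fin b)).constr (R ⧸ Ideal.span {x})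
      (fun j => Submodule.Quotient.mk (π (Pi.single j 1)))
  have hπ' : ∀ v : Fin b → R, π' (q v) = Submodule.Quotient.mk (π v) := by
    intro v
    have h1 : v = ∑ j, v j • Pi.single j (1 : R) := by
      ext j
      simp [Finset.sum_apply, Pi.single_apply]
    have h2 : q v = ∑ j, (Ideal.Quotient.mk (Ideal.span {x}) (v j)) • Pi.single j (1 : R ⧸ Ideal.span {x}) := by
      ext j
      simp [q, Finset.sum_apply, Pi.single_apply]
    rw [h2, map_sum]
    conv_rhs => rw [h1, map_sum, ← Submodule.mkQ_apply, map_sum]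
    refine Finset.sum_congr rfl fun j _ => ?_
    rw [map_smul]
    have h3 : π' (Pi.single j 1) = Submodule.Quotient.mk (π (Pi.single j 1)) := by
      have := (Pi.basisFun (R ⧸ Ideal.span {x}) (Fin b)).constr_basis (R ⧸ Ideal.span {x})
        (fun j => (Submodule.Quotient.mk (π (Pi.single j 1)) : QuotSMulTop x N)) j
      rwa [Pi.basisFun_apply] at this
    rw [h3, map_smul]
    rfl
  obtain ⟨m, hm⟩ := exists_smul_eq_eval σ' π' (Ideal.Quotient.mk _ s) (by
    intro m
    obtain ⟨n, rfl⟩ := Submodule.mkQ_surjective _ m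
    change π' (q (σ n)) = _
    rw [hπ', hσ]
    rfl) ξ
  obtain ⟨n, rfl⟩ := Submodule.mkQ_surjective _ m
  exact ⟨n, hm⟩

end K550.HullDD
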