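import Groth.Agent.Divis.DepthTwo

/-!
# Extending linear maps along maps with `(f, g)`-torsion cokernel into modules with a regular pair
-/

set_option autoImplicit false

namespace K550.RegExt

open Groth.Agent.Divis.DepthTwo

variable {R : Type*} [CommRing R] {A B P : Type*} [AddCommGroup A] [Module R A] [AddCommGroup B]
  [Module R B] [AddCommGroup P] [Module R P] {f g : R}

/-- uniqueness of extensions -/
theorem hom_ext (hP : ∀ x : P, f • x = 0 → x = 0) (α : A →ₗ[R] B)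
    (hf : ∀ b, ∃ (k : ℕ) (a : A), f ^ k • b = α a) {θ θ' : B →ₗ[R] P}
    (h : ∀ a, θ (α a) = θ' (α a)) : θ = θ' := by
  have hpow : ∀ (k : ℕ) (x : P), f ^ k • x = 0 → x = 0 := by
    intro k
    induction k with
    | zero => intro x hx; simpa using hx
    | succ k ih => intro x hx; exact ih _ (hP _ (by rw [← mul_smul, ← pow_succ', hx]))
  ext b
  obtain ⟨k, a, hk⟩ := hf b
  rw [← sub_eq_zero]
  apply hpow k
  rw [smul_sub, ← map_smul, ← map_smul, hk, h, sub_self]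

/-- existence of extensions -/
theorem extend (hP : RegPair f g P) (α : A →ₗ[R] B) (φ : A →ₗ[R] P)
    (hker : ∀ a, α a = 0 → φ a = 0) (hf : ∀ b, ∃ (k : ℕ) (a : A), f ^ k • b = α a)
    (hg : ∀ b, ∃ (k : ℕ) (a : A), g ^ k • b = α a) :
    ∃ θ : B →ₗ[R] P, ∀ a, θ (α a) = φ a := by
  have key : ∀ b, ∃ z : P, ∀ (k : ℕ) (a : A), f ^ k • b = α a → f ^ k • z = φ a := by
    intro b
    obtain ⟨k, a, hk⟩ := hf b
    obtain ⟨l, a', hl⟩ := hg b
    have h1 : g ^ l • φ a = f ^ k • φ a' := by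
      rw [← map_smul, ← map_smul, ← sub_eq_zero, ← map_sub]
      apply hker
      rw [map_sub, map_smul, map_smul, ← hk, ← hl, smul_comm, sub_self]
    obtain ⟨z, hz⟩ := (hP.pow k l).div _ _ h1
    refine ⟨z, fun k' a₁ hk' => ?_⟩
    apply (hP.pow k l).inj'
    rw [smul_comm, ← hz, ← map_smul, ← map_smul, ← sub_eq_zero, ← map_sub]
    apply hker
    rw [map_sub, map_smul, map_smul, ← hk, ← hk', smul_comm, sub_self]
  choose z hz using key
  refine ⟨{ toFun := z, map_add' := fun x y => ?_, map_smul' := fun r x => ?_ }, fun a => ?_⟩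
  · obtain ⟨k, a, hk⟩ := hf x
    obtain ⟨l, a', hl⟩ := hf y
    have h1 : f ^ (k + l) • x = α (f ^ l • a) := by
      rw [map_smul, ← hk, smul_smul, ← pow_add, add_comm]
    have h2 : f ^ (k + l) • y = α (f ^ k • a') := by
      rw [map_smul, ← hl, smul_smul, ← pow_add]
    have h3 : f ^ (k + l) • (x + y) = α (f ^ l • a + f ^ k • a') := by
      rw [smul_add, h1, h2, map_add]
    apply (hP.pow (k + l) 0).inj'
    rw [smul_add, hz _ _ _ h1, hz _ _ _ h2, hz _ _ _ h3, map_add]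
  · obtain ⟨k, a, hk⟩ := hf x
    have h1 : f ^ k • (r • x) = α (r • a) := by rw [map_smul, ← hk, smul_comm]
    apply (hP.pow k 0).inj'
    rw [RingHom.id_apply, hz _ _ _ h1, smul_comm, hz _ _ _ hk, map_smul]
  · have := hz (α a) 0 a (by simp)
    simpa using this

/-- uniqueness of the hull -/
theorem exists_equiv {B₁ B₂ : Type*} [AddCommGroup B₁] [Module R B₁] [AddCommGroup B₂]
    [Module R B₂] (hB₁ : RegPair f g B₁) (hB₂ : RegPair f g B₂) (α₁ : A →ₗ[R] B₁)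
    (α₂ : A →ₗ[R] B₂) (hker : ∀ a, α₁ a = 0 ↔ α₂ a = 0)
    (hf₁ : ∀ b, ∃ (k : ℕ) (a : A), f ^ k • b = α₁ a)
    (hg₁ : ∀ b, ∃ (k : ℕ) (a : A), g ^ k • b = α₁ a)
    (hf₂ : ∀ b, ∃ (k : ℕ) (a : A), f ^ k • b = α₂ a)
    (hg₂ : ∀ b, ∃ (k : ℕ) (a : A), g ^ k • b = α₂ a) :
    ∃ e : B₁ ≃ₗ[R] B₂, ∀ a, e (α₁ a) = α₂ a := by
  obtain ⟨θ, hθ⟩ := extend hB₂ α₁ α₂ (fun a => (hker a).mp) hf₁ hg₁
  obtain ⟨θ', hθ'⟩ := extend hB₁ α₂ α₁ (fun a => (hker a).mpr) hf₂ hg₂
  refine ⟨LinearEquiv.ofLinearMap θ θ' ?_ ?_, hθ⟩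
  · exact hom_ext hB₂.inj α₂ hf₂ (fun a => by simp [hθ, hθ'])
  · exact hom_ext hB₁.inj α₁ hf₁ (fun a => by simp [hθ, hθ'])

/-- bijectivity of a map between modules with a regular pair -/
theorem bijective_of_regPair {f g : R} (hA : RegPair f g A) (hP : ∀ x : B, f • x = 0 → x = 0)
    (α : A →ₗ[R] B) (hker : ∀ a, α a = 0 → ∃ k : ℕ, f ^ k • a = 0)
    (hf : ∀ b, ∃ (k : ℕ) (a : A), f ^ k • b = α a)
    (hg : ∀ b, ∃ (k : ℕ) (a : A), g ^ k • b = α a) : Function.Bijective α := by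
  have hinj : Function.Injective α := by
    rw [injective_iff_map_eq_zero]
    intro a ha
    obtain ⟨k, hk⟩ := hker a ha
    exact hA.inj_pow k a hk
  refine ⟨hinj, fun b => ?_⟩
  have hpow : ∀ (k : ℕ) (x : B), f ^ k • x = 0 → x = 0 := by
    intro k
    induction k with
    | zero => intro x hx; simpa using hx
    | succ k ih => intro x hx; exact ih _ (hP _ (by rw [← mul_smul, ← pow_succ', hx]))
  obtain ⟨k, a, hk⟩ := hf b
  obtain ⟨l, a', hl⟩ := hg b
  obtain ⟨z, hz⟩ := (hA.pow k l).div a a' (hinj (by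
    rw [map_smul, map_smul, ← hk, ← hl, smul_comm]))
  refine ⟨z, ?_⟩
  rw [← sub_eq_zero]
  apply hpow k
  rw [smul_sub, ← map_smul, ← hz, hk, sub_self]

end K550.RegExt
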