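import Groth.Agent.NonAbH1.K550.SplitId
import Groth.Agent.NonAbH1.K550.RegExt
import Groth.Agent.NonAbH1.K550.HullDD
import Groth.Agent.NonAbH1.K550.RegPairs
import Groth.Agent.CurvesB.NormalSub
import Mathlib.RingTheory.Flat.EquationalCriterion
import Mathlib.RingTheory.Flat.Localization

/-!
# Splitting ideals and localizations at submonoids; finiteness from a regular pair
-/

set_option autoImplicit false

namespace K550.SplitPow

open K550.SplitId Groth.Agent.Divis.DepthTwo

section split

variable {R : Type*} [CommRing R] {F N : Type*} [AddCommGroup F] [Module R F] [AddCommGroup N]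
  [Module R N] (π : F →ₗ[R] N)

theorem exists_mem_of_projective [Module.FinitePresentation R N]
    (hπ : Function.Surjective π) (S : Submonoid R)
    [Module.Projective (Localization S) (LocalizedModule S N)] :
    ∃ s ∈ S, s ∈ splitIdeal π := by
  let lF := LocalizedModule.mkLinearMap S F
  let lN := LocalizedModule.mkLinearMap S N
  have hs : Function.Surjective (LocalizedModule.map S π) :=
    LocalizedModule.map_surjective _ _ hπ
  obtain ⟨σ', hσ'⟩ := Module.projective_lifting_property (LocalizedModule.map S π)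
    LinearMap.id hs
  obtain ⟨σ, s, hσ⟩ := Module.FinitePresentation.exists_lift_of_isLocalizedModule S lF
    ((σ'.restrictScalars R) ∘ₗ lN)
  have h1 : lN ∘ₗ (π ∘ₗ σ) = lN ∘ₗ ((s : R) • LinearMap.id) := by
    ext n
    have h2 := LinearMap.congr_fun hσ n
    simp only [LinearMap.comp_apply, LinearMap.smul_apply, LinearMap.coe_restrictScalars,
      LinearMap.id_apply] at h2 ⊢
    have h3 : lN (π (σ n)) = LocalizedModule.map S π (lF (σ n)) := by
      simp [lN, lF, LocalizedModule.map_mk]
    have h4 := LinearMap.congr_fun hσ' (lN n)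
    simp only [LinearMap.comp_apply, LinearMap.id_apply] at h4
    rw [h3, h2, Submonoid.smul_def, LinearMap.map_smul_of_tower, h4, map_smul]
  obtain ⟨t, ht⟩ := Module.Finite.exists_smul_of_comp_eq_of_isLocalizedModule S lN _ _ h1
  refine ⟨t * s, (t * s).2, (mem_splitIdeal π).mpr ⟨(t : R) • σ, fun n => ?_⟩⟩
  have := LinearMap.congr_fun ht n
  simp only [LinearMap.smul_apply, LinearMap.comp_apply, LinearMap.id_apply,
    Submonoid.smul_def] at this
  rw [LinearMap.smul_apply, map_smul, this, mul_smul]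

theorem exists_pow_mem_of_flat [Module.FinitePresentation R N]
    (hπ : Function.Surjective π) (h : R) [Module.Flat R (LocalizedModule (.powers h) N)] :
    ∃ k : ℕ, h ^ k ∈ splitIdeal π := by
  have h1 : Module.Flat (Localization (.powers h)) (LocalizedModule (.powers h) N) :=
    (Module.flat_iff_of_isLocalization (Localization (.powers h)) (.powers h) _).mpr inferInstance
  have := Module.Flat.projective_of_finitePresentation (R := Localization (.powers h))
    (M := LocalizedModule (.powers h) N)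
  obtain ⟨_, ⟨k, rfl⟩, hs⟩ := exists_mem_of_projective π hπ (.powers h)
  exact ⟨k, hs⟩

end split

/-- A torsion free module over a Noetherian domain which is generated up to powers of `f` and of `g`
by a finite submodule is finite, if `f, g` is a regular pair. -/
theorem finite_of_regPair {R : Type*} [CommRing R] [IsNoetherianRing R] [IsDomain R] {N : Type*}
    [AddCommGroup N]
    [Module R N] (hN : ∀ s : R, s ≠ 0 → ∀ m : N, s • m = 0 → m = 0) {f g : R}
    (hfg : RegPair f g R) (P : Submodule R N) (hP : P.FG) (hf : ∀ n : N, ∃ k : ℕ, f ^ k • n ∈ P)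
    (hg : ∀ n : N, ∃ k : ℕ, g ^ k • n ∈ P) : Module.Finite R N := by
  have hPfin : Module.Finite R P := Module.Finite.iff_fg.mpr hP
  obtain ⟨r, e, he⟩ := Groth.Agent.CurvesB.NormalSub.exists_injective_pi R P (fun s hs m hm => by
    ext
    apply hN s hs
    have := congr_arg Subtype.val hm
    simpa using this)
  have hf0 : f ≠ 0 := by
    rintro rfl
    exact one_ne_zero (hfg.inj 1 (zero_smul R 1))
  have hfgr : RegPair f g (Fin r → R) := hfg.pi
  let Q : Submodule R (N × (Fin r → R)) :=
    { carrier := {q | ∃ (k : ℕ) (h : f ^ k • q.1 ∈ P), e ⟨f ^ k • q.1, h⟩ = f ^ k • q.2}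
      add_mem' := by
        rintro ⟨n, v⟩ ⟨n', v'⟩ ⟨k, h, hk⟩ ⟨k', h', hk'⟩
        simp only at h h' hk hk'
        have h1 : f ^ (k + k') • (n + n') ∈ P := by
          rw [smul_add]
          refine add_mem ?_ ?_
          · rw [add_comm, pow_add, mul_smul]; exact P.smul_mem _ h
          · rw [pow_add, mul_smul]; exact P.smul_mem _ h'
        refine ⟨k + k', h1, ?_⟩
        have h2 : (⟨f ^ (k + k') • (n + n'), h1⟩ : P) = f ^ k' • ⟨f ^ k • n, h⟩ +
            f ^ k • ⟨f ^ k' • n', h'⟩ := by
          ext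
          simp only [Submodule.coe_add, Submodule.coe_smul, smul_add, smul_smul, ← pow_add]
          rw [add_comm k' k]
        change e ⟨f ^ (k + k') • (n + n'), h1⟩ = f ^ (k + k') • (v + v')
        rw [h2, map_add, map_smul, map_smul, hk, hk', smul_add, smul_smul, smul_smul, ← pow_add,
          ← pow_add, add_comm k' k]
      zero_mem' := by
        have h0 : f ^ 0 • (0 : N) ∈ P := by rw [smul_zero]; exact P.zero_mem
        refine ⟨0, h0, ?_⟩
        have : (⟨f ^ 0 • (0 : N), h0⟩ : P) = 0 := by ext; simp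
        change e ⟨f ^ 0 • (0 : N), h0⟩ = f ^ 0 • (0 : Fin r → R)
        rw [this, map_zero, smul_zero]
      smul_mem' := by
        rintro c ⟨n, v⟩ ⟨k, h, hk⟩
        simp only at h hk
        have h1 : f ^ k • (c • n) ∈ P := by
          rw [smul_comm]; exact P.smul_mem _ h
        refine ⟨k, h1, ?_⟩
        have h2 : (⟨f ^ k • (c • n), h1⟩ : P) = c • ⟨f ^ k • n, h⟩ := by
          ext
          simp only [Submodule.coe_smul]
          rw [smul_comm]
        change e ⟨f ^ k • (c • n), h1⟩ = f ^ k • (c • v)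
        rw [h2, map_smul, hk, smul_comm] }
  have hQ : ∀ q ∈ Q, ∃ (k : ℕ) (h : f ^ k • q.1 ∈ P), e ⟨f ^ k • q.1, h⟩ = f ^ k • q.2 :=
    fun q hq => hq
  let p1 : Q →ₗ[R] N := (LinearMap.fst R N (Fin r → R)).comp Q.subtype
  let p2 : Q →ₗ[R] (Fin r → R) := (LinearMap.snd R N (Fin r → R)).comp Q.subtype
  have hp2 : Function.Injective p2 := by
    rw [injective_iff_map_eq_zero]
    rintro ⟨⟨n, v⟩, hq⟩ h
    have hv : v = 0 := h
    subst hv
    obtain ⟨k, h1, h2⟩ := hQ _ hq
    simp only at h1 h2
    rw [smul_zero] at h2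
    have h3 := (injective_iff_map_eq_zero e).mp he _ h2
    have h4 : f ^ k • n = 0 := congr_arg Subtype.val h3
    have h5 : n = 0 := hN _ (pow_ne_zero k hf0) n h4
    subst h5
    rfl
  have hp1 : Function.Surjective p1 := by
    intro n
    obtain ⟨k, hk⟩ := hf n
    obtain ⟨l, hl⟩ := hg n
    have h1 : g ^ l • e ⟨f ^ k • n, hk⟩ = f ^ k • e ⟨g ^ l • n, hl⟩ := by
      rw [← map_smul, ← map_smul]
      congr 1
      ext
      simp only [Submodule.coe_smul]
      rw [smul_comm]
    obtain ⟨v, hv⟩ := (hfgr.pow k l).div _ _ h1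
    exact ⟨⟨(n, v), k, hk, hv⟩, rfl⟩
  have hQN : IsNoetherian R Q := isNoetherian_of_injective p2 hp2
  exact Module.Finite.of_surjective p1 hp1

/-- A finite module with a regular pair in the splitting ideal is reflexive. -/
theorem isReflexive_of_regPair {R : Type*} [CommRing R] {N : Type*} [AddCommGroup N] [Module R N]
    {f g : R} (hR : RegPair f g R) (hN : RegPair f g N) {b : ℕ} (π : (Fin b → R) →ₗ[R] N)
    (hf : ∃ k : ℕ, f ^ k ∈ splitIdeal π) (hg : ∃ k : ℕ, g ^ k ∈ splitIdeal π) :
    Module.IsReflexive R N := by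
  constructor
  refine K550.RegExt.bijective_of_regPair hN (hR.hom).inj (Module.Dual.eval R N) (fun n hn => ?_)
    (fun ξ => ?_) (fun ξ => ?_)
  · obtain ⟨k, hk⟩ := hf
    obtain ⟨σ, hσ⟩ := (mem_splitIdeal π).mp hk
    refine ⟨k, ?_⟩
    rw [← hσ]
    have h1 : σ n = 0 := by
      funext j
      exact LinearMap.congr_fun hn (LinearMap.proj j ∘ₗ σ)
    rw [h1, map_zero]
  · obtain ⟨k, hk⟩ := hf
    obtain ⟨σ, hσ⟩ := (mem_splitIdeal π).mp hk
    obtain ⟨m, hm⟩ := K550.HullDD.exists_smul_eq_eval σ π _ hσ ξ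
    exact ⟨k, m, hm⟩
  · obtain ⟨k, hk⟩ := hg
    obtain ⟨σ, hσ⟩ := (mem_splitIdeal π).mp hk
    obtain ⟨m, hm⟩ := K550.HullDD.exists_smul_eq_eval σ π _ hσ ξ
    exact ⟨k, m, hm⟩

end K550.SplitPow
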