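import Groth.Agent.NonAbH1.K550.Sat
import Groth.Agent.NonAbH1.K550.SplitPow
import Groth.Agent.NonAbH1.K550.Auslander
import Mathlib.RingTheory.TensorProduct.Basic
import Mathlib.LinearAlgebra.StdBasis

/-!
# The hull of a torsor over the punctured spectrum of a regular local ring is free
-/

set_option autoImplicit false
universe u

open scoped TensorProduct
open IsLocalRing

namespace K550.LocMain

open Groth.Agent.Divis.DepthTwo K550.SatMod K550.SplitId

/-- the dual of a finite free module -/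
theorem exists_endEquiv {R : Type u} [CommRing R] {N : Type u} [CommRing N] [Algebra R N] {f g : R}
    (hfg : RegPair f g N) {r : ℕ} (L : N ⊗[R] N →ₗ[N] (Fin r → N))
    (hkerf : ∀ x, L x = 0 → ∃ k : ℕ, f ^ k • x = 0)
    (hf : ∀ y, ∃ (k : ℕ) (x : N ⊗[R] N), f ^ k • y = L x)
    (hg : ∀ y, ∃ (k : ℕ) (x : N ⊗[R] N), g ^ k • y = L x) :
    Nonempty ((N →ₗ[R] N) ≃ₗ[R] (Fin r → N)) := by
  have hN : RegPair (algebraMap R N f) (algebraMap R N g) N :=
    ⟨fun x hx => hfg.inj x (by rwa [algebraMap_smul] at hx), fun x y hxy => by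
      obtain ⟨z, hz⟩ := hfg.div x y (by simpa only [algebraMap_smul] using hxy)
      exact ⟨z, by rwa [algebraMap_smul]⟩⟩
  have hf' : ∀ y, ∃ (k : ℕ) (x : N ⊗[R] N), (algebraMap R N f) ^ k • y = L x := fun y => by
    obtain ⟨k, x, hx⟩ := hf y
    exact ⟨k, x, by rw [← map_pow, algebraMap_smul, hx]⟩
  have hg' : ∀ y, ∃ (k : ℕ) (x : N ⊗[R] N), (algebraMap R N g) ^ k • y = L x := fun y => by
    obtain ⟨k, x, hx⟩ := hg y
    exact ⟨k, x, by rw [← map_pow, algebraMap_smul, hx]⟩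
  have hpow : ∀ (k : ℕ) (x : N), f ^ k • x = 0 → x = 0 := fun k x hx => hfg.inj_pow k x hx
  let Φ : ((Fin r → N) →ₗ[N] N) →ₗ[N] (N ⊗[R] N →ₗ[N] N) := LinearMap.lcomp N N L
  have hΦ : Function.Bijective Φ := by
    constructor
    · intro θ θ' h
      exact K550.RegExt.hom_ext hN.inj L hf' fun a => LinearMap.congr_fun h a
    · intro φ
      obtain ⟨θ, hθ⟩ := K550.RegExt.extend hN L φ (fun a ha => by
        obtain ⟨k, hk⟩ := hkerf a ha
        apply hpow k
        rw [← LinearMap.map_smul_of_tower, hk, map_zero]) hf' hg'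
      exact ⟨θ, LinearMap.ext hθ⟩
  let e1 : (N ⊗[R] N →ₗ[N] N) ≃ₗ[N] (N →ₗ[R] N) := (LinearMap.liftBaseChangeEquiv N).symm
  let e2 : ((Fin r → N) →ₗ[N] N) ≃ₗ[N] (N ⊗[R] N →ₗ[N] N) := LinearEquiv.ofBijective Φ hΦ
  let e3 : (Fin r → N) ≃ₗ[N] ((Fin r → N) →ₗ[N] N) := (Pi.basisFun N (Fin r)).constr N
  exact ⟨((e3.trans (e2.trans e1)).restrictScalars R).symm⟩

theorem finite_and_free {R : Type u} [CommRing R] [IsRegularLocalRing R] {ι : Type*} [Finite ι]
    (h : ι → R)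
    (hdim : ∀ q : Ideal R, ∀ _ : q.IsPrime, (∀ i, h i ∈ q) →
      IsRegularLocalRing (Localization.AtPrime q) ∧ 2 ≤ ringKrullDim (Localization.AtPrime q))
    {N : Type u} [CommRing N] [Algebra R N] (hN : IsSat h N)
    (hflat : ∀ i, Module.Flat R (LocalizedModule (.powers (h i)) N))
    (hfin : ∀ i, ∃ F : Finset N, ∀ n, ∃ k : ℕ, h i ^ k • n ∈ Submodule.span R (F : Set N))
    {r : ℕ} (L : N ⊗[R] N →ₗ[N] (Fin r → N))
    (hker : ∀ x, L x = 0 → ∀ i, ∃ k : ℕ, h i ^ k • x = 0)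
    (hcok : ∀ y i, ∃ (k : ℕ) (x : N ⊗[R] N), h i ^ k • y = L x) :
    Module.Finite R N ∧ Module.Free R N := by
  classical
  have := Fintype.ofFinite ι
  have hdom := Groth.Agent.CalgA.RegBasic.isDomain R
  obtain ⟨f, hf, g, hg, hfg⟩ := K550.RegPairs.exists_regPair_ideal (Ideal.span (Set.range h))
    fun p hp hle => hdim p hp fun i => hle (Ideal.subset_span ⟨i, rfl⟩)
  let l : ∀ i, N →ₗ[R] LocalizedModule (.powers (h i)) N := fun i => LocalizedModule.mkLinearMap _ _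
  have hfgN : RegPair f g N := hN.regPair _ l hfg
  have htf : ∀ s : R, s ≠ 0 → ∀ m : N, s • m = 0 → m = 0 := fun s hs m hm =>
    eq_zero_of_smul_eq_zero hN _ l (IsSMulRegular.of_ne_zero hs) m hm
  -- finiteness
  choose F hF using hfin
  let P : Submodule R N := Submodule.span R (⋃ i, (F i : Set N))
  have hPfg : P.FG := Submodule.fg_span (Set.finite_iUnion fun i => (F i).finite_toSet)
  have hP : ∀ (a : R), a ∈ Ideal.span (Set.range h) → ∀ n : N, ∃ k : ℕ, a ^ k • n ∈ P :=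
    fun a ha n => exists_pow_smul_mem' P n (fun i => by
      obtain ⟨k, hk⟩ := hF i n
      exact ⟨k, Submodule.span_mono (Set.subset_iUnion (fun i => (F i : Set N)) i) hk⟩) ha
  have hfinN : Module.Finite R N :=
    K550.SplitPow.finite_of_regPair htf hfg P hPfg (hP f hf) (hP g hg)
  have hfp := Module.finitePresentation_of_finite R N
  refine ⟨hfinN, ?_⟩
  -- reflexivity
  obtain ⟨b, π, hπ⟩ := Module.Finite.exists_fin' R N
  have hsp : ∀ (a : R), a ∈ Ideal.span (Set.range h) → ∃ k : ℕ, a ^ k ∈ splitIdeal π :=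
    fun a ha => exists_pow_smul_mem _ (fun i => K550.SplitPow.exists_pow_mem_of_flat π hπ (h i)) ha
  have hrefl : Module.IsReflexive R N :=
    K550.SplitPow.isReflexive_of_regPair hfg hfgN π (hsp f hf) (hsp g hg)
  -- the endomorphisms
  have hkerf : ∀ x, L x = 0 → ∃ k : ℕ, f ^ k • x = 0 := fun x hx => by
    obtain ⟨k, hk⟩ := exists_pow_smul_mem' (⊥ : Submodule R (N ⊗[R] N)) x (fun i => hker x hx i) hf
    exact ⟨k, hk⟩
  have hcok' : ∀ (a : R), a ∈ Ideal.span (Set.range h) → ∀ y, ∃ (k : ℕ) (x : N ⊗[R] N),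
      a ^ k • y = L x := fun a ha y => by
    obtain ⟨k, x, hx⟩ := exists_pow_smul_mem' (LinearMap.range (L.restrictScalars R)) y
      (fun i => by
        obtain ⟨k, x, hx⟩ := hcok y i
        exact ⟨k, x, hx.symm⟩) ha
    exact ⟨k, x, hx.symm⟩
  obtain ⟨e⟩ := exists_endEquiv hfgN L hkerf (hcok' f hf) (hcok' g hg)
  obtain ⟨d, hd⟩ : ∃ d : ℕ, ringKrullDim R = d :=
    ⟨_, (IsRegularLocalRing.spanFinrank_maximalIdeal (R := R)).symm⟩
  exact K550.Auslander.free_of_end_equiv d R hd N r e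

end K550.LocMain
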