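import Groth.Agent.NonAbH1.K550.TorIso
import Groth.Agent.NonAbH1.K550.LocMain
import Groth.Agent.CalgA.RegLoc
import Mathlib.RingTheory.Localization.BaseChange
import Mathlib.RingTheory.Localization.LocalizationLocalization
import Mathlib.LinearAlgebra.TensorProduct.Pi

/-!
# Local freeness of hulls of torsors near a point whose local ring is regular
-/

set_option autoImplicit false
universe u

open scoped TensorProduct

namespace K550.AffMain

open K550.SatMod K550.TI

section lemmas

theorem isSat_algebraMap {A R : Type*} [CommRing A] [CommRing R] [Algebra A R] {ι : Type*}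
    {h : ι → A} {M : Type*} [AddCommGroup M] [Module A M] [Module R M] [IsScalarTower A R M]
    (hM : IsSat h M) : IsSat (fun i => algebraMap A R (h i)) M := by
  refine ⟨fun m hm => hM.sep m fun i => ?_, fun k m hm => ?_⟩
  · obtain ⟨k, hk⟩ := hm i
    exact ⟨k, by rwa [← map_pow, algebraMap_smul] at hk⟩
  · simp only [← map_pow, ← map_mul, algebraMap_smul] at hm ⊢
    exact hM.glue k m hm

theorem isLocalizedModule_lTensor {R M M' N : Type*} [CommRing R] (S : Submonoid R)
    [AddCommGroup M] [Module R M] [AddCommGroup M'] [Module R M'] [AddCommGroup N] [Module R N]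
    (g : M →ₗ[R] M') [IsLocalizedModule S g] : IsLocalizedModule S (g.lTensor N) := by
  have h1 : IsLocalizedModule S (g.rTensor N) :=
    inferInstanceAs (IsLocalizedModule S (TensorProduct.AlgebraTensorModule.rTensor R N g))
  have h2 : g.lTensor N = (TensorProduct.comm R M' N).toLinearMap ∘ₗ g.rTensor N ∘ₗ
      (TensorProduct.comm R N M).toLinearMap := by
    ext; simp
  rw [h2]
  have h3 : IsLocalizedModule S (g.rTensor N ∘ₗ (TensorProduct.comm R N M).toLinearMap) :=
    IsLocalizedModule.of_linearEquiv_right S (g.rTensor N) (TensorProduct.comm R N M)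
  exact IsLocalizedModule.of_linearEquiv S _ (TensorProduct.comm R M' N)

theorem flat_localizedModule_baseChange {A : Type*} [CommRing A] (R : Type*) [CommRing R]
    [Algebra A R] (h : A) {B Bh : Type*} [AddCommGroup B] [Module A B] [AddCommGroup Bh]
    [Module A Bh] (l : B →ₗ[A] Bh) [IsLocalizedModule (.powers h) l] [Module.Flat A Bh] :
    Module.Flat R (LocalizedModule (.powers (algebraMap A R h)) (R ⊗[A] B)) := by
  have h1 : IsLocalizedModule (.powers h) ((l.baseChange R).restrictScalars A) :=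
    isLocalizedModule_lTensor (.powers h) l
  have h2 := IsLocalizedModule.of_restrictScalars (.powers h) (l.baseChange R)
  rw [Algebra.algebraMapSubmonoid_powers] at h2
  exact Module.Flat.of_linearEquiv (IsLocalizedModule.iso (.powers (algebraMap A R h))
    (l.baseChange R))

theorem exists_finset_span {A : Type*} [CommRing A] (h : A) {Ah : Type*} [CommRing Ah]
    [Algebra A Ah] [IsLocalization.Away h Ah] {B Bh : Type*} [AddCommGroup B] [Module A B]
    [AddCommGroup Bh] [Module A Bh] [Module Ah Bh] [IsScalarTower A Ah Bh]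
    (l : B →ₗ[A] Bh) [IsLocalizedModule (.powers h) l] [Module.Finite Ah Bh] :
    ∃ F : Finset B, ∀ b : B, ∃ k : ℕ, h ^ k • b ∈ Submodule.span A (F : Set B) := by
  classical
  obtain ⟨s, hs⟩ := (inferInstance : Module.Finite Ah Bh)
  refine ⟨IsLocalizedModule.finsetIntegerMultiple (Submonoid.powers h) l s, fun b => ?_⟩
  obtain ⟨⟨_, n₁, rfl⟩, hn₁⟩ := multiple_mem_span_of_mem_localization_span (Submonoid.powers h) Ah
    (s : Set Bh) (l b) (by rw [hs]; trivial)
  rw [Submonoid.smul_def] at hn₁
  change h ^ n₁ • l b ∈ _ at hn₁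
  rw [← map_smul] at hn₁
  obtain ⟨⟨_, n₂, rfl⟩, hn₂⟩ := IsLocalizedModule.smul_mem_finsetIntegerMultiple_span
    (Submonoid.powers h) l _ s hn₁
  rw [Submonoid.smul_def] at hn₂
  refine ⟨n₂ + n₁, ?_⟩
  rw [pow_add, mul_smul]
  exact hn₂

end lemmas

section transfer

variable {A : Type u} [CommRing A] {B : Type u} [CommRing B] [Algebra A B] (p : Ideal A) [p.IsPrime]

local notation "R" => Localization.AtPrime p
local notation "N" => Localization.AtPrime p ⊗[A] B

/-- the localization map -/
noncomputable def c : B →ₗ[A] N := TensorProduct.mk A R B 1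

instance : IsLocalizedModule p.primeCompl (c (B := B) p) :=
  inferInstanceAs (IsLocalizedModule p.primeCompl (TensorProduct.mk A R B 1))

/-- the map `B ⊗ B → N ⊗ N` -/
noncomputable def cc : B ⊗[A] B →ₗ[A] N ⊗[R] N :=
  TensorProduct.lift (LinearMap.mk₂ A (fun b b' => c p b ⊗ₜ[R] c p b')
    (fun x y z => by rw [map_add, TensorProduct.add_tmul])
    (fun a x y => by rw [map_smul, ← algebraMap_smul R a, ← TensorProduct.smul_tmul', algebraMap_smul])
    (fun x y z => by rw [map_add, TensorProduct.tmul_add])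
    (fun a x y => by rw [map_smul, ← algebraMap_smul R a, TensorProduct.tmul_smul, algebraMap_smul]))

lemma cc_tmul (b b' : B) : cc p (b ⊗ₜ b') = c p b ⊗ₜ[R] c p b' := rfl

theorem exists_smul_eq_cc (x : N ⊗[R] N) : ∃ s ∈ p.primeCompl, ∃ x₀, s • x = cc p x₀ := by
  induction x using TensorProduct.induction_on with
  | zero => exact ⟨1, one_mem _, 0, by simp⟩
  | tmul n n' =>
    obtain ⟨⟨b, s⟩, hs⟩ := IsLocalizedModule.surj p.primeCompl (c p) n
    obtain ⟨⟨b', s'⟩, hs'⟩ := IsLocalizedModule.surj p.primeCompl (c p) n'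
    refine ⟨s * s', (s * s').2, b ⊗ₜ b', ?_⟩
    rw [cc_tmul, ← hs, ← hs']
    simp only [Submonoid.smul_def]
    rw [← algebraMap_smul R (s : A) n, ← algebraMap_smul R (s' : A) n', TensorProduct.smul_tmul_smul,
      ← map_mul, algebraMap_smul]
  | add x y hx hy =>
    obtain ⟨s, hs, x₀, hx⟩ := hx
    obtain ⟨t, ht, y₀, hy⟩ := hy
    refine ⟨s * t, mul_mem hs ht, t • x₀ + s • y₀, ?_⟩
    rw [smul_add, map_add, map_smul, map_smul, ← hx, ← hy, smul_smul, smul_smul, mul_comm t]

variable {r : ℕ} (ρ : B →ₗ[A] (Fin r → B))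

/-- the localization of `ρ` -/
noncomputable def rhoR : N →ₗ[R] (Fin r → N) :=
  (TensorProduct.piRight A R R (fun _ : Fin r => B)).toLinearMap ∘ₗ ρ.baseChange R

lemma rhoR_c (b : B) : rhoR p ρ (c p b) = fun j => c p (ρ b j) := by
  funext j
  simp [rhoR, c]

lemma LR_cc (x : B ⊗[A] B) : (rhoR p ρ).liftBaseChange N (cc p x) =
    fun j => c p (ρ.liftBaseChange B x j) := by
  induction x using TensorProduct.induction_on with
  | zero => simp; rfl
  | tmul b b' =>
    funext j
    rw [cc_tmul, LinearMap.liftBaseChange_tmul, rhoR_c, LinearMap.liftBaseChange_tmul]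
    simp [c]
  | add x y hx hy =>
    rw [map_add, map_add, hx, hy]
    funext j
    simp

/-- the localization map on `B ^ r` -/
noncomputable def cr (r : ℕ) : (Fin r → B) →ₗ[A] (Fin r → N) := .pi fun i => c p ∘ₗ .proj i

instance : IsLocalizedModule p.primeCompl (cr (B := B) p r) :=
  inferInstanceAs (IsLocalizedModule p.primeCompl (.pi fun i : Fin r => c p ∘ₗ .proj i))

lemma eq_zero_of_smul {P : Type*} [AddCommGroup P] [Module A P] [Module R P] [IsScalarTower A R P]
    {s : A} (hs : s ∈ p.primeCompl) {x : P} (hx : s • x = 0) : x = 0 := by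
  have hu : IsUnit (algebraMap A R s) :=
    IsLocalization.map_units (M := p.primeCompl) R ⟨s, hs⟩
  rw [← algebraMap_smul R s] at hx
  exact (hu.smul_eq_zero).mp hx

variable {ρ} {h : A}

theorem ker_of_torIso (hρ : TorIso (.powers h) ((ρ.liftBaseChange B).restrictScalars A))
    (x : N ⊗[R] N) (hx : (rhoR p ρ).liftBaseChange N x = 0) : ∃ k : ℕ, algebraMap A R h ^ k • x = 0 := by
  obtain ⟨s, hs, x₀, hx₀⟩ := exists_smul_eq_cc p x
  have h1 : cr p r (ρ.liftBaseChange B x₀) = 0 := by
    have := LR_cc p ρ x₀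
    rw [← hx₀, LinearMap.map_smul_of_tower, hx, smul_zero] at this
    exact this.symm
  obtain ⟨⟨t, ht⟩, ht'⟩ := (IsLocalizedModule.eq_zero_iff p.primeCompl (cr p r)).mp h1
  obtain ⟨_, ⟨k, rfl⟩, hk⟩ := hρ.inj (t • x₀) (by
    rw [map_smul]
    exact ht')
  refine ⟨k, ?_⟩
  rw [← map_pow, algebraMap_smul]
  refine eq_zero_of_smul p (P := N ⊗[R] N) hs ?_
  refine eq_zero_of_smul p (P := N ⊗[R] N) ht ?_
  have h2 := congrArg (cc p) hk
  dsimp only at h2
  rw [map_zero, map_smul, map_smul, ← hx₀] at h2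
  rw [← h2, smul_comm s, smul_comm t]

theorem coker_of_torIso (hρ : TorIso (.powers h) ((ρ.liftBaseChange B).restrictScalars A))
    (y : Fin r → N) : ∃ (k : ℕ) (x : N ⊗[R] N),
      algebraMap A R h ^ k • y = (rhoR p ρ).liftBaseChange N x := by
  obtain ⟨⟨y₀, s⟩, hs⟩ := IsLocalizedModule.surj p.primeCompl (cr p r) y
  obtain ⟨_, ⟨k, rfl⟩, x₀, hx₀⟩ := hρ.surj y₀
  obtain ⟨u, hu⟩ : IsUnit (algebraMap A R s) := IsLocalization.map_units (M := p.primeCompl) R s
  refine ⟨k, (↑u⁻¹ : R) • cc p x₀, ?_⟩
  rw [← map_pow, algebraMap_smul]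
  have h1 : (s : A) • h ^ k • y = (rhoR p ρ).liftBaseChange N (cc p x₀) := by
    rw [LR_cc]
    have h2 : h ^ k • y₀ = (ρ.liftBaseChange B) x₀ := hx₀
    change _ = cr p r ((ρ.liftBaseChange B) x₀)
    rw [← h2, map_smul, ← hs, Submonoid.smul_def, smul_comm]
  rw [LinearMap.map_smul_of_tower, ← h1, ← algebraMap_smul R (s : A), ← hu, smul_smul,
    Units.inv_mul, one_smul]

end transfer

theorem exists_torIso {A : Type u} [CommRing A] {ι : Type*} [Finite ι] (h : ι → A) (p : Ideal A)
    [p.IsPrime] [IsRegularLocalRing (Localization.AtPrime p)]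
    (hdim : ∀ q : Ideal A, ∀ _ : q.IsPrime, (∀ i, h i ∈ q) →
      2 ≤ ringKrullDim (Localization.AtPrime q))
    {B : Type u} [CommRing B] [Algebra A B] (hA : IsSat h A) (hB : IsSat h B)
    (Ah : ι → Type*) [∀ i, CommRing (Ah i)] [∀ i, Algebra A (Ah i)]
    [∀ i, IsLocalization.Away (h i) (Ah i)]
    (Bh : ι → Type*) [∀ i, AddCommGroup (Bh i)] [∀ i, Module A (Bh i)] [∀ i, Module (Ah i) (Bh i)]
    [∀ i, IsScalarTower A (Ah i) (Bh i)]
    (l : ∀ i, B →ₗ[A] Bh i) [∀ i, IsLocalizedModule (.powers (h i)) (l i)]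
    [∀ i, Module.FinitePresentation (Ah i) (Bh i)] [∀ i, Module.Flat (Ah i) (Bh i)]
    {r : ℕ} (ρ : B →ₗ[A] (Fin r → B))
    (hρ : ∀ i, TorIso (.powers (h i)) ((ρ.liftBaseChange B).restrictScalars A)) :
    ∃ s ∉ p, ∃ (n : ℕ) (φ : (Fin n → A) →ₗ[A] B), TorIso (.powers s) φ := by
  classical
  have := Fintype.ofFinite ι
  let R := Localization.AtPrime p
  let N := R ⊗[A] B
  have hflatA : ∀ i, Module.Flat A (Bh i) := fun i =>
    (Module.flat_iff_of_isLocalization (Ah i) (.powers (h i)) (Bh i)).mp inferInstance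
  have key : Module.Finite R N ∧ Module.Free R N := by
    refine K550.LocMain.finite_and_free (fun i => algebraMap A R (h i)) ?_
      (isSat_algebraMap (hB.localize p.primeCompl (c p)))
      (fun i => flat_localizedModule_baseChange R (h i) (l i)) (fun i => ?_)
      ((rhoR p ρ).liftBaseChange N) (fun x hx i => ker_of_torIso p (hρ i) x hx)
      (fun y i => coker_of_torIso p (hρ i) y)
    · intro q hq hqh
      refine ⟨Groth.Agent.CalgA.RegLoc.isRegularLocalRing_localization _ q, ?_⟩
      have h1 := hdim (q.comap (algebraMap A R)) inferInstance fun i => hqh i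
      have e := IsLocalization.localizationLocalizationAtPrimeIsoLocalization p.primeCompl q
      rwa [ringKrullDim_eq_of_ringEquiv e.toRingEquiv] at h1
    · obtain ⟨F, hF⟩ := exists_finset_span (h i) (Ah := Ah i) (l i)
      refine ⟨F.image (c p), fun n => ?_⟩
      obtain ⟨⟨b, s⟩, hs⟩ := IsLocalizedModule.surj p.primeCompl (c p) n
      obtain ⟨k, hk⟩ := hF b
      refine ⟨k, ?_⟩
      obtain ⟨u, hu⟩ : IsUnit (algebraMap A R s) :=
        IsLocalization.map_units (M := p.primeCompl) R s
      have h1 : n = (↑u⁻¹ : R) • c p b := by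
        rw [← hs]
        simp only [Submonoid.smul_def]
        rw [← algebraMap_smul R (s : A), ← hu, smul_smul, Units.inv_mul, one_smul]
      rw [h1, smul_comm]
      refine Submodule.smul_mem _ _ ?_
      rw [← map_pow, algebraMap_smul, ← map_smul, Finset.coe_image]
      exact Submodule.span_le_restrictScalars A R _ (by
        rw [← Submodule.map_span]
        exact Submodule.mem_map_of_mem hk)
  obtain ⟨hfinN, hfreeN⟩ := key
  let n := Module.finrank R N
  let e : Module.Basis (Fin n) R N := Module.finBasis R N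
  obtain ⟨s, hs⟩ := IsLocalizedModule.exist_integer_multiples_of_finite p.primeCompl (c p) e
  choose b hb using hs
  let φ : (Fin n → A) →ₗ[A] B := (Pi.basisFun A (Fin n)).constr A b
  let f : (Fin n → A) →ₗ[A] (Fin n → R) := .pi fun i => (Algebra.linearMap A R) ∘ₗ .proj i
  have : IsLocalizedModule p.primeCompl (Algebra.linearMap A R) := inferInstance
  have hf : IsLocalizedModule p.primeCompl f := inferInstance
  obtain ⟨u, hu⟩ : IsUnit (algebraMap A R s) := IsLocalization.map_units (M := p.primeCompl) R s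
  let ψ : (Fin n → R) ≃ₗ[R] N := e.equivFun.symm.trans (LinearEquiv.smulOfUnit u)
  have hφ : TorIso p.primeCompl φ := by
    refine TorIso.of_bijective_map f (c p) ψ (fun x => ?_) (map_zero _) (fun a y => ?_) ψ.bijective
    · have h1 : ψ (f x) = (u : R) • ∑ j, algebraMap A R (x j) • e j := by
        change (u : R) • (e.equivFun.symm (f x)) = _
        rw [Module.Basis.equivFun_symm_apply]
        rfl
      rw [h1, Finset.smul_sum, Module.Basis.constr_apply_fintype, map_sum]
      refine Finset.sum_congr rfl fun j _ => ?_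
      rw [map_smul, hb, hu, algebraMap_smul, algebraMap_smul, smul_comm]
      rfl
    · exact LinearMap.map_smul_of_tower ψ.toLinearMap a y
  choose t ht ht' using fun i => hφ.exists_of_away (h i) (Ah := Ah i) (l i)
  refine ⟨∏ i, t i, ?_, n, φ, TorIso.glue hA.pi hB fun i => (ht' i).of_dvd ?_⟩
  · exact (Submonoid.prod_mem p.primeCompl fun i _ => ht i)
  · exact mul_dvd_mul_right (Finset.dvd_prod_of_mem _ (Finset.mem_univ i)) _

end K550.AffMain
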