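import Groth.Agent.NonAbH1.K550.HullDD
import Groth.Agent.NonAbH1.K550.RegExt

/-!
# `End(N) ≅ N^r` passes to the reflexive hull of `N / xN`
-/

set_option autoImplicit false
universe u

open IsLocalRing Pointwise

namespace K550.EndDD

open Groth.Agent.Divis.DepthTwo Groth.Agent.Divis.ReflexAlg K550.SplitId K550.HullDD K550.RegExt

variable {R : Type u} [CommRing R] {x : R} {N : Type u} [AddCommGroup N] [Module R N]

lemma mk_smul_eq {P : Type*} [AddCommGroup P] [Module R P] [Module (R ⧸ Ideal.span {x}) P]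
    [IsScalarTower R (R ⧸ Ideal.span {x}) P] (s : R) (p : P) :
    (Ideal.Quotient.mk (Ideal.span {x}) s) • p = s • p :=
  algebraMap_smul (R ⧸ Ideal.span {x}) s p

theorem regPair_restrict {P : Type*} [AddCommGroup P] [Module R P]
    [Module (R ⧸ Ideal.span {x}) P] [IsScalarTower R (R ⧸ Ideal.span {x}) P] {s t : R}
    (h : RegPair (Ideal.Quotient.mk (Ideal.span {x}) s) (Ideal.Quotient.mk (Ideal.span {x}) t) P) :
    RegPair s t P :=
  ⟨fun p hp => h.inj p (by rwa [mk_smul_eq]), fun p q hpq => by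
    obtain ⟨z, hz⟩ := h.div p q (by rwa [mk_smul_eq, mk_smul_eq])
    exact ⟨z, by rwa [mk_smul_eq] at hz⟩⟩

section

variable [IsRegularLocalRing R]

/-- powers of lifts of a regular pair of `R / x` -/
theorem exists_pair (hx : x ∈ maximalIdeal R) (hx2 : x ∉ maximalIdeal R ^ 2)
    (hd : 3 ≤ ringKrullDim R) (k : ℕ) :
    ∃ s ∈ maximalIdeal R ^ k, ∃ t ∈ maximalIdeal R ^ k,
      RegPair (Ideal.Quotient.mk (Ideal.span {x}) s) (Ideal.Quotient.mk (Ideal.span {x}) t)
        (R ⧸ Ideal.span {x}) := by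
  obtain ⟨hreg, hdim⟩ := Groth.Agent.CalgA.RegBasic.quotient_of_notMem_sq x hx hx2
  have hdim1 : 2 ≤ ringKrullDim (R ⧸ Ideal.span {x}) := by
    rw [← ENat.WithBot.add_le_add_one_right_iff, hdim]
    exact hd
  obtain ⟨s, hs, t, ht, hst⟩ := K550.RegPairs.exists_regPair_of_regular hdim1
  obtain ⟨s, rfl⟩ := Ideal.Quotient.mk_surjective s
  obtain ⟨t, rfl⟩ := Ideal.Quotient.mk_surjective t
  have key : ∀ y : R, Ideal.Quotient.mk (Ideal.span {x}) y ∈ maximalIdeal (R ⧸ Ideal.span {x}) →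
      y ∈ maximalIdeal R := by
    intro y hy
    by_contra hyu
    have : IsUnit y := by simpa using hyu
    exact hy (this.map _)
  refine ⟨s ^ k, Ideal.pow_mem_pow (key s hs) k, t ^ k, Ideal.pow_mem_pow (key t ht) k, ?_⟩
  rw [map_pow, map_pow]
  exact hst.pow k k

end

/-- a linear map with image in `xN` is divisible by `x` -/
theorem exists_eq_smul {A : Type*} [AddCommGroup A] [Module R A] (hx : ∀ n : N, x • n = 0 → n = 0)
    (φ : A →ₗ[R] N) (h : ∀ a, ∃ n, φ a = x • n) : ∃ φ' : A →ₗ[R] N, φ = x • φ' := by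
  choose f hf using h
  have inj : ∀ {u v : N}, x • u = x • v → u = v := fun {u v} huv => by
    rw [← sub_eq_zero]
    apply hx
    rw [smul_sub, huv, sub_self]
  refine ⟨{ toFun := f, map_add' := fun a b => inj ?_, map_smul' := fun r a => inj ?_ }, ?_⟩
  · rw [← hf, smul_add, ← hf, ← hf, map_add]
  · rw [← hf, RingHom.id_apply, smul_comm, ← hf, map_smul]
  · ext a
    exact hf a

theorem exists_end_equiv [IsRegularLocalRing R] (hx : x ∈ maximalIdeal R)
    (hx2 : x ∉ maximalIdeal R ^ 2) (hd : 3 ≤ ringKrullDim R) [Module.Finite R N]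
    [Module.IsReflexive R N] {b : ℕ} (π : (Fin b → R) →ₗ[R] N)
    (k : ℕ) (hk : maximalIdeal R ^ k ≤ splitIdeal π) (r : ℕ)
    (e : (N →ₗ[R] N) ≃ₗ[R] (Fin r → N)) :
    Nonempty ((DD x N →ₗ[R ⧸ Ideal.span {x}] DD x N) ≃ₗ[R ⧸ Ideal.span {x}]
      (Fin r → DD x N)) := by
  classical
  obtain ⟨hreg, hdim⟩ := Groth.Agent.CalgA.RegBasic.quotient_of_notMem_sq x hx hx2
  have hdom := Groth.Agent.CalgA.RegBasic.isDomain R
  have hdom' := Groth.Agent.CalgA.RegBasic.isDomain (R ⧸ Ideal.span {x})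
  have hx0 : x ≠ 0 := K550.RegPairs.ne_zero_of_notMem_sq hx2
  have hxN : ∀ n : N, x • n = 0 → n = 0 := fun n hn =>
    (smul_eq_zero_iff_right hx0).mp hn
  obtain ⟨s, hs, t, ht, hst⟩ := exists_pair hx hx2 hd k
  have hfin : Module.Finite (R ⧸ Ideal.span {x}) (QuotSMulTop x N) :=
    Module.Finite.of_restrictScalars_finite R _ _
  have hP : RegPair s t (DD x N) := regPair_restrict (RegPair.hom hst)
  have hs' := hk hs
  have ht' := hk ht
  have hf : ∀ ξ : DD x N, ∃ (l : ℕ) (n : N), s ^ l • ξ = ι x N n := fun ξ => by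
    obtain ⟨n, hn⟩ := exists_smul_eq_ι π hs' ξ
    exact ⟨1, n, by rwa [pow_one]⟩
  have hg : ∀ ξ : DD x N, ∃ (l : ℕ) (n : N), t ^ l • ξ = ι x N n := fun ξ => by
    obtain ⟨n, hn⟩ := exists_smul_eq_ι π ht' ξ
    exact ⟨1, n, by rwa [pow_one]⟩
  -- the map `End(N) → End(DD)`
  have hc0 : ∀ φ : N →ₗ[R] N, ∃ θ : DD x N →ₗ[R] DD x N, ∀ n, θ (ι x N n) = ι x N (φ n) := by
    intro φ
    refine extend hP (ι x N) (ι x N ∘ₗ φ) ?_ hf hg
    intro n hn
    obtain ⟨m, rfl⟩ := (ι_eq_zero_iff hx hx2 n).mp hn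
    exact (ι_eq_zero_iff hx hx2 _).mpr ⟨φ m, map_smul φ x m⟩
  choose c hc using hc0
  let C : (N →ₗ[R] N) →ₗ[R] (DD x N →ₗ[R] DD x N) :=
    { toFun := c
      map_add' := fun φ φ' => hom_ext hP.inj (ι x N) hf fun n => by
        rw [hc, LinearMap.add_apply, LinearMap.add_apply, hc, hc, map_add]
      map_smul' := fun a φ => hom_ext hP.inj (ι x N) hf fun n => by
        rw [hc, LinearMap.smul_apply, RingHom.id_apply, LinearMap.smul_apply, hc, map_smul] }
  have hC : ∀ φ n, C φ (ι x N n) = ι x N (φ n) := hc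
  have hC0 : ∀ φ, C φ = 0 ↔ ∃ φ', φ = x • φ' := by
    intro φ
    constructor
    · intro h
      refine exists_eq_smul hxN φ fun n => ?_
      rw [← ι_eq_zero_iff hx hx2, ← hC, h, LinearMap.zero_apply]
    · rintro ⟨φ', rfl⟩
      refine hom_ext hP.inj (ι x N) hf fun n => ?_
      rw [hC, LinearMap.zero_apply, ι_eq_zero_iff hx hx2]
      exact ⟨φ' n, rfl⟩
  let J : (Fin r → N) →ₗ[R] (Fin r → DD x N) := LinearMap.pi fun i => ι x N ∘ₗ LinearMap.proj i
  have hJ0 : ∀ a, J a = 0 ↔ ∃ a', a = x • a' := by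
    intro a
    constructor
    · intro h
      have h1 : ∀ i, ∃ n, a i = x • n := fun i =>
        (ι_eq_zero_iff hx hx2 (a i)).mp (congrFun h i)
      choose a' ha' using h1
      exact ⟨a', funext ha'⟩
    · rintro ⟨a', rfl⟩
      funext i
      exact (ι_eq_zero_iff hx hx2 _).mpr ⟨a' i, rfl⟩
  have key₁ : ∀ s ∈ splitIdeal π, ∀ θ : DD x N →ₗ[R] DD x N, ∃ (l : ℕ) (a : Fin r → N),
      s ^ l • θ = (C ∘ₗ e.symm.toLinearMap) a := by
    intro s hs θ
    obtain ⟨σ, hσ⟩ := (mem_splitIdeal π).mp hs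
    choose n hn using fun j : Fin b => exists_smul_eq_ι π hs (θ (ι x N (π (Pi.single j 1))))
    let ρ : (Fin b → R) →ₗ[R] N := (Pi.basisFun R (Fin b)).constr R n
    have hρ : ι x N ∘ₗ ρ = s • (θ ∘ₗ ι x N ∘ₗ π) := by
      refine (Pi.basisFun R (Fin b)).ext fun j => ?_
      have h1 : ρ (Pi.basisFun R (Fin b) j) = n j := (Pi.basisFun R (Fin b)).constr_basis R n j
      rw [LinearMap.comp_apply, h1, ← hn j, Pi.basisFun_apply]
      rfl
    refine ⟨2, e (ρ ∘ₗ σ), ?_⟩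
    rw [LinearMap.comp_apply, LinearEquiv.coe_coe, LinearEquiv.symm_apply_apply]
    refine hom_ext hP.inj (ι x N) hf fun m => ?_
    rw [hC, LinearMap.comp_apply]
    have h2 := LinearMap.congr_fun hρ (σ m)
    simp only [LinearMap.comp_apply, LinearMap.smul_apply] at h2
    rw [h2, hσ, map_smul, map_smul, smul_smul, ← pow_two, LinearMap.smul_apply]
  have key₂ : ∀ s ∈ splitIdeal π, ∀ ξ : Fin r → DD x N, ∃ (l : ℕ) (a : Fin r → N),
      s ^ l • ξ = J a := by
    intro s hs ξ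
    choose n hn using fun i : Fin r => exists_smul_eq_ι π hs (ξ i)
    exact ⟨1, n, by rw [pow_one]; exact funext hn⟩
  obtain ⟨E, -⟩ := exists_equiv (RegPair.hom (N := DD x N) hP) (RegPair.pi (ι := Fin r) hP)
    (C ∘ₗ e.symm.toLinearMap) J (by
      intro a
      rw [LinearMap.comp_apply, LinearEquiv.coe_coe, hC0, hJ0]
      constructor
      · rintro ⟨φ', h⟩
        exact ⟨e φ', by rw [← map_smul, ← h, LinearEquiv.apply_symm_apply]⟩
      · rintro ⟨a', rfl⟩
        exact ⟨e.symm a', by rw [map_smul]⟩)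
    (key₁ s hs') (key₁ t ht') (key₂ s hs') (key₂ t ht')
  exact ⟨(((LinearMap.extendScalarsOfSurjectiveEquiv
    (Ideal.Quotient.mk_surjective (I := Ideal.span {x}))).symm.trans E).extendScalarsOfSurjective
      (Ideal.Quotient.mk_surjective (I := Ideal.span {x})))⟩

end K550.EndDD
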