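import Groth.Agent.NonAbH1.K550.PDDown
import Groth.Agent.NonAbH1.K550.EndDD

/-!
# Freeness from freeness of the reflexive hull of `N / xN`, in dimension at least four
-/

set_option autoImplicit false
universe u

open CategoryTheory Abelian IsLocalRing Pointwise

namespace K550.Aus4

open Groth.Agent.CalgA Groth.Agent.CalgA.RegProjDim K550.ExtLen K550.RegDepth K550.PDDown
open Groth.Agent.Divis.DepthTwo Groth.Agent.Divis.ReflexAlg K550.SplitId K550.HullDD K550.RegExt

variable {R : Type u} [CommRing R]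

theorem le_depth_of_PD [IsRegularLocalRing R] (δ c : ℕ) (hd : ringKrullDim R = (δ + c : ℕ))
    (N : Type u) [AddCommGroup N] [Module R N] [Module.Finite R N] [Nontrivial N]
    (h : PD R N (c + 1)) : (δ : ℕ∞) ≤ LocCoh.depth R N := by
  classical
  have hex : ∃ n : ℕ, PD R N (n + 1) := ⟨c, h⟩
  let e := Nat.find hex
  have he : RegAB.PDeq (R := R) N e := by
    refine ⟨Nat.find_spec hex, ?_⟩
    intro hcon
    rcases Nat.eq_zero_or_pos e with h0 | h0
    · rw [h0] at hcon
      have := PD.zero_iff.mp hcon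
      exact not_subsingleton N this
    · have := Nat.find_min hex (m := e - 1) (by omega)
      apply this
      rwa [Nat.sub_add_cancel h0]
  have hec : e ≤ c := Nat.find_min' hex h
  have hAB := RegAB.depth_eq N e he
  rw [depth_eq R (δ + c) hd] at hAB
  have h1 : ((e + δ : ℕ) : ℕ∞) ≤ (e : ℕ∞) + LocCoh.depth R N := by
    rw [← hAB]
    exact_mod_cast (by omega)
  push_cast at h1
  exact (ENat.add_le_add_iff_left (by simp)).mp h1

/-- free modules over `R / x` have projective dimension at most one over `R` -/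
theorem PD_of_free_quotient [IsLocalRing R] [IsDomain R] {x : R} (hx0 : x ≠ 0) (D : Type u)
    [AddCommGroup D] [Module R D] [Module (R ⧸ Ideal.span {x}) D]
    [IsScalarTower R (R ⧸ Ideal.span {x}) D] [Module.Finite (R ⧸ Ideal.span {x}) D]
    [Module.Free (R ⧸ Ideal.span {x}) D] : PD R D 2 := by
  rcases subsingleton_or_nontrivial (R ⧸ Ideal.span {x}) with h | h
  · have : Subsingleton D := Module.subsingleton (R ⧸ Ideal.span {x}) D
    exact PD.of_subsingleton
  let c := Module.finrank (R ⧸ Ideal.span {x}) D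
  have e : (Fin c → R ⧸ Ideal.span {x}) ≃ₗ[R ⧸ Ideal.span {x}] D :=
    LinearEquiv.ofFinrankEq _ _ (by simp [c])
  refine PD.of_linearEquiv (e.restrictScalars R) ?_
  let f : (Fin c → R) →ₗ[R] (Fin c → R) := x • LinearMap.id
  let g : (Fin c → R) →ₗ[R] (Fin c → R ⧸ Ideal.span {x}) :=
    LinearMap.pi fun j => (Algebra.linearMap R (R ⧸ Ideal.span {x})) ∘ₗ LinearMap.proj j
  refine (PD.ses_iff f g ?_ ?_ ?_ 0).mpr (PD.one_iff.mpr inferInstance)
  · intro v w hvw
    ext j
    exact mul_left_cancel₀ hx0 (congrFun hvw j)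
  · intro v
    constructor
    · intro hv
      have h1 : ∀ j, ∃ w, w * x = v j := fun j => by
        rw [← Ideal.mem_span_singleton', ← Ideal.Quotient.eq_zero_iff_mem]
        exact congrFun hv j
      choose w hw using h1
      exact ⟨w, funext fun j => by rw [← hw]; exact mul_comm _ _⟩
    · rintro ⟨w, rfl⟩
      ext j
      change Ideal.Quotient.mk _ (x * w j) = 0
      rw [Ideal.Quotient.eq_zero_iff_mem]
      exact Ideal.mul_mem_right _ _ (Ideal.mem_span_singleton_self x)
  · intro v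
    choose w hw using fun j => Ideal.Quotient.mk_surjective (v j)
    exact ⟨w, funext hw⟩

theorem slice [IsRegularLocalRing R] (d : ℕ) (hd : ringKrullDim R = (d + 4 : ℕ)) {x : R}
    (hx : x ∈ maximalIdeal R) (hx2 : x ∉ maximalIdeal R ^ 2) (N : Type u) [AddCommGroup N]
    [Module R N] [Module.Finite R N] [Module.IsReflexive R N] {b : ℕ}
    (π : (Fin b → R) →ₗ[R] N) (k : ℕ) (hk : maximalIdeal R ^ k ≤ splitIdeal π)
    (hfree : Module.Free (R ⧸ Ideal.span {x}) (DD x N)) : Module.Free R N := by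
  rcases subsingleton_or_nontrivial N with hN0 | hN0
  · infer_instance
  obtain ⟨hreg, hdim⟩ := Groth.Agent.CalgA.RegBasic.quotient_of_notMem_sq x hx hx2
  have hdom := Groth.Agent.CalgA.RegBasic.isDomain R
  have hdom' := Groth.Agent.CalgA.RegBasic.isDomain (R ⧸ Ideal.span {x})
  have hx0 : x ≠ 0 := K550.RegPairs.ne_zero_of_notMem_sq hx2
  have hxN : ∀ n : N, x • n = 0 → n = 0 := fun n hn =>
    (smul_eq_zero_iff_right hx0).mp hn
  have hxreg : IsSMulRegular N x := by
    rw [isSMulRegular_iff_right_eq_zero_of_smul]; exact hxN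
  have hfin : Module.Finite (R ⧸ Ideal.span {x}) (QuotSMulTop x N) :=
    Module.Finite.of_restrictScalars_finite R _ _
  have hfinD : Module.Finite R (DD x N) := Module.Finite.trans (R ⧸ Ideal.span {x}) _
  -- the map `N / xN → DD`
  let j : QuotSMulTop x N →ₗ[R] DD x N :=
    (Module.Dual.eval (R ⧸ Ideal.span {x}) (QuotSMulTop x N)).restrictScalars R
  have hj : ∀ n : N, j (Submodule.Quotient.mk n) = ι x N n := fun n => rfl
  have hjinj : Function.Injective j := by
    rw [injective_iff_map_eq_zero]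
    intro m hm
    obtain ⟨n, rfl⟩ := Submodule.mkQ_surjective _ m
    rw [Submodule.mkQ_apply] at hm ⊢
    rw [hj, ι_eq_zero_iff hx hx2] at hm
    exact (mk_eq_zero_iff n).mpr hm
  let C := DD x N ⧸ LinearMap.range j
  have hjC : Function.Exact j (LinearMap.range j).mkQ := LinearMap.exact_map_mkQ_range j
  have hCkill : ∀ s ∈ maximalIdeal R ^ k, ∀ t : C, s • t = 0 := by
    intro s hs t
    obtain ⟨ξ, rfl⟩ := Submodule.mkQ_surjective _ t
    obtain ⟨n, hn⟩ := exists_smul_eq_ι π (hk hs) ξ
    rw [← map_smul, hn, Submodule.mkQ_apply, Submodule.Quotient.mk_eq_zero]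
    exact ⟨_, hj n⟩
  -- vanishing of `Ext^{d+2}(N / xN, R)`
  have hXC : Subsingleton (X R C (1 + (d + 2))) := subsingleton_X (d + 4) hd k hCkill _ (by omega)
  have hXD : Subsingleton (X R (DD x N) (d + 2)) :=
    subsingleton_X_of_PD _ (PD_of_free_quotient hx0 (DD x N)) (by omega)
  have hXM : Subsingleton (X R (QuotSMulTop x N) (d + 2)) := by
    refine ⟨fun y z => ?_⟩
    rw [← sub_eq_zero]
    obtain ⟨w, hw⟩ := (exact₁ j _ hjinj hjC (Submodule.mkQ_surjective _) (d + 2) (y - z)).mp
      (Subsingleton.elim _ _)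
    rw [← hw, Subsingleton.elim w 0, map_zero]
  -- vanishing of `Ext^{d+2}(N, R)`
  have hxinj : ∀ y : X R N (d + 2), x • y = 0 → y = 0 := by
    intro y hy
    have hex : Function.Exact (x • LinearMap.id : N →ₗ[R] N)
        (Submodule.mkQ (x • (⊤ : Submodule R N))) := by
      intro n
      rw [Submodule.mkQ_apply, mk_eq_zero_iff]
      constructor
      · rintro ⟨m, rfl⟩; exact ⟨m, rfl⟩
      · rintro ⟨m, rfl⟩; exact ⟨m, rfl⟩
    obtain ⟨z, hz⟩ := (exact₂ (x • LinearMap.id : N →ₗ[R] N) _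
      (fun a b hab => hxreg hab) hex (Submodule.mkQ_surjective _) (d + 2) y).mp
      (by rw [pull_smul_id, hy])
    rw [← hz, Subsingleton.elim z 0, map_zero]
  have hXN : Subsingleton (X R N (d + 2)) := by
    obtain ⟨σ, hσ⟩ := (mem_splitIdeal π).mp (hk (Ideal.pow_mem_pow hx k))
    have h1 : ∀ (l : ℕ) (y : X R N (d + 2)), x ^ l • y = 0 → y = 0 := by
      intro l
      induction l with
      | zero => intro y hy; simpa using hy
      | succ l ih => intro y hy; exact ih _ (hxinj _ (by rw [← mul_smul, ← pow_succ', hy]))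
    have h2 : ∀ y : X R N (d + 2), y = 0 := fun y =>
      h1 k y (smul_X_eq_zero π σ _ hσ _ (by omega) y)
    exact ⟨fun y z => by rw [h2 y, h2 z]⟩
  -- depth at least three
  have hdepth2 : ((2 : ℕ) : ℕ∞) ≤ LocCoh.depth R N := by
    obtain ⟨u, hu, v, hv, huv⟩ := K550.RegPairs.exists_regPair_of_regular (R := R) (by
      rw [hd]; exact_mod_cast (by omega : 2 ≤ d + 4))
    exact (regPair_of_isReflexive (M := N) huv).two_le_idealDepth hu hv
  have hPD : PD R N (d + 1 + 2) := Groth.Agent.Pi1C.ConeDepth.PD_of_depth R 2 (d + 2)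
    (by rw [hd]; exact_mod_cast (by omega)) N hdepth2
  have hPD' : PD R N (d + 1 + 1) := PD_down (d + 1) N hPD (by
    have : 1 + (d + 1) = d + 2 := by omega
    rwa [this])
  have hdepth3 : ((3 : ℕ) : ℕ∞) ≤ LocCoh.depth R N :=
    le_depth_of_PD 3 (d + 1) (by rw [hd]; congr 1; ring) N hPD'
  have hdepthM : 2 ≤ LocCoh.idealDepth (maximalIdeal R) (QuotSMulTop x N) := by
    have h1 := Groth.Agent.Localalg.Depth.idealDepth_quotSMulTop_add_one (maximalIdeal R) N x hx
      hxreg
    have h2 : ((2 : ℕ) : ℕ∞) + 1 ≤ LocCoh.idealDepth (maximalIdeal R) (QuotSMulTop x N) + 1 := by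
      rw [h1]; exact hdepth3
    exact (ENat.add_le_add_iff_right (by simp)).mp h2
  have hMnt : Nontrivial (QuotSMulTop x N) := by
    rw [Submodule.Quotient.nontrivial_iff]
    intro htop
    have h1 : (⊤ : Submodule R N) ≤ (maximalIdeal R) • ⊤ := by
      rw [← htop]
      intro n hn
      rw [Submodule.mem_smul_pointwise_iff_exists] at hn
      obtain ⟨m, -, rfl⟩ := hn
      rw [htop]
      exact Submodule.smul_mem_smul hx trivial
    have h2 := Submodule.eq_bot_of_le_smul_of_le_jacobson_bot (maximalIdeal R) ⊤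
      Module.Finite.fg_top h1 (IsLocalRing.maximalIdeal_le_jacobson _)
    exact not_subsingleton N ((Submodule.subsingleton_iff R).mp (subsingleton_of_bot_eq_top h2.symm))
  have hMtop : maximalIdeal R • (⊤ : Submodule R (QuotSMulTop x N)) ≠ ⊤ := by
    intro htop
    have h2 := Submodule.eq_bot_of_le_smul_of_le_jacobson_bot (maximalIdeal R) ⊤
      Module.Finite.fg_top htop.ge (IsLocalRing.maximalIdeal_le_jacobson _)
    exact not_subsingleton (QuotSMulTop x N)
      ((Submodule.subsingleton_iff R).mp (subsingleton_of_bot_eq_top h2.symm))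
  obtain ⟨f, hf, g, hg, hfg⟩ := exists_regPair_of_two_le_idealDepth hMtop hdepthM
  -- the map `N / xN → DD` is bijective
  have hfx : f ∉ Ideal.span {x} := by
    intro hfx
    obtain ⟨m, hm⟩ := exists_ne (0 : QuotSMulTop x N)
    apply hm
    apply hfg.inj
    obtain ⟨c, rfl⟩ := Ideal.mem_span_singleton'.mp hfx
    obtain ⟨n, rfl⟩ := Submodule.mkQ_surjective _ m
    rw [← map_smul, Submodule.mkQ_apply, mk_eq_zero_iff]
    exact ⟨c • n, by rw [smul_smul, mul_comm]⟩
  have hbij : Function.Bijective j := by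
    refine bijective_of_regPair hfg (fun ξ hξ => ?_) j (fun m hm => ⟨0, ?_⟩) (fun ξ => ?_)
      (fun ξ => ?_)
    · have h1 : (Ideal.Quotient.mk (Ideal.span {x}) f) • ξ = 0 :=
        (algebraMap_smul (R ⧸ Ideal.span {x}) f ξ).trans hξ
      have h2 : (Ideal.Quotient.mk (Ideal.span {x}) f) ≠ 0 := fun h =>
        hfx (Ideal.Quotient.eq_zero_iff_mem.mp h)
      exact (smul_eq_zero_iff_right h2).mp h1
    · rw [hjinj (hm.trans (map_zero j).symm), smul_zero]
    · obtain ⟨n, hn⟩ := exists_smul_eq_ι π (hk (Ideal.pow_mem_pow hf k)) ξ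
      exact ⟨k, Submodule.Quotient.mk n, hn⟩
    · obtain ⟨n, hn⟩ := exists_smul_eq_ι π (hk (Ideal.pow_mem_pow hg k)) ξ
      exact ⟨k, Submodule.Quotient.mk n, hn⟩
  let ε : QuotSMulTop x N ≃ₗ[R ⧸ Ideal.span {x}] DD x N :=
    LinearEquiv.ofBijective (Module.Dual.eval (R ⧸ Ideal.span {x}) (QuotSMulTop x N)) hbij
  have hfree' : Module.Free (R ⧸ Ideal.span {x}) (QuotSMulTop x N) := Module.Free.of_equiv ε.symm
  have hfp := Module.finitePresentation_of_finite R N
  rw [← Module.free_quotSMulTop_iff_free R N (x := x)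
    (by rw [IsLocalRing.jacobson_eq_maximalIdeal ⊥ bot_ne_top]; exact hx) hxreg]
  exact hfree'

end K550.Aus4
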