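import Groth.Agent.NonAbH1.K550.Sh

/-!
# The boundary of the non-abelian cohomology sequence

For an injective homomorphism `u : F ⟶ G` of sheaves of groups on a site and the quotient sheaf `π : G ⟶ Q`, the
sheaf of liftings of a global section of `Q` is an `F`-torsor, and exactness of the resulting sequence.
-/

set_option autoImplicit false

universe w v u

open CategoryTheory Opposite NonAbH1

namespace K550.Bound

open K550.Sh

variable {C : Type u} [Category.{v} C] {J : GrothendieckTopology C} [J.HasSheafCompose (forget GrpCat.{w})]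
variable {F G : Sheaf J GrpCat.{w}} {u : F ⟶ G} {Q : GSheaf G} {π : GSheaf.trivial G ⟶ Q}

/-- the map to the quotient on group elements -/
abbrev pr (π : GSheaf.trivial G ⟶ Q) {U : Cᵒᵖ} (g : G.obj.obj U) : Q.P.obj.obj U := π.hom.hom.app U (GSheaf.ofGrp g)

lemma pr_mul {U : Cᵒᵖ} (g h : G.obj.obj U) : pr π (g * h) = Q.smul g (pr π h) := π.map_smul g (GSheaf.ofGrp h)

lemma map_pr {U V : Cᵒᵖ} (f : U ⟶ V) (g : G.obj.obj U) : Q.P.obj.map f (pr π g) = pr π (G.obj.map f g) :=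
  (NatTrans.naturality_apply π.hom.hom f (GSheaf.ofGrp g)).symm

omit [J.HasSheafCompose (forget GrpCat.{w})] in
lemma map_u {U V : Cᵒᵖ} (f : U ⟶ V) (g : F.obj.obj U) :
    G.obj.map f (u.hom.app U g) = u.hom.app V (F.obj.map f g) :=
  (NatTrans.naturality_apply u.hom f g).symm

/-- restriction of the sections of the sheaf of sets underlying `G` -/
lemma sec_ext_grp {U : C} {S : Sieve U} (hS : S ∈ J U) {g g' : G.obj.obj (op U)}
    (h : ∀ ⦃V : C⦄ (f : V ⟶ U), S f → G.obj.map f.op g = G.obj.map f.op g') : g = g' :=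
  sec_ext (GSheaf.uSh G) hS h

section Fib

variable (u π) in
/-- the sheaf of liftings of `c` -/
def fib (hQ : GSheaf.IsQuotientBy u π) (c : Q.P.obj.sections) : GSheaf F where
  P := subSh (GSheaf.uSh G) (fun V g => pr π (GSheaf.toGrp g) = c.1 V)
    (fun V W f g hg => by
      have h1 := map_pr (π := π) f (GSheaf.toGrp g)
      rw [hg, c.2 f] at h1
      exact h1.symm)
    (fun U g S hS h => by
      refine sec_ext Q.P hS fun V f hf => ?_
      rw [map_pr]
      exact (h f hf).trans (c.2 f.op).symm)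
  smul {U} f g := ⟨GSheaf.ofGrp (GSheaf.toGrp g.1 * (u.hom.app U f)⁻¹), by
    have h1 : pr π (GSheaf.toGrp g.1 * (u.hom.app U f)⁻¹) = pr π (GSheaf.toGrp g.1) :=
      ((hQ.1 U (GSheaf.toGrp g.1) _).2 ⟨f⁻¹, by rw [map_inv]⟩).symm
    exact h1.trans g.2⟩
  one_smul {U} p := Subtype.ext (by
    change GSheaf.toGrp p.1 * (u.hom.app U 1)⁻¹ = GSheaf.toGrp p.1
    rw [map_one, inv_one, mul_one])
  mul_smul {U} g h p := Subtype.ext (by
    change GSheaf.toGrp p.1 * (u.hom.app U (g * h))⁻¹ = GSheaf.toGrp p.1 * (u.hom.app U h)⁻¹ * (u.hom.app U g)⁻¹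
    rw [map_mul, mul_inv_rev, mul_assoc])
  map_smul {U V} f g p := Subtype.ext (by
    change G.obj.map f (GSheaf.toGrp p.1 * (u.hom.app U g)⁻¹) =
      G.obj.map f (GSheaf.toGrp p.1) * (u.hom.app V (F.obj.map f g))⁻¹
    rw [map_mul, map_inv, map_u])

lemma isFibreOver_fib (hQ : GSheaf.IsQuotientBy u π) (c : Q.P.obj.sections) :
    GSheaf.IsFibreOver u π c (fib u π hQ c) := by
  refine ⟨⟨{ app := fun U => TypeCat.ofHom (fun g => g.1), naturality := fun U V f => rfl }⟩, ?_, ?_, ?_⟩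
  · intro U g g' h
    exact Subtype.ext h
  · intro U g
    constructor
    · rintro ⟨t, rfl⟩
      exact t.2
    · intro h
      exact ⟨⟨GSheaf.ofGrp g, h⟩, rfl⟩
  · intro U f t
    rfl

end Fib

variable {c : Q.P.obj.sections} {T : GSheaf F}

/-- Any sheaf of liftings is a torsor. -/
lemma isTorsor_of_isFibreOver (hu : ∀ U : Cᵒᵖ, Function.Injective (u.hom.app U)) (hQ : GSheaf.IsQuotientBy u π)
    (hT : GSheaf.IsFibreOver u π c T) : T.IsTorsor := by
  obtain ⟨ι, h1, h2, h3⟩ := hT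
  have hc : ∀ (U : Cᵒᵖ) (t : T.P.obj.obj U), pr π (GSheaf.toGrp (ι.hom.app U t)) = c.1 U :=
    fun U t => (h2 U _).1 ⟨t, rfl⟩
  constructor
  · intro U p q
    obtain ⟨f, hf⟩ := (hQ.1 U (GSheaf.toGrp (ι.hom.app U p)) (GSheaf.toGrp (ι.hom.app U q))).1
      ((hc U p).trans (hc U q).symm)
    refine ⟨f⁻¹, ?_, ?_⟩
    · apply h1 U
      have := h3 U f⁻¹ p
      rw [map_inv, inv_inv, ← hf] at this
      exact this
    · intro g hg
      have h4 := h3 U g p
      rw [hg] at h4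
      change GSheaf.toGrp (ι.hom.app U q) = _ at h4
      rw [hf] at h4
      have h5 := mul_left_cancel h4
      apply hu U
      rw [map_inv, h5, inv_inv]
  · intro U
    obtain ⟨S, hS, h⟩ := hQ.2 U (c.1 (op U))
    refine ⟨S, hS, fun V a ha => ?_⟩
    obtain ⟨g, hg⟩ := h a ha
    obtain ⟨t, ht⟩ := (h2 (op V) g).2 (hg.trans (c.2 a.op))
    exact ⟨t⟩

/-- A global section `g` of `G` with `g • c = c'` carries the liftings of `c` to those of `c'`. -/
lemma iso_of_translate (hu : ∀ U : Cᵒᵖ, Function.Injective (u.hom.app U)) (hQ : GSheaf.IsQuotientBy u π)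
    {c' : Q.P.obj.sections} {T' : GSheaf F} (hT : GSheaf.IsFibreOver u π c T) (hT' : GSheaf.IsFibreOver u π c' T')
    (g : (GSheaf.uSh G).obj.sections) (hg : ∀ U : Cᵒᵖ, Q.smul (GSheaf.toGrp (g.1 U)) (c.1 U) = c'.1 U) :
    Nonempty (T ≅ T') := by
  have t1 := isTorsor_of_isFibreOver hu hQ hT
  have t2 := isTorsor_of_isFibreOver hu hQ hT'
  obtain ⟨ι, h1, h2, h3⟩ := hT
  obtain ⟨ι', h1', h2', h3'⟩ := hT'
  have hc : ∀ (U : Cᵒᵖ) (t : T.P.obj.obj U), pr π (GSheaf.toGrp (ι.hom.app U t)) = c.1 U :=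
    fun U t => (h2 U _).1 ⟨t, rfl⟩
  have key : ∀ (U : Cᵒᵖ) (t : T.P.obj.obj U), ∃ t' : T'.P.obj.obj U,
      GSheaf.toGrp (ι'.hom.app U t') = GSheaf.toGrp (g.1 U) * GSheaf.toGrp (ι.hom.app U t) := by
    intro U t
    rw [h2' U, ← hg U, ← hc U t]
    exact pr_mul _ _
  choose φ hφ using key
  have hn : ∀ (U V : Cᵒᵖ) (f : U ⟶ V) (t : T.P.obj.obj U), φ V (T.P.obj.map f t) = T'.P.obj.map f (φ U t) := by
    intro U V f t
    apply h1' V
    have e1 : ι'.hom.app V (T'.P.obj.map f (φ U t)) = G.obj.map f (GSheaf.toGrp (ι'.hom.app U (φ U t))) :=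
      NatTrans.naturality_apply ι'.hom f (φ U t)
    have e2 : GSheaf.toGrp (ι.hom.app V (T.P.obj.map f t)) = G.obj.map f (GSheaf.toGrp (ι.hom.app U t)) :=
      NatTrans.naturality_apply ι.hom f t
    have e3 : GSheaf.toGrp (g.1 V) = G.obj.map f (GSheaf.toGrp (g.1 U)) := (g.2 f).symm
    rw [e1, hφ U t, map_mul, ← e2, ← e3]
    exact hφ V _
  refine iso_of_isTorsor t1 t2.1 ⟨⟨{ app := fun U => TypeCat.ofHom (φ U), naturality := fun U V f => ?_ }⟩, ?_⟩
  · ext t
    exact hn U V f t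
  · intro U a t
    apply h1' U
    change GSheaf.toGrp (ι'.hom.app U (φ U (T.smul a t))) = GSheaf.toGrp (ι'.hom.app U (T'.smul a (φ U t)))
    rw [hφ, h3, h3', hφ, mul_assoc]

/-- Two sheaves of liftings of the same section are isomorphic. -/
lemma iso_of_isFibreOver (hu : ∀ U : Cᵒᵖ, Function.Injective (u.hom.app U)) (hQ : GSheaf.IsQuotientBy u π)
    {T' : GSheaf F} (hT : GSheaf.IsFibreOver u π c T) (hT' : GSheaf.IsFibreOver u π c T') :
    Nonempty (T ≅ T') :=
  iso_of_translate hu hQ hT hT' ⟨fun U => GSheaf.ofGrp (1 : G.obj.obj U), fun {U V} a => by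
    change G.obj.map a (1 : G.obj.obj U) = 1
    exact map_one _⟩ fun U => Q.one_smul _

omit [J.HasSheafCompose (forget GrpCat.{w})] in
/-- the section cut out by a compatible family defined on a torsor: if `T` is locally nonempty and `ψ t ∈ P(U)`,
for `t ∈ T(U)`, does not depend on `t` and commutes with restriction, there is a unique global section of `P` with
values `ψ t`. -/
lemma exists_section_of_locallyNonempty {T : GSheaf F} (hT : T.LocallyNonempty) (P : Sheaf J (Type w))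
    (ψ : ∀ U : Cᵒᵖ, T.P.obj.obj U → P.obj.obj U) (hψ : ∀ (U : Cᵒᵖ) (t t' : T.P.obj.obj U), ψ U t = ψ U t')
    (hn : ∀ (U V : Cᵒᵖ) (f : U ⟶ V) (t : T.P.obj.obj U), ψ V (T.P.obj.map f t) = P.obj.map f (ψ U t)) :
    ∃ c : P.obj.sections, ∀ (U : Cᵒᵖ) (t : T.P.obj.obj U), c.1 U = ψ U t := by
  have key : ∀ U : Cᵒᵖ, ∃ s : P.obj.obj U, ∀ (V : Cᵒᵖ) (f : U ⟶ V) (t : T.P.obj.obj V), P.obj.map f s = ψ V t := by
    intro U
    obtain ⟨S, hS, h⟩ := hT U.unop
    obtain ⟨s, hs⟩ := exists_of_locally P hS (fun V f s => ∀ (W : C) (g : W ⟶ V) (t : T.P.obj.obj (op W)),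
      P.obj.map g.op s = ψ (op W) t) (fun V W f g s hs W' g' t => by
        rw [map_comp_sec]; exact hs _ _ _) (fun V f s s' hs hs' => by
        obtain ⟨S', hS', h'⟩ := hT V
        refine sec_ext P hS' fun W g hg => ?_
        obtain ⟨t⟩ := h' g hg
        rw [hs W g t, hs' W g t]) (fun V f hf => by
        obtain ⟨t⟩ := h f hf
        refine ⟨ψ (op V) t, fun W g t' => ?_⟩
        rw [← hn]
        exact hψ _ _ _)
    refine ⟨s, fun V f t => ?_⟩
    refine sec_ext P (J.pullback_stable f.unop hS) fun W g hg => ?_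
    have h1 := hs (g ≫ f.unop) hg W (𝟙 W) (T.P.obj.map g.op t)
    change P.obj.map g.op (P.obj.map f.unop.op s) = P.obj.map g.op (ψ V t)
    rw [← hn (V) (op W) g.op t, ← h1, map_comp_sec, map_comp_sec, Category.id_comp]
  choose s hs using key
  refine ⟨⟨s, fun {U V} f => ?_⟩, fun U t => ?_⟩
  · obtain ⟨S, hS, h⟩ := hT V.unop
    refine sec_ext P hS fun W g hg => ?_
    obtain ⟨t⟩ := h g hg
    have h1 := hs V (op W) g.op t
    have h2 := hs U (op W) (f ≫ g.op) t
    rw [Functor.map_comp_apply] at h2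
    exact h2.trans h1.symm
  · have h1 := hs U U (𝟙 U) t
    rw [Functor.map_id_apply] at h1
    exact h1

/-- Exactness at `H¹(F)`: the class of `T` becomes trivial in `H¹(G)` iff it is a boundary. -/
theorem isPushforwardAlong_trivial_iff (hu : ∀ U : Cᵒᵖ, Function.Injective (u.hom.app U))
    (hQ : GSheaf.IsQuotientBy u π) (hT : T.IsTorsor) :
    GSheaf.IsPushforwardAlong u T (GSheaf.trivial G) ↔ ∃ c : Q.P.obj.sections, GSheaf.IsFibreOver u π c T := by
  constructor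
  · rintro ⟨f, hf⟩
    have hfg : ∀ (U : Cᵒᵖ) (a : F.obj.obj U) (t : T.P.obj.obj U),
        GSheaf.toGrp (f.hom.app U (T.smul a t)) = u.hom.app U a * GSheaf.toGrp (f.hom.app U t) := hf
    have hfn : ∀ (U V : Cᵒᵖ) (a : U ⟶ V) (t : T.P.obj.obj U),
        GSheaf.toGrp (f.hom.app V (T.P.obj.map a t)) = G.obj.map a (GSheaf.toGrp (f.hom.app U t)) :=
      fun U V a t => NatTrans.naturality_apply f.hom a t
    have hinj : ∀ U : Cᵒᵖ, Function.Injective (f.hom.app U) := by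
      intro U t t' h
      obtain ⟨a, ha, -⟩ := hT.1 U t t'
      have h1 := hfg U a t
      rw [ha] at h1
      have h2 : GSheaf.toGrp (f.hom.app U t) = GSheaf.toGrp (f.hom.app U t') := h
      rw [← h2] at h1
      have h3 : u.hom.app U a = 1 := by simpa using h1.symm
      have h4 : a = 1 := hu U (h3.trans (map_one _).symm)
      rw [← ha, h4, T.one_smul]
    obtain ⟨c, hc⟩ := exists_section_of_locallyNonempty hT.2 Q.P
      (fun U t => pr π (GSheaf.toGrp (f.hom.app U t))⁻¹) (fun U t t' => by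
        obtain ⟨a, ha, -⟩ := hT.1 U t t'
        refine (hQ.1 U _ _).2 ⟨a⁻¹, ?_⟩
        rw [← ha, hfg, mul_inv_rev, map_inv]) (fun U V a t => by
        rw [map_pr, hfn, map_inv])
    refine ⟨c, ⟨{ app := fun U => TypeCat.ofHom (fun t => GSheaf.ofGrp (GSheaf.toGrp (f.hom.app U t))⁻¹),
                  naturality := fun U V a => ?_ }⟩, ?_, ?_, ?_⟩
    · ext t
      change (GSheaf.toGrp (f.hom.app V (T.P.obj.map a t)))⁻¹ = G.obj.map a (GSheaf.toGrp (f.hom.app U t))⁻¹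
      rw [hfn, map_inv]
    · intro U t t' h
      have h' : (GSheaf.toGrp (f.hom.app U t))⁻¹ = (GSheaf.toGrp (f.hom.app U t'))⁻¹ := h
      have h2 := inv_inj.1 h'
      exact hinj U h2
    · intro U g
      constructor
      · rintro ⟨t, rfl⟩
        exact (hc U t).symm
      · intro hg
        obtain ⟨S, hS, h⟩ := hT.2 U.unop
        obtain ⟨t, ht⟩ := exists_of_locally T.P hS
          (fun V a t => (GSheaf.toGrp (f.hom.app (op V) t))⁻¹ = G.obj.map a.op g)
          (fun V W a b t ht => by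
            have e1 : G.obj.map (b ≫ a).op g = G.obj.map b.op (G.obj.map a.op g) := by
              rw [op_comp, Functor.map_comp_apply]
            rw [hfn, ← map_inv, ht, e1])
          (fun V a t t' ht ht' => by
            have h2 := inv_inj.1 (ht.trans ht'.symm)
            exact hinj (op V) h2)
          (fun V a ha => by
            obtain ⟨t⟩ := h a ha
            have h1 : pr π (GSheaf.toGrp (f.hom.app (op V) t))⁻¹ = pr π (G.obj.map a.op g) := by
              rw [← map_pr]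
              refine (hc (op V) t).symm.trans ?_
              refine (c.2 a.op).symm.trans ?_
              rw [← hg]
            obtain ⟨b, hb⟩ := (hQ.1 (op V) _ _).1 h1
            refine ⟨T.smul b⁻¹ t, ?_⟩
            rw [hfg, mul_inv_rev, map_inv, inv_inv, hb])
        refine ⟨t, ?_⟩
        refine sec_ext_grp hS fun V a ha => ?_
        rw [← ht a ha, hfn, ← map_inv]
        rfl
    · intro U a t
      change (GSheaf.toGrp (f.hom.app U (T.smul a t)))⁻¹ =
        (GSheaf.toGrp (f.hom.app U t))⁻¹ * (u.hom.app U a)⁻¹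
      rw [hfg, mul_inv_rev]
  · rintro ⟨c, ι, h1, h2, h3⟩
    have hn : ∀ (U V : Cᵒᵖ) (a : U ⟶ V) (t : T.P.obj.obj U),
        GSheaf.toGrp (ι.hom.app V (T.P.obj.map a t)) = G.obj.map a (GSheaf.toGrp (ι.hom.app U t)) :=
      fun U V a t => NatTrans.naturality_apply ι.hom a t
    refine ⟨⟨{ app := fun U => TypeCat.ofHom (fun t => GSheaf.ofGrp (GSheaf.toGrp (ι.hom.app U t))⁻¹),
                  naturality := fun U V a => ?_ }⟩, ?_⟩
    · ext t
      change (GSheaf.toGrp (ι.hom.app V (T.P.obj.map a t)))⁻¹ = G.obj.map a (GSheaf.toGrp (ι.hom.app U t))⁻¹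
      rw [hn, map_inv]
    · intro U a t
      change (GSheaf.toGrp (ι.hom.app U (T.smul a t)))⁻¹ = u.hom.app U a * (GSheaf.toGrp (ι.hom.app U t))⁻¹
      rw [h3, mul_inv_rev, inv_inv]

/-- The boundaries of `c` and `c'` agree iff `c' = g • c` for some global section `g` of `G`. -/
theorem iso_iff_translate (hu : ∀ U : Cᵒᵖ, Function.Injective (u.hom.app U)) (hQ : GSheaf.IsQuotientBy u π)
    {c' : Q.P.obj.sections} {T' : GSheaf F} (hT : GSheaf.IsFibreOver u π c T) (hT' : GSheaf.IsFibreOver u π c' T') :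
    Nonempty (T ≅ T') ↔ ∃ g : (GSheaf.uSh G).obj.sections,
      ∀ U : Cᵒᵖ, Q.smul (GSheaf.toGrp (g.1 U)) (c.1 U) = c'.1 U := by
  refine ⟨?_, fun ⟨g, hg⟩ => iso_of_translate hu hQ hT hT' g hg⟩
  rintro ⟨e⟩
  have t1 := isTorsor_of_isFibreOver hu hQ hT
  obtain ⟨ι, h1, h2, h3⟩ := hT
  obtain ⟨ι', h1', h2', h3'⟩ := hT'
  have hc : ∀ (U : Cᵒᵖ) (t : T.P.obj.obj U), pr π (GSheaf.toGrp (ι.hom.app U t)) = c.1 U :=
    fun U t => (h2 U _).1 ⟨t, rfl⟩
  have hc' : ∀ (U : Cᵒᵖ) (t : T'.P.obj.obj U), pr π (GSheaf.toGrp (ι'.hom.app U t)) = c'.1 U :=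
    fun U t => (h2' U _).1 ⟨t, rfl⟩
  have hιn : ∀ (U V : Cᵒᵖ) (a : U ⟶ V) (t : T.P.obj.obj U),
      GSheaf.toGrp (ι.hom.app V (T.P.obj.map a t)) = G.obj.map a (GSheaf.toGrp (ι.hom.app U t)) :=
    fun U V a t => NatTrans.naturality_apply ι.hom a t
  have hιn' : ∀ (U V : Cᵒᵖ) (a : U ⟶ V) (t : T'.P.obj.obj U),
      GSheaf.toGrp (ι'.hom.app V (T'.P.obj.map a t)) = G.obj.map a (GSheaf.toGrp (ι'.hom.app U t)) :=
    fun U V a t => NatTrans.naturality_apply ι'.hom a t
  obtain ⟨g, hg⟩ := exists_section_of_locallyNonempty t1.2 (GSheaf.uSh G)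
    (fun U t => GSheaf.ofGrp (GSheaf.toGrp (ι'.hom.app U (e.hom.hom.hom.app U t)) *
      (GSheaf.toGrp (ι.hom.app U t))⁻¹)) (fun U t t' => by
      obtain ⟨a, ha, -⟩ := t1.1 U t t'
      change GSheaf.toGrp (ι'.hom.app U (e.hom.hom.hom.app U t)) * (GSheaf.toGrp (ι.hom.app U t))⁻¹ =
        GSheaf.toGrp (ι'.hom.app U (e.hom.hom.hom.app U t')) * (GSheaf.toGrp (ι.hom.app U t'))⁻¹
      rw [← ha, e.hom.map_smul, h3, h3', mul_inv_rev, inv_inv, mul_assoc, inv_mul_cancel_left])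
    (fun U V a t => by
      have e1 : e.hom.hom.hom.app V (T.P.obj.map a t) = T'.P.obj.map a (e.hom.hom.hom.app U t) :=
        NatTrans.naturality_apply e.hom.hom.hom a t
      change GSheaf.toGrp (ι'.hom.app V (e.hom.hom.hom.app V (T.P.obj.map a t))) *
          (GSheaf.toGrp (ι.hom.app V (T.P.obj.map a t)))⁻¹ =
        G.obj.map a (GSheaf.toGrp (ι'.hom.app U (e.hom.hom.hom.app U t)) * (GSheaf.toGrp (ι.hom.app U t))⁻¹)
      rw [e1, hιn', hιn, map_mul, map_inv])
  refine ⟨g, fun U => ?_⟩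
  obtain ⟨S, hS, h⟩ := t1.2 U.unop
  refine sec_ext Q.P hS fun V a ha => ?_
  obtain ⟨t⟩ := h a ha
  have e2 : GSheaf.toGrp (g.1 (op V)) = G.obj.map a.op (GSheaf.toGrp (g.1 U)) := (g.2 a.op).symm
  have e3 : Q.P.obj.map a.op (Q.smul (GSheaf.toGrp (g.1 U)) (c.1 U)) =
      Q.smul (GSheaf.toGrp (g.1 (op V))) (c.1 (op V)) := by
    rw [e2, ← c.2 a.op]
    exact Q.map_smul _ _ _
  refine e3.trans ?_
  have e4 : GSheaf.toGrp (g.1 (op V)) = GSheaf.toGrp (ι'.hom.app (op V) (e.hom.hom.hom.app (op V) t)) *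
      (GSheaf.toGrp (ι.hom.app (op V) t))⁻¹ := hg (op V) t
  rw [e4, ← hc (op V) t, ← pr_mul, inv_mul_cancel_right, hc' (op V)]
  exact (c'.2 a.op).symm

/-- The boundary of `c` is trivial iff `c` lifts to `G`. -/
theorem cl_eq_one_iff_lifts {T : Torsor F} (hT : GSheaf.IsFibreOver u π c T.toGSheaf) :
    T.cl = 1 ↔ ∃ g : (GSheaf.uSh G).obj.sections, ∀ U : Cᵒᵖ, π.hom.hom.app U (g.1 U) = c.1 U := by
  rw [cl_eq_one_iff]
  obtain ⟨ι, h1, h2, h3⟩ := hT
  constructor
  · rintro ⟨s, hs⟩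
    refine ⟨⟨fun U => ι.hom.app U (s U), fun {U V} a => ?_⟩, fun U => (h2 U _).1 ⟨s U, rfl⟩⟩
    have h := NatTrans.naturality_apply ι.hom a (s U)
    rw [hs a] at h
    exact h.symm
  · rintro ⟨g, hg⟩
    have key : ∀ U : Cᵒᵖ, ∃ t : T.P.obj.obj U, ι.hom.app U t = g.1 U := fun U => (h2 U (g.1 U)).2 (hg U)
    choose s hs using key
    refine ⟨s, fun {U V} a => h1 V ?_⟩
    rw [hs V, ← g.2 a, ← hs U]
    exact NatTrans.naturality_apply ι.hom a (s U)

end K550.Bound
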