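import Groth.Prelude.Def_EtBase

/-!
# Covering sieves of the small étale site, pointwise
-/

set_option autoImplicit false

universe u

open CategoryTheory CategoryTheory.Limits AlgebraicGeometry Opposite

namespace K550.EtCov

set_option backward.isDefEq.respectTransparency.types false in
/-- A sieve on an étale `X`-scheme is covering iff its members are jointly surjective. -/
lemma mem_iff {X : Scheme.{u}} {U : X.Etale} {S : Sieve U} :
    S ∈ X.smallEtaleTopology U ↔
      ∀ x : U.left, ∃ (V : X.Etale) (g : V ⟶ U) (v : V.left), S g ∧ g.left.base v = x := by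
  have e : X.smallEtaleTopology = (X.smallPretopology (P := EtCoh.etaleMP) (Q := EtCoh.etaleMP)).toGrothendieck :=
    Scheme.smallGrothendieckTopology_eq_toGrothendieck_smallPretopology X le_rfl
  rw [e]
  refine (Scheme.mem_toGrothendieck_smallPretopology U S).trans ?_
  refine forall_congr' fun x => ?_
  constructor
  · rintro ⟨V, g, v, h1, -, h3⟩
    exact ⟨V, g, v, h1, h3⟩
  · rintro ⟨V, g, v, h1, h3⟩
    exact ⟨V, g, v, h1, inferInstance, h3⟩

set_option backward.isDefEq.respectTransparency.types false in
/-- If `S` is a sieve on `U` containing every arrow from an object which maps to one of the members of a jointly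
surjective family of étale `X`-schemes, it is covering. -/
lemma mem_of_covers {X : Scheme.{u}} {ι : Type u} {V : ι → X.Etale} (hV : EtCoh.Covers V) {U : X.Etale}
    {S : Sieve U} (hS : ∀ (W : X.Etale) (g : W ⟶ U) (i : ι) (_ : W ⟶ V i), S g) :
    S ∈ X.smallEtaleTopology U := by
  rw [mem_iff]
  intro x
  obtain ⟨i, y, hy⟩ := hV (U.hom.base x)
  obtain ⟨z, hz1, -⟩ := Scheme.Pullback.exists_preimage_pullback (f := U.hom) (g := (V i).hom) x y hy.symm
  let W : X.Etale := Scheme.Etale.mk (pullback.fst U.hom (V i).hom ≫ U.hom)
  let g : W ⟶ U := MorphismProperty.Over.homMk (pullback.fst U.hom (V i).hom) rfl trivial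
  let g' : W ⟶ V i := MorphismProperty.Over.homMk (pullback.snd U.hom (V i).hom) pullback.condition.symm trivial
  exact ⟨W, g, z, hS W g i g', hz1⟩

end K550.EtCov
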