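import Groth.Agent.NonAbH1.K550.OIFF
import Groth.Agent.Desc.AffineHull2
import Mathlib.CategoryTheory.Monoidal.Cartesian.Over

/-!
# Schemes `T` over `X` with `O_T = j_* O` and the affine hull of a scheme affine over an open
-/

set_option autoImplicit false
universe u

open CategoryTheory CategoryTheory.Limits AlgebraicGeometry MonoidalCategory
  CartesianMonoidalCategory

namespace K550.OIFF2

open Groth.Agent.Desc.AffineHull K550.OIFF

variable {X V : Scheme.{u}} (j : V ⟶ X)

theorem isPullback_map_left {T T' : Over X} (s : T ⟶ T') :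
    IsPullback (pullback.fst T.hom j) ((Over.pullback j).map s).left s.left
      (pullback.fst T'.hom j) := by
  have hr : IsPullback (pullback.snd T'.hom j) (pullback.fst T'.hom j) j T'.hom :=
    (IsPullback.of_hasPullback T'.hom j).flip
  have ho : IsPullback (((Over.pullback j).map s).left ≫ pullback.snd T'.hom j)
      (pullback.fst T.hom j) j (s.left ≫ T'.hom) := by
    rw [map_left_snd, Over.w]
    exact (IsPullback.of_hasPullback T.hom j).flip
  exact (IsPullback.of_right ho (map_left_fst j s) hr).flip

variable [QuasiCompact j] [QuasiSeparated j]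

theorem oIso_of_flat {T T' : Over X} (s : T ⟶ T') [Flat s.left] [OIso (pullback.fst T'.hom j)] :
    OIso (pullback.fst T.hom j) :=
  OIso.of_isPullback (isPullback_map_left j s).flip

omit [QuasiCompact j] [QuasiSeparated j] in
theorem map_injective' {T Q : Over X} [OIso (pullback.fst T.hom j)] [IsSeparated Q.hom]
    {f g : T ⟶ Q} (h : (Over.pullback j).map f = (Over.pullback j).map g) : f = g := by
  have := OIso.isSchemeTheoreticallyDominant (pullback.fst T.hom j)
  ext1
  refine ext_of_dominant Q.hom (by rw [Over.w, Over.w]) (pullback.fst T.hom j) ?_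
  rw [← map_left_fst, h, map_left_fst]

theorem map_surjective' {T Q : Over X} [OIso (pullback.fst T.hom j)] [IsAffineHom Q.hom]
    (h : (Over.pullback j).obj T ⟶ (Over.pullback j).obj Q) :
    ∃ f : T ⟶ Q, (Over.pullback j).map f = h := by
  obtain ⟨u, hu, hu'⟩ := exists_lift (pullback.fst T.hom j) Q.hom
    (h.left ≫ pullback.fst Q.hom j) T.hom (by
      have h1 : h.left ≫ pullback.snd Q.hom j = pullback.snd T.hom j := Over.w h
      rw [Category.assoc, pullback.condition, ← Category.assoc, h1, pullback.condition])
  refine ⟨Over.homMk u hu', ?_⟩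
  ext1
  apply pullback.hom_ext
  · exact (map_left_fst j _).trans hu
  · have h1 : h.left ≫ pullback.snd Q.hom j = pullback.snd T.hom j := Over.w h
    exact (map_left_snd j _).trans h1.symm

/-- an affine morphism with `O = f_* O` is an isomorphism -/
theorem isIso_of_oIso_aff {Y Z : Scheme.{u}} (f : Y ⟶ Z) [IsAffine Y] [IsAffine Z] [OIso f] :
    IsIso f := by
  have h : IsIso f.appTop := OIso.isIso_app ⊤
  have key : f = Y.isoSpec.hom ≫ Spec.map f.appTop ≫ Z.isoSpec.inv := by
    rw [← Category.assoc, Scheme.isoSpec_hom_naturality, Category.assoc, Iso.hom_inv_id,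
      Category.comp_id]
  rw [key]
  infer_instance

set_option backward.isDefEq.respectTransparency.types false in
theorem isIso_of_oIso {Y Z : Scheme.{u}} (f : Y ⟶ Z) [IsAffineHom f] [OIso f] : IsIso f := by
  rw [← MorphismProperty.isomorphisms.iff]
  refine IsZariskiLocalAtTarget.of_openCover (P := .isomorphisms Scheme) Z.affineCover fun i => ?_
  rw [MorphismProperty.isomorphisms.iff]
  have h1 : OIso (pullback.snd f (Z.affineCover.f i)) := .of_isPullback (IsPullback.of_hasPullback _ _)
  have h2 : IsAffineHom (pullback.snd f (Z.affineCover.f i)) :=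
    MorphismProperty.pullback_snd _ _ inferInstance
  have h3 : IsAffine (pullback f (Z.affineCover.f i)) :=
    isAffine_of_isAffineHom (pullback.snd f (Z.affineCover.f i))
  exact isIso_of_oIso_aff (pullback.snd f (Z.affineCover.f i))

section hull

variable {X : Scheme.{u}} (U : X.Opens) [QuasiCompact U.ι] (P : Over (U : Scheme.{u}))
  [IsAffineHom P.hom]

/-- the structure morphism over `X` -/
noncomputable abbrev strX : P.left ⟶ X := P.hom ≫ U.ι

/-- the affine hull over `X` -/
noncomputable def hullX : Over X := Over.mk (fromHull (strX U P))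

instance : IsAffineHom (hullX U P).hom := inferInstanceAs (IsAffineHom (fromHull (strX U P)))

/-- the map into the hull -/
noncomputable def toQ : P.left ⟶ (hullX U P).left := toHull (strX U P)

lemma toQ_hom : toQ U P ≫ (hullX U P).hom = strX U P := toHull_fromHull _

instance : OIso (toQ U P) := inferInstanceAs (OIso (toHull (strX U P)))
instance : QuasiCompact (toQ U P) := inferInstanceAs (QuasiCompact (toHull (strX U P)))
instance : QuasiSeparated (toQ U P) := inferInstanceAs (QuasiSeparated (toHull (strX U P)))

/-- the comparison map -/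
noncomputable def toX : P.left ⟶ pullback (hullX U P).hom U.ι :=
  pullback.lift (toQ U P) P.hom (toQ_hom U P)

lemma toX_fst : toX U P ≫ pullback.fst (hullX U P).hom U.ι = toQ U P :=
  pullback.lift_fst _ _ _

lemma toX_snd : toX U P ≫ pullback.snd (hullX U P).hom U.ι = P.hom :=
  pullback.lift_snd _ _ _

theorem isIso_toX : IsIso (toX U P) := by
  have h1 : IsPullback (𝟙 P.left) P.hom (strX U P) U.ι := by
    refine ⟨⟨by simp⟩, ⟨PullbackCone.IsLimit.mk _ (fun s => s.fst) (fun s => by simp)
      (fun s => ?_) (fun s m h1 _ => by simpa using h1)⟩⟩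
    rw [← cancel_mono U.ι, Category.assoc]
    exact s.condition
  have h2 : IsPullback (𝟙 P.left) (toX U P) (toQ U P)
      (pullback.fst (hullX U P).hom U.ι) := by
    refine IsPullback.of_bot (v₂₁ := pullback.snd (hullX U P).hom U.ι) (v₂₂ := (hullX U P).hom)
      (h₃₁ := U.ι) ?_ ?_ (IsPullback.of_hasPullback _ _)
    · rw [toX_snd, toQ_hom]
      exact h1
    · rw [toX_fst, Category.id_comp]
  have hopen : IsOpenImmersion (pullback.fst (hullX U P).hom U.ι) := inferInstance
  have hflat : Flat (pullback.fst (hullX U P).hom U.ι) := inferInstance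
  have h3 : OIso (toX U P) := OIso.of_isPullback h2
  have h4 : IsAffineHom (toX U P) := by
    have : IsAffineHom (toX U P ≫ pullback.snd (hullX U P).hom U.ι) := by
      rw [toX_snd]; infer_instance
    exact IsAffineHom.of_comp _ (pullback.snd (hullX U P).hom U.ι)
  exact isIso_of_oIso _

end hull

end K550.OIFF2
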