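import Groth.Agent.Desc.AffineHull
import Groth.Agent.Sga3C.FlatPt
import Groth.Agent.NonAbH1.K550.RegPairs
import Groth.Agent.Pi1A.DepthTwo
import Mathlib.Algebra.Category.Ring.Constructions
import Mathlib.RingTheory.LocalProperties.Exactness

/-!
# `O_X → j_* O_U` is an isomorphism across points with regular local ring of dimension at least two
-/

set_option autoImplicit false
universe u

open CategoryTheory CategoryTheory.Limits AlgebraicGeometry TopologicalSpace Opposite

namespace K550.OIReg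

open Groth.Agent.Desc.AffineHull Groth.Agent.Divis.DepthTwo

section algebra

/-- bijectivity of a ring map can be checked on pushouts along localizations at maximal ideals -/
theorem bijective_of_pushouts {A B : Type u} [CommRing A] [CommRing B] [Algebra A B]
    (H : ∀ (P : Ideal A) [P.IsMaximal], ∃ (A' B' : Type u) (_ : CommRing A') (_ : CommRing B')
      (_ : Algebra A A') (_ : Algebra A' B') (_ : Algebra A B') (_ : Algebra B B')
      (_ : IsScalarTower A A' B') (_ : IsScalarTower A B B'), IsLocalization.AtPrime A' P ∧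
        Algebra.IsPushout A A' B B' ∧ Function.Bijective (algebraMap A' B')) :
    Function.Bijective (algebraMap A B) := by
  change Function.Bijective (Algebra.linearMap A B)
  refine bijective_of_localized_maximal _ fun P _ => ?_
  obtain ⟨A', B', _, _, _, _, _, _, _, _, h1, h2, h3⟩ := H P
  have e1 : IsLocalizedModule P.primeCompl (Algebra.linearMap A A') := inferInstance
  have e2 : IsLocalizedModule P.primeCompl (IsScalarTower.toAlgHom A B B').toLinearMap :=
    (isLocalizedModule_iff_isBaseChange P.primeCompl A' _).mpr h2.out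
  rw [← IsLocalizedModule.map_bijective_iff_localizedModuleMap_bijective
    (S := P.primeCompl) (g₁ := Algebra.linearMap A A')
    (g₂ := (IsScalarTower.toAlgHom A B B').toLinearMap)]
  have e3 : IsLocalizedModule.map P.primeCompl (Algebra.linearMap A A')
      (IsScalarTower.toAlgHom A B B').toLinearMap (Algebra.linearMap A B) =
      (Algebra.linearMap A' B').restrictScalars A := by
    apply IsLocalizedModule.ext P.primeCompl (Algebra.linearMap A A')
      (IsLocalizedModule.map_units (IsScalarTower.toAlgHom A B B').toLinearMap)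
    rw [IsLocalizedModule.map_comp]
    ext
    simp
  rw [e3]
  exact h3

end algebra

section geom

/-- sections of `fromSpecStalk` over an affine neighbourhood -/
lemma fromSpecStalk_appLE {W : Scheme.{u}} {w : W} {U : W.Opens} (hw : w ∈ U)
    (h : (⊤ : (Spec (W.presheaf.stalk w)).Opens) ≤ W.fromSpecStalk w ⁻¹ᵁ U) :
    (W.fromSpecStalk w).appLE U ⊤ h = W.presheaf.germ U w hw ≫
      (Scheme.ΓSpecIso (W.presheaf.stalk w)).inv := by
  rw [Scheme.Hom.appLE, Scheme.fromSpecStalk_app hw, Category.assoc, Category.assoc,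
    ← Functor.map_comp]
  have : (homOfLE (le_top : W.fromSpecStalk w ⁻¹ᵁ U ≤ ⊤)).op ≫ (homOfLE h).op = 𝟙 _ :=
    Subsingleton.elim _ _
  erw [this, CategoryTheory.Functor.map_id, Category.comp_id]

theorem OIso.of_fromSpecStalk {V W : Scheme.{u}} (j : V ⟶ W) [QuasiCompact j] [QuasiSeparated j]
    (h : ∀ w : W, IsIso (pullback.snd j (W.fromSpecStalk w)).appTop) : OIso j := by
  refine .of_isBasis' j (fun U => IsAffineOpen U) W.isBasis_affineOpens fun U hU => ?_
  rw [ConcreteCategory.isIso_iff_bijective]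
  let _ : Algebra Γ(W, U) Γ(V, j ⁻¹ᵁ U) := (j.app U).hom.toAlgebra
  change Function.Bijective (algebraMap Γ(W, U) Γ(V, j ⁻¹ᵁ U))
  refine bijective_of_pushouts fun P _ => ?_
  let P' : PrimeSpectrum Γ(W, U) := ⟨P, inferInstance⟩
  let w : W := hU.fromSpec P'
  have hwU : w ∈ U := by
    have : w ∈ hU.fromSpec.opensRange := ⟨P', rfl⟩
    rwa [hU.opensRange_fromSpec] at this
  have hwP : hU.primeIdealOf ⟨w, hwU⟩ = P' := by
    apply hU.fromSpec.isOpenEmbedding.injective
    rw [hU.fromSpec_primeIdealOf]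
  let b := W.fromSpecStalk w
  have hb : (⊤ : (Spec (W.presheaf.stalk w)).Opens) ≤ b ⁻¹ᵁ U := by
    intro x _
    have h1 : b x ∈ Set.range b := ⟨x, rfl⟩
    rw [Scheme.range_fromSpecStalk] at h1
    exact h1.mem_open U.isOpen hwU
  have : Flat b := Groth.Agent.Sga3C.FlatPt.flat_fromSpecStalk W w
  have H := IsPullback.of_hasPullback j b
  have h0 : (⊤ : (pullback j b).Opens) =
      pullback.fst j b ⁻¹ᵁ j ⁻¹ᵁ U ⊓ pullback.snd j b ⁻¹ᵁ (⊤ : (Spec (W.presheaf.stalk w)).Opens) := by
    rw [← Scheme.Hom.comp_preimage, H.w, Scheme.Hom.comp_preimage]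
    have : b ⁻¹ᵁ U = ⊤ := top_le_iff.mp hb
    rw [this]
    simp
  have h1 := isIso_pushoutSection_of_isQuasiSeparated_of_flat_right H hb (le_refl (j ⁻¹ᵁ U))
    h0 hU (isAffineOpen_top _) (j.isCompact_preimage hU.isCompact)
      (j.isQuasiSeparated_preimage hU.isQuasiSeparated)
  rw [isIso_pushoutSection_iff] at h1
  have h2 : IsPushout (j.app U) (W.presheaf.germ U w hwU) ((pullback.fst j b).appLE (j ⁻¹ᵁ U) ⊤
      (by rw [h0]; exact inf_le_left)) ((Scheme.ΓSpecIso (W.presheaf.stalk w)).inv ≫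
        (pullback.snd j b).appTop) := by
    refine IsPushout.of_iso h1 (Iso.refl _) (Iso.refl _) (Scheme.ΓSpecIso _) (Iso.refl _) ?_ ?_ ?_ ?_
    · simp [Scheme.Hom.app_eq_appLE]
    · rw [fromSpecStalk_appLE hwU]; simp
    · simp
    · simp [Scheme.Hom.appTop, Scheme.Hom.app_eq_appLE]
  have hloc := hU.isLocalization_stalk ⟨w, hwU⟩
  rw [hwP] at hloc
  let _ : Algebra Γ(W, U) (W.presheaf.stalk w) := (W.presheaf.germ U w hwU).hom.toAlgebra
  let _ : Algebra Γ(V, j ⁻¹ᵁ U) Γ(pullback j b, ⊤) := ((pullback.fst j b).appLE (j ⁻¹ᵁ U) ⊤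
      (by rw [h0]; exact inf_le_left)).hom.toAlgebra
  let _ : Algebra (W.presheaf.stalk w) Γ(pullback j b, ⊤) :=
    ((Scheme.ΓSpecIso (W.presheaf.stalk w)).inv ≫ (pullback.snd j b).appTop).hom.toAlgebra
  let _ : Algebra Γ(W, U) Γ(pullback j b, ⊤) := ((algebraMap Γ(V, j ⁻¹ᵁ U)
    Γ(pullback j b, ⊤)).comp (algebraMap Γ(W, U) Γ(V, j ⁻¹ᵁ U))).toAlgebra
  have st1 : IsScalarTower Γ(W, U) Γ(V, j ⁻¹ᵁ U) Γ(pullback j b, ⊤) := .of_algebraMap_eq fun _ => rfl
  have st2 : IsScalarTower Γ(W, U) (W.presheaf.stalk w) Γ(pullback j b, ⊤) :=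
    .of_algebraMap_eq fun x => congr($(h2.w) x)
  refine ⟨W.presheaf.stalk w, Γ(pullback j b, ⊤), inferInstance, inferInstance, inferInstance,
    inferInstance, inferInstance, inferInstance, st2, st1, hloc, ?_, ?_⟩
  · exact CommRingCat.isPushout_iff_isPushout.mp h2.flip
  · have := h w
    exact ConcreteCategory.bijective_of_isIso ((Scheme.ΓSpecIso (W.presheaf.stalk w)).inv ≫
      (pullback.snd j b).appTop)

theorem isIso_stalkMap_fromSpecStalk (X : Scheme.{u}) (x : X) (t : Spec (X.presheaf.stalk x)) :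
    IsIso ((X.fromSpecStalk x).stalkMap t) := by
  have : Flat (X.fromSpecStalk x) := Groth.Agent.Sga3C.FlatPt.flat_fromSpecStalk X x
  have hsurj : Function.Surjective ((X.fromSpecStalk x).stalkMap t) :=
    (X.fromSpecStalk x).stalkMap_surjective t
  have hfl : ((X.fromSpecStalk x).stalkMap t).hom.Flat := Flat.stalkMap (X.fromSpecStalk x) t
  have hinj : Function.Injective ((X.fromSpecStalk x).stalkMap t).hom := by
    let _ := ((X.fromSpecStalk x).stalkMap t).hom.toAlgebra
    have : Module.Flat _ _ := hfl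
    have : IsLocalHom (algebraMap (X.presheaf.stalk (X.fromSpecStalk x t))
      ((Spec (X.presheaf.stalk x)).presheaf.stalk t)) :=
      inferInstanceAs (IsLocalHom ((X.fromSpecStalk x).stalkMap t).hom)
    have : Module.FaithfullyFlat (X.presheaf.stalk (X.fromSpecStalk x t))
      ((Spec (X.presheaf.stalk x)).presheaf.stalk t) :=
      Module.FaithfullyFlat.of_flat_of_isLocalHom
    exact FaithfulSMul.algebraMap_injective _ _
  rw [ConcreteCategory.isIso_iff_bijective]
  exact ⟨hinj, hsurj⟩

/-- opens of the spectrum of a regular local ring which contain all points of codimension at most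
one contain the complement of the zero locus of a regular pair -/
theorem exists_regPair_open (R : CommRingCat.{u}) [IsRegularLocalRing R] (W : (Spec R).Opens)
    (h : ∀ p : Spec R, p ∉ W → IsRegularLocalRing ((Spec R).presheaf.stalk p) ∧
      (2 : WithBot ℕ∞) ≤ ringKrullDim ((Spec R).presheaf.stalk p)) :
    ∃ f g : R, RegPair f g R ∧ PrimeSpectrum.basicOpen f ≤ W ∧ PrimeSpectrum.basicOpen g ≤ W := by
  let Z : Set (PrimeSpectrum R) := {p | p ∉ W}
  have hZ : IsClosed Z := W.isOpen.isClosed_compl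
  let I : Ideal R := PrimeSpectrum.vanishingIdeal Z
  have hI : ∀ f ∈ I, PrimeSpectrum.basicOpen f ≤ W := by
    intro f hf p hp
    by_contra hpW
    exact hp ((PrimeSpectrum.mem_vanishingIdeal _ _).mp hf p hpW)
  obtain ⟨f, hf, g, hg, hfg⟩ := K550.RegPairs.exists_regPair_ideal I (by
    intro p hp hle
    let P : PrimeSpectrum R := ⟨p, hp⟩
    have hPZ : P ∈ Z := by
      have : P ∈ PrimeSpectrum.zeroLocus (I : Set R) := hle
      rwa [PrimeSpectrum.zeroLocus_vanishingIdeal_eq_closure, hZ.closure_eq] at this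
    obtain ⟨h1, h2⟩ := h P hPZ
    let e : (Spec R).presheaf.stalk P ≃+* Localization.AtPrime p :=
      have : IsLocalization p.primeCompl ((Spec.structureSheaf R).presheaf.stalk P) :=
        StructureSheaf.IsLocalization.to_stalk R P
      (IsLocalization.algEquiv p.primeCompl ((Spec.structureSheaf R).presheaf.stalk P)
        (Localization.AtPrime p)).toRingEquiv
    exact ⟨IsRegularLocalRing.of_ringEquiv e, h2.trans_eq (ringKrullDim_eq_of_ringEquiv e)⟩)
  exact ⟨f, g, hfg, hI f hf, hI g hg⟩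

theorem isIso_appTop_of_dim (R : CommRingCat.{u}) [IsRegularLocalRing R] {W : Scheme.{u}}
    (j : W ⟶ Spec R) [IsOpenImmersion j]
    (h : ∀ p : Spec R, p ∉ j.opensRange → IsRegularLocalRing ((Spec R).presheaf.stalk p) ∧
      (2 : WithBot ℕ∞) ≤ ringKrullDim ((Spec R).presheaf.stalk p)) : IsIso j.appTop := by
  obtain ⟨f, g, hfg, hf, hg⟩ := exists_regPair_open R j.opensRange h
  rw [ConcreteCategory.isIso_iff_bijective]
  have h0 := (Groth.Agent.Pi1A.DepthTwo.bijective_app_iff j ⊤).mpr ?_
  · exact h0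
  let φ := (Scheme.ΓSpecIso R).inv.hom
  have hφ : Function.Bijective φ := ConcreteCategory.bijective_of_isIso (Scheme.ΓSpecIso R).inv
  have hreg : Groth.Agent.Pi1A.DepthTwo.IsRegPair (φ f) (φ g) := by
    refine ⟨fun b hb => ?_, fun b c hbc => ?_⟩
    · obtain ⟨b, rfl⟩ := hφ.2 b
      rw [← map_mul, ← map_zero φ] at hb
      rw [hfg.inj b (hφ.1 hb), map_zero]
    · obtain ⟨b, rfl⟩ := hφ.2 b
      obtain ⟨c, rfl⟩ := hφ.2 c
      rw [← map_mul, ← map_mul] at hbc
      obtain ⟨d, hd⟩ := hfg.div b c (hφ.1 hbc)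
      exact ⟨φ d, by rw [← map_mul]; exact congrArg φ hd⟩
  refine Groth.Agent.Pi1A.DepthTwo.bijective_res_of_isRegPair (isAffineOpen_top (Spec R)) _ _ hreg
    _ ?_
  have hb (a : R) : (Spec R).basicOpen (φ a) = PrimeSpectrum.basicOpen a := basicOpen_eq_of_affine a
  rw [hb, hb]
  exact le_inf le_top (sup_le hf hg)

/-- `O_X → j_* O_U` is an isomorphism if the local rings at the points outside `U` are regular of
dimension at least two. -/
theorem oIso_ι {X : Scheme.{u}} (U : X.Opens) [QuasiCompact U.ι]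
    (hZ : ∀ z : X, z ∉ U → IsRegularLocalRing (X.presheaf.stalk z) ∧
      (2 : WithBot ℕ∞) ≤ ringKrullDim (X.presheaf.stalk z)) : OIso U.ι := by
  refine OIso.of_fromSpecStalk _ fun w => ?_
  have hopen : IsOpenImmersion (pullback.snd U.ι (X.fromSpecStalk w)) := inferInstance
  have hrange : (pullback.snd U.ι (X.fromSpecStalk w)).opensRange = X.fromSpecStalk w ⁻¹ᵁ U := by
    rw [Scheme.Hom.opensRange_pullbackSnd, Scheme.Opens.opensRange_ι]
  by_cases hw : w ∈ U
  · have hs : Function.Surjective (pullback.snd U.ι (X.fromSpecStalk w)) := by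
      intro x
      have h1 : X.fromSpecStalk w x ∈ Set.range (X.fromSpecStalk w) := ⟨x, rfl⟩
      rw [Scheme.range_fromSpecStalk] at h1
      have h2 : x ∈ (pullback.snd U.ι (X.fromSpecStalk w)).opensRange := by
        rw [hrange]; exact h1.mem_open U.isOpen hw
      exact h2
    have : Surjective (pullback.snd U.ι (X.fromSpecStalk w)) := ⟨hs⟩
    have : IsIso (pullback.snd U.ι (X.fromSpecStalk w)) :=
      isIso_of_isOpenImmersion_of_opensRange_eq_top _ (by
        rw [eq_top_iff]; intro x _; exact hs x)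
    exact OIso.isIso_app (j := pullback.snd U.ι (X.fromSpecStalk w)) ⊤
  · have := (hZ w hw).1
    refine isIso_appTop_of_dim (X.presheaf.stalk w) _ fun p hp => ?_
    have hpU : X.fromSpecStalk w p ∉ U := by
      rw [hrange] at hp; exact hp
    obtain ⟨h1, h2⟩ := hZ _ hpU
    have := isIso_stalkMap_fromSpecStalk X w p
    let e : X.presheaf.stalk (X.fromSpecStalk w p) ≃+* (Spec (X.presheaf.stalk w)).presheaf.stalk p :=
      (asIso ((X.fromSpecStalk w).stalkMap p)).commRingCatIsoToRingEquiv
    exact ⟨IsRegularLocalRing.of_ringEquiv e, h2.trans_eq (ringKrullDim_eq_of_ringEquiv e)⟩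

end geom

end K550.OIReg
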