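import Groth.Agent.NonAbH1.K550.FinFlat
import Groth.Agent.NonAbH1.K550.OIFF2
import Groth.Agent.NonAbH1.K550.ActUp
import Groth.Agent.NonAbH1.K550.OIReg
import Groth.Agent.NonAbH1.K551.Tors

/-!
# Torsors under finite locally free groups extend across regular points of codimension two
-/

set_option autoImplicit false
universe u
open scoped CategoryTheory.Obj
open AlgebraicGeometry CategoryTheory CategoryTheory.Limits MonoidalCategory
  CartesianMonoidalCategory

namespace K550.ExtTors

open Groth.Agent.Desc.AffineHull K550.OIFF2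

set_option backward.isDefEq.respectTransparency.types false in
theorem flat_tensor {X : Scheme.{u}} (G Q : Over X) [Flat G.hom] [Flat Q.hom] :
    Flat (G ⊗ Q).hom := by
  have h : Flat (pullback.fst G.hom Q.hom) := MorphismProperty.pullback_fst _ _ inferInstance
  exact MorphismProperty.comp_mem @Flat (pullback.fst G.hom Q.hom) G.hom h inferInstance

theorem surjective_of_oIso {Y X : Scheme.{u}} (f : Y ⟶ X) [IsFinite f] (U : X.Opens)
    [QuasiCompact U.ι] [OIso U.ι]
    (h : ∀ x ∈ U, x ∈ Set.range f) : Surjective f := by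
  have h1 := OIso.isSchemeTheoreticallyDominant U.ι
  have h2 : IsDominant U.ι := inferInstance
  have h3 : Dense (U : Set X) := by
    have := U.ι.denseRange
    rwa [DenseRange, Scheme.Opens.range_ι] at this
  have h4 : IsClosed (Set.range f) := f.isClosedMap.isClosed_range
  refine ⟨fun x => ?_⟩
  have h5 : closure (U : Set X) ⊆ Set.range f := h4.closure_subset_iff.mpr h
  exact h5 (h3 x)

set_option backward.isDefEq.respectTransparency.types false in
theorem exists_extension {X : Scheme.{u}} (G : Over X) [GrpObj G]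
    [IsFinite G.hom] [Flat G.hom] [LocallyOfFinitePresentation G.hom]
    (U : X.Opens) [QuasiCompact U.ι]
    (hZ : ∀ z : X, z ∉ U → IsRegularLocalRing (X.presheaf.stalk z) ∧
      (2 : WithBot ℕ∞) ≤ ringKrullDim (X.presheaf.stalk z))
    (P : Over (U : Scheme.{u})) (b : AlgGrp.Action ((Over.pullback U.ι).obj G) P)
    (hb : NonAbH1.IsTorsorFor Scheme.fppfPrecoverage b) :
    ∃ (Q : Over X) (a : AlgGrp.Action G Q) (φ : (Over.pullback U.ι).obj Q ≅ P),
      NonAbH1.IsTorsorFor Scheme.fppfPrecoverage a ∧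
      Functor.LaxMonoidal.μ (Over.pullback U.ι) G Q ≫ (Over.pullback U.ι).map a.act ≫ φ.hom =
        ((Over.pullback U.ι).obj G ◁ φ.hom) ≫ b.act := by
  have hO : OIso U.ι := K550.OIReg.oIso_ι U hZ
  let F := Over.pullback U.ι
  have hGU1 : IsFinite ((Over.pullback U.ι).obj G).hom :=
    MorphismProperty.pullback_snd (P := @IsFinite) _ _ inferInstance
  have hGU2 : Flat ((Over.pullback U.ι).obj G).hom :=
    MorphismProperty.pullback_snd (P := @Flat) _ _ inferInstance
  have hGU3 : LocallyOfFinitePresentation ((Over.pullback U.ι).obj G).hom :=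
    MorphismProperty.pullback_snd (P := @LocallyOfFinitePresentation) _ _ inferInstance
  have hP1 : IsFinite P.hom := K551.Tors.isFinite_of_torsor hb
  have hP2 : Flat P.hom := K551.Tors.flat_of_torsor hb
  have hP3 : LocallyOfFinitePresentation P.hom := K551.Tors.lfp_of_torsor hb
  have hP4 : Surjective P.hom := K551.Tors.surjective_of_torsor hb
  have hb1 : IsIso (lift b.act (snd ((Over.pullback U.ι).obj G) P)) := hb.1
  -- the hull
  let Q := hullX U P
  have hiso := isIso_toX U P
  let φ : (Over.pullback U.ι).obj Q ≅ P := (Over.isoMk (asIso (toX U P)) (toX_snd U P)).symm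
  have hφ : φ.hom.left ≫ P.hom = pullback.snd Q.hom U.ι := Over.w φ.hom
  have hφi : IsIso φ.hom.left := inferInstanceAs (IsIso ((Over.forget _).map φ.hom))
  have hQ1 : IsFinite (pullback.snd Q.hom U.ι) := by rw [← hφ]; infer_instance
  have hQ2 : Flat (pullback.snd Q.hom U.ι) := by rw [← hφ]; infer_instance
  have hQ3 : LocallyOfFinitePresentation (pullback.snd Q.hom U.ι) := by rw [← hφ]; infer_instance
  have hOQ : OIso (pullback.fst Q.hom U.ι) := by
    have e1 : pullback.fst Q.hom U.ι = inv (toX U P) ≫ toQ U P := by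
      rw [IsIso.eq_inv_comp]; exact toX_fst U P
    rw [e1]
    exact OIso.comp _ _
  -- the action
  have hf : Flat (snd G Q).left :=
    MorphismProperty.pullback_snd (P := @Flat) G.hom Q.hom inferInstance
  have hOGQ : OIso (pullback.fst (G ⊗ Q).hom U.ι) := oIso_of_flat U.ι (snd G Q)
  obtain ⟨act, hact⟩ := map_surjective' U.ι (T := G ⊗ Q) (Q := Q)
    (Functor.OplaxMonoidal.δ (Over.pullback U.ι) G Q ≫
      ((Over.pullback U.ι).obj G ◁ φ.hom) ≫ b.act ≫ φ.inv)
  have h : Functor.LaxMonoidal.μ (Over.pullback U.ι) G Q ≫ (Over.pullback U.ι).map act ≫ φ.hom =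
      ((Over.pullback U.ι).obj G ◁ φ.hom) ≫ b.act := by
    rw [hact]
    simp
  have hsU := K550.ActUp.isIso_map_shear (Over.pullback U.ι) act φ b.act h
  obtain ⟨h1, h2, h3⟩ := K550.FinFlat.finite_flat G Q U (lift act (snd G Q)) (lift_snd _ _) hsU hZ
  have hQQ := K550.LocFree.isAffineHom_tensor Q Q
  have hGQ := K550.LocFree.isAffineHom_tensor G Q
  have hf1 : Flat (Q ⊗ Q).hom := flat_tensor Q Q
  have hf0 : Flat (𝟙_ (Over X)).hom := inferInstanceAs (Flat (𝟙 X))
  have hf2 : Flat (𝟙_ (Over X) ⊗ Q).hom := flat_tensor _ Q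
  have hf3 : Flat (G ⊗ G).hom := flat_tensor G G
  have hf4 : Flat ((G ⊗ G) ⊗ Q).hom := flat_tensor (G ⊗ G) Q
  have hO1 := K550.OIFF.oIso_fst U.ι (Q ⊗ Q)
  have hO2 := K550.OIFF.oIso_fst U.ι (𝟙_ (Over X) ⊗ Q)
  have hO3 := K550.OIFF.oIso_fst U.ι ((G ⊗ G) ⊗ Q)
  let a : AlgGrp.Action G Q :=
    { act := act
      one_act := map_injective' U.ι
        (K550.ActUp.map_one_act (Over.pullback U.ι) act φ b.act h b.one_act)
      mul_act := map_injective' U.ι
        (K550.ActUp.map_mul_act (Over.pullback U.ι) act φ b.act h b.mul_act) }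
  have hps : NonAbH1.IsPseudoTorsorSch a := by
    obtain ⟨t, ht⟩ := map_surjective' U.ι (T := Q ⊗ Q) (Q := G ⊗ Q)
      (inv ((Over.pullback U.ι).map (lift act (snd G Q))))
    refine ⟨⟨t, map_injective' U.ι ?_, map_injective' U.ι ?_⟩⟩
    · rw [Functor.map_comp, ht, CategoryTheory.Functor.map_id]
      exact IsIso.hom_inv_id _
    · rw [Functor.map_comp, ht, CategoryTheory.Functor.map_id]
      exact IsIso.inv_hom_id _
  have hsurj : Surjective Q.hom := surjective_of_oIso Q.hom U fun x hx => by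
    obtain ⟨y, hy⟩ := P.hom.surjective ⟨x, hx⟩
    refine ⟨toQ U P y, ?_⟩
    rw [← Scheme.Hom.comp_apply, toQ_hom, Scheme.Hom.comp_apply, hy]
    rfl
  exact ⟨Q, a, φ, K551.Tors.isTorsorFor_of_redSub ⟨hsurj, h2, h3, hps⟩, h⟩

end K550.ExtTors
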