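import Groth.Agent.NonAbH1.K550.Sh
import Mathlib.CategoryTheory.Sites.Point.Basic
import Mathlib.Algebra.Category.Grp.FilteredColimits

/-!
# The Godement embedding for sheaves of groups

Stalks of sheaves of groups at points of a site, products of skyscraper sheaves of groups along a family of points,
triviality of torsors under them.
-/

set_option autoImplicit false

universe u

open CategoryTheory CategoryTheory.Limits Opposite

namespace K550.Gode

open K550.Sh

variable {C : Type (u + 1)} [Category.{u} C] {J : GrothendieckTopology C}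

section Stalk

variable (Φ : GrothendieckTopology.Point.{u} J) (F : Cᵒᵖ ⥤ GrpCat.{u + 1})

/-- the diagram of neighbourhoods, as a small filtered category -/
abbrev Nb : Type (u + 1) := ULiftHom.{u + 1} (Φ.fiber.Elementsᵒᵖ)

instance : IsFiltered (Nb Φ) := IsFiltered.of_equivalence (ULiftHom.equiv (C := Φ.fiber.Elementsᵒᵖ))

/-- the diagram of sections -/
def stalkFun : Nb Φ ⥤ GrpCat.{u + 1} := ULiftHom.down ⋙ (CategoryOfElements.π Φ.fiber).op ⋙ F

/-- the stalk, a group -/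
noncomputable def stalkGrp : GrpCat.{u + 1} := GrpCat.FilteredColimits.colimit.{u + 1, u + 1} (stalkFun Φ F)

/-- the germ map -/
noncomputable def germ {V : C} (v : Φ.fiber.obj V) : F.obj (op V) ⟶ stalkGrp Φ F :=
  (GrpCat.FilteredColimits.colimitCocone.{u + 1, u + 1} (stalkFun Φ F)).ι.app (ULiftHom.objUp (op (Functor.elementsMk Φ.fiber V v)))

lemma germ_map {V W : C} (f : W ⟶ V) (w : Φ.fiber.obj W) (s : F.obj (op V)) :
    germ Φ F w (F.map f.op s) = germ Φ F (Φ.fiber.map f w) s := by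
  let a : Functor.elementsMk Φ.fiber W w ⟶ Functor.elementsMk Φ.fiber V (Φ.fiber.map f w) := CategoryOfElements.homMk _ _ f rfl
  have h := (GrpCat.FilteredColimits.colimitCocone.{u + 1, u + 1} (stalkFun Φ F)).w (ULiftHom.up.map a.op)
  exact ConcreteCategory.congr_hom h s

lemma germ_eq {V : C} (v : Φ.fiber.obj V) {s t : F.obj (op V)} (h : germ Φ F v s = germ Φ F v t) :
    ∃ (W : C) (f : W ⟶ V) (w : Φ.fiber.obj W), Φ.fiber.map f w = v ∧ F.map f.op s = F.map f.op t := by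
  have hc := isColimitOfPreserves (forget GrpCat.{u + 1})
    (GrpCat.FilteredColimits.colimitCoconeIsColimit.{u + 1, u + 1} (stalkFun Φ F))
  obtain ⟨k, f, hf⟩ := (Types.FilteredColimit.isColimit_eq_iff' hc (i := (ULiftHom.objUp
    (op (Functor.elementsMk Φ.fiber V v)) : Nb Φ)) s t).1 h
  let a : (ULiftHom.objDown k).unop ⟶ Functor.elementsMk Φ.fiber V v := (ULiftHom.down.map f).unop
  exact ⟨_, a.1, _, a.2, hf⟩

end Stalk

section God

variable {I : Type u} (Φ : I → GrothendieckTopology.Point.{u} J) (A : I → GrpCat.{u + 1})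

/-- the presheaf `V ↦ ∏_x ∏_{v ∈ Φ_x(V)} A_x` -/
def skyPre : Cᵒᵖ ⥤ GrpCat.{u + 1} where
  obj V := GrpCat.of (∀ (x : I) (_ : (Φ x).fiber.obj V.unop), A x)
  map f := GrpCat.ofHom
    { toFun := fun s x w => s x ((Φ x).fiber.map f.unop w)
      map_one' := rfl
      map_mul' := fun _ _ => rfl }
  map_id V := by
    ext s x w
    change s x ((Φ x).fiber.map (𝟙 _) w) = s x w
    rw [Functor.map_id_apply]
  map_comp f g := by
    ext s x w
    change s x ((Φ x).fiber.map (g.unop ≫ f.unop) w) = s x ((Φ x).fiber.map f.unop ((Φ x).fiber.map g.unop w))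
    rw [Functor.map_comp_apply]

/-- two elements over the same element admit a common refinement -/
lemma exists_common (Ψ : GrothendieckTopology.Point.{u} J) {V W Z : C} (f : V ⟶ Z) (g : W ⟶ Z)
    (v : Ψ.fiber.obj V) (w : Ψ.fiber.obj W) (h : Ψ.fiber.map f v = Ψ.fiber.map g w) :
    ∃ (T : C) (a : T ⟶ V) (b : T ⟶ W) (t : Ψ.fiber.obj T), a ≫ f = b ≫ g ∧ Ψ.fiber.map a t = v ∧
      Ψ.fiber.map b t = w := by
  let f' : Functor.elementsMk Ψ.fiber V v ⟶ Functor.elementsMk Ψ.fiber Z (Ψ.fiber.map g w) :=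
    CategoryOfElements.homMk _ _ f h
  let g' : Functor.elementsMk Ψ.fiber W w ⟶ Functor.elementsMk Ψ.fiber Z (Ψ.fiber.map g w) :=
    CategoryOfElements.homMk _ _ g rfl
  obtain ⟨T, a, b, hab⟩ := IsCofiltered.cospan f' g'
  exact ⟨T.1, a.1, b.1, T.2, congrArg Subtype.val hab, a.2, b.2⟩

/-- common refinement for a bowtie -/
lemma exists_common₂ (Ψ : GrothendieckTopology.Point.{u} J) {V W Z Z' : C} (f : V ⟶ Z) (g : W ⟶ Z)
    (f₁ : V ⟶ Z') (g₁ : W ⟶ Z')
    (v : Ψ.fiber.obj V) (w : Ψ.fiber.obj W) (h : Ψ.fiber.map f v = Ψ.fiber.map g w)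
    (h₁ : Ψ.fiber.map f₁ v = Ψ.fiber.map g₁ w) :
    ∃ (T : C) (a : T ⟶ V) (b : T ⟶ W) (t : Ψ.fiber.obj T), a ≫ f = b ≫ g ∧ a ≫ f₁ = b ≫ g₁ ∧
      Ψ.fiber.map a t = v ∧ Ψ.fiber.map b t = w := by
  let f' : Functor.elementsMk Ψ.fiber V v ⟶ Functor.elementsMk Ψ.fiber Z (Ψ.fiber.map g w) :=
    CategoryOfElements.homMk _ _ f h
  let g' : Functor.elementsMk Ψ.fiber W w ⟶ Functor.elementsMk Ψ.fiber Z (Ψ.fiber.map g w) :=
    CategoryOfElements.homMk _ _ g rfl
  let f₁' : Functor.elementsMk Ψ.fiber V v ⟶ Functor.elementsMk Ψ.fiber Z' (Ψ.fiber.map g₁ w) :=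
    CategoryOfElements.homMk _ _ f₁ h₁
  let g₁' : Functor.elementsMk Ψ.fiber W w ⟶ Functor.elementsMk Ψ.fiber Z' (Ψ.fiber.map g₁ w) :=
    CategoryOfElements.homMk _ _ g₁ rfl
  obtain ⟨T, a, b, hab, hab'⟩ := IsCofiltered.bowtie f' g' f₁' g₁'
  exact ⟨T.1, a.1, b.1, T.2, congrArg Subtype.val hab, congrArg Subtype.val hab', a.2, b.2⟩

lemma skyPre_isSheaf : Presheaf.IsSheaf J (skyPre Φ A) := by
  rw [Presheaf.isSheaf_iff_isSheaf_forget J (skyPre Φ A) (forget GrpCat.{u + 1}), isSheaf_iff_isSheaf_of_type]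
  intro U S hS s hs
  rw [Presieve.compatible_iff_sieveCompatible] at hs
  have key : ∀ (x : I) (v : (Φ x).fiber.obj U), ∃ α : A x, ∀ (V : C) (f : V ⟶ U) (hf : S f) (w : (Φ x).fiber.obj V),
      (Φ x).fiber.map f w = v → (s f hf : ∀ (x : I) (_ : (Φ x).fiber.obj V), A x) x w = α := by
    intro x v
    obtain ⟨V, f, hf, w, hw⟩ := (Φ x).jointly_surjective S hS v
    refine ⟨(s f hf : ∀ (x : I) (_ : (Φ x).fiber.obj V), A x) x w, fun V' f' hf' w' hw' => ?_⟩
    obtain ⟨T, a, b, t, hab, ha, hb⟩ := exists_common (Φ x) f' f w' w (hw'.trans hw.symm)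
    have h1 := congrFun (congrFun (hs f' a hf') x) t
    have h2 := congrFun (congrFun (hs f b hf) x) t
    change _ = (s f' hf' : ∀ (x : I) (_ : (Φ x).fiber.obj V'), A x) x ((Φ x).fiber.map a t) at h1
    change _ = (s f hf : ∀ (x : I) (_ : (Φ x).fiber.obj V), A x) x ((Φ x).fiber.map b t) at h2
    rw [ha] at h1
    rw [hb] at h2
    rw [← h1, ← h2]
    congr 2
  choose α hα using key
  refine ⟨(α : ∀ (x : I) (_ : (Φ x).fiber.obj U), A x), fun V f hf => ?_, fun β hβ => ?_⟩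
  · funext x w
    exact (hα x _ V f hf w rfl).symm
  · funext x v
    obtain ⟨V, f, hf, w, hw⟩ := (Φ x).jointly_surjective S hS v
    have h1 := congrFun (congrFun (hβ f hf) x) w
    change (β : ∀ (x : I) (_ : (Φ x).fiber.obj U), A x) x ((Φ x).fiber.map f w) = _ at h1
    rw [hw] at h1
    exact h1.trans (hα x v V f hf w hw)

/-- the product of the skyscraper sheaves of groups `A_x` at `Φ_x` -/
def skySheaf : Sheaf J GrpCat.{u + 1} := ⟨skyPre Φ A, skyPre_isSheaf Φ A⟩

open NonAbH1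

lemma skySheaf_map {V W : C} (f : W ⟶ V) (s : (skySheaf Φ A).obj.obj (op V)) (x : I) (w : (Φ x).fiber.obj W) :
    ((skySheaf Φ A).obj.map f.op s : ∀ (x : I) (_ : (Φ x).fiber.obj W), A x) x w =
      (s : ∀ (x : I) (_ : (Φ x).fiber.obj V), A x) x ((Φ x).fiber.map f w) := rfl

variable {Φ A}

/-- a torsor under the restriction of `skySheaf` to `U` has sections near every point -/
lemma exists_near {U : C} (P : Torsor ((skySheaf Φ A).over U)) (x : I) (a : (Φ x).fiber.obj U) :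
    ∃ (V : Over U) (v : (Φ x).fiber.obj V.left) (_ : P.P.obj.obj (op V)), (Φ x).fiber.map V.hom v = a := by
  obtain ⟨S, hS, h⟩ := P.isTorsor.2 (Over.mk (𝟙 U))
  rw [GrothendieckTopology.mem_over_iff] at hS
  obtain ⟨V, f, hf, v, hv⟩ := (Φ x).jointly_surjective _ hS a
  rw [Sieve.overEquiv_iff] at hf
  obtain ⟨p⟩ := h _ hf
  refine ⟨_, v, p, ?_⟩
  have h1 : (Over.mk (f ≫ (Over.mk (𝟙 U)).hom)).hom = f := Category.comp_id f
  rw [h1]
  exact hv

/-- the action on sections over `W → U`, with coefficients in `skySheaf` over the source -/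
def sm {U : C} (P : Torsor ((skySheaf Φ A).over U)) {W : Over U} (k : (skySheaf Φ A).obj.obj (op W.left))
    (q : P.P.obj.obj (op W)) : P.P.obj.obj (op W) := P.smul (U := op W) k q

lemma map_sm {U : C} (P : Torsor ((skySheaf Φ A).over U)) {W W' : Over U} (b : W' ⟶ W)
    (k : (skySheaf Φ A).obj.obj (op W.left)) (q : P.P.obj.obj (op W)) :
    P.P.obj.map b.op (sm P k q) = sm P ((skySheaf Φ A).obj.map b.left.op k) (P.P.obj.map b.op q) :=
  P.map_smul b.op k q

lemma mul_sm {U : C} (P : Torsor ((skySheaf Φ A).over U)) {W : Over U}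
    (k k' : (skySheaf Φ A).obj.obj (op W.left)) (q : P.P.obj.obj (op W)) :
    sm P (k * k') q = sm P k (sm P k' q) :=
  P.mul_smul (U := op W) k k' q

lemma sm_inj {U : C} (P : Torsor ((skySheaf Φ A).over U)) {W : Over U}
    {k k' : (skySheaf Φ A).obj.obj (op W.left)} (q : P.P.obj.obj (op W)) (h : sm P k q = sm P k' q) : k = k' :=
  smul_left_inj (U := op W) P.isTorsor.1 q h

/-- Torsors under `skySheaf` over any object are trivial. -/
theorem isTrivial_skySheaf {U : C} (P : Torsor ((skySheaf Φ A).over U)) : P.IsTrivial := by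
  choose V v e hv using exists_near P
  -- the value relation
  let Val : ∀ (W : Over U) (_ : P.P.obj.obj (op W)) (x : I) (_ : (Φ x).fiber.obj W.left) (_ : A x), Prop :=
    fun W q x w α => ∃ (a : (Φ x).fiber.obj U) (Z : Over U) (f : Z ⟶ V x a) (g : Z ⟶ W) (z : (Φ x).fiber.obj Z.left)
      (g0 : (skySheaf Φ A).obj.obj (op Z.left)),
      (Φ x).fiber.map W.hom w = a ∧ (Φ x).fiber.map f.left z = v x a ∧ (Φ x).fiber.map g.left z = w ∧
      sm P g0 (P.P.obj.map f.op (e x a)) = P.P.obj.map g.op q ∧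
      (g0 : ∀ (x : I) (_ : (Φ x).fiber.obj Z.left), A x) x z = α
  have hex : ∀ (W : Over U) (q : P.P.obj.obj (op W)) (x : I) (w : (Φ x).fiber.obj W.left), ∃ α, Val W q x w α := by
    intro W q x w
    obtain ⟨Z, f, g, z, h1, h2, h3⟩ := exists_common (Φ x) (V x ((Φ x).fiber.map W.hom w)).hom W.hom
      (v x _) w (hv x _)
    let Z' : Over U := Over.mk (g ≫ W.hom)
    let f' : Z' ⟶ V x ((Φ x).fiber.map W.hom w) := Over.homMk f h1
    let g' : Z' ⟶ W := Over.homMk g rfl
    obtain ⟨g0, hg0, -⟩ := P.isTorsor.1 (op Z') (P.P.obj.map f'.op (e x _)) (P.P.obj.map g'.op q)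
    exact ⟨_, _, Z', f', g', z, g0, rfl, h2, h3, hg0, rfl⟩
  have huniq : ∀ (W : Over U) (q : P.P.obj.obj (op W)) (x : I) (w : (Φ x).fiber.obj W.left) (α β : A x),
      Val W q x w α → Val W q x w β → α = β := by
    rintro W q x w α β ⟨a, Z, f, g, z, g0, rfl, h2, h3, h4, rfl⟩ ⟨a', Z', f', g', z', g0', ha', h2', h3', h4', rfl⟩
    subst ha'
    obtain ⟨T, b, b', t, e1, e2, e3, e4⟩ := exists_common₂ (Φ x) f.left f'.left g.left g'.left z z'
      (h2.trans h2'.symm) (h3.trans h3'.symm)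
    let T' : Over U := Over.mk (b ≫ Z.hom)
    let c : T' ⟶ Z := Over.homMk b rfl
    let c' : T' ⟶ Z' := Over.homMk b' (by
      change b' ≫ Z'.hom = b ≫ Z.hom
      rw [← Over.w g, ← Over.w g', ← Category.assoc, ← Category.assoc, e2])
    have hcf : c ≫ f = c' ≫ f' := Over.OverMorphism.ext e1
    have hcg : c ≫ g = c' ≫ g' := Over.OverMorphism.ext e2
    have k1 := congrArg (P.P.obj.map c.op) h4
    have k2 := congrArg (P.P.obj.map c'.op) h4'
    rw [map_sm, map_comp_sec, map_comp_sec] at k1 k2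
    rw [hcf, hcg] at k1
    have k3 := sm_inj P _ (k1.trans k2.symm)
    have k4 := congrFun (congrFun k3 x) t
    change (g0 : ∀ (x : I) (_ : (Φ x).fiber.obj Z.left), A x) x ((Φ x).fiber.map b t) =
      (g0' : ∀ (x : I) (_ : (Φ x).fiber.obj Z'.left), A x) x ((Φ x).fiber.map b' t) at k4
    rw [e3, e4] at k4
    exact k4
  choose ψ hψ using hex
  have hnat : ∀ (W W' : Over U) (b : W' ⟶ W) (q : P.P.obj.obj (op W)) (x : I) (w : (Φ x).fiber.obj W'.left),
      ψ W' (P.P.obj.map b.op q) x w = ψ W q x ((Φ x).fiber.map b.left w) := by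
    intro W W' b q x w
    apply huniq W q x _ _ _ _ (hψ W q x _)
    obtain ⟨a, Z, f, g, z, g0, h1, h2, h3, h4, h5⟩ := hψ W' (P.P.obj.map b.op q) x w
    refine ⟨a, Z, f, g ≫ b, z, g0, ?_, h2, ?_, ?_, h5⟩
    · rw [← h1, ← Functor.map_comp_apply, Over.w]
    · rw [Over.comp_left, Functor.map_comp_apply, h3]
    · rw [h4, map_comp_sec]
  have hequiv : ∀ (W : Over U) (k : (skySheaf Φ A).obj.obj (op W.left)) (q : P.P.obj.obj (op W)) (x : I)
      (w : (Φ x).fiber.obj W.left), ψ W (sm P k q) x w =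
        (k : ∀ (x : I) (_ : (Φ x).fiber.obj W.left), A x) x w * ψ W q x w := by
    intro W k q x w
    apply huniq W (sm P k q) x w _ _ (hψ W _ x w)
    obtain ⟨a, Z, f, g, z, g0, h1, h2, h3, h4, h5⟩ := hψ W q x w
    refine ⟨a, Z, f, g, z, (skySheaf Φ A).obj.map g.left.op k * g0, h1, h2, h3, ?_, ?_⟩
    · rw [map_sm, ← h4, mul_sm]
    · rw [← h5, ← h3]
      rfl
  obtain ⟨i⟩ := iso_of_isTorsor (P := P.toGSheaf) (Q := GSheaf.trivial ((skySheaf Φ A).over U)) P.isTorsor
    (GSheaf.isTorsor_trivial.{u + 1, u, u + 1} _).1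
    ⟨⟨{ app := fun W => TypeCat.ofHom (fun q => ψ W.unop q)
        naturality := fun W W' b => by
          ext q
          funext x w
          exact hnat W.unop W'.unop b.unop q x w }⟩, fun {W} k q => by
      funext x w
      exact hequiv W.unop k q x w⟩
  exact ⟨i.symm⟩

end God

end K550.Gode
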