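import Groth.Agent.Desc.AffineHull

/-!
# Restriction of flat and of affine schemes along `j` with `O ≅ j_* O` is fully faithful
-/

set_option autoImplicit false
universe u

open CategoryTheory CategoryTheory.Limits AlgebraicGeometry MonoidalCategory

namespace K550.OIFF

open Groth.Agent.Desc.AffineHull

variable {X V : Scheme.{u}} (j : V ⟶ X) [OIso j] [QuasiCompact j] [QuasiSeparated j]

omit [OIso j] [QuasiCompact j] [QuasiSeparated j] in
lemma map_left_fst {T Q : Over X} (f : T ⟶ Q) :
    ((Over.pullback j).map f).left ≫ pullback.fst Q.hom j = pullback.fst T.hom j ≫ f.left :=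
  pullback.lift_fst _ _ _

omit [OIso j] [QuasiCompact j] [QuasiSeparated j] in
lemma map_left_snd {T Q : Over X} (f : T ⟶ Q) :
    ((Over.pullback j).map f).left ≫ pullback.snd Q.hom j = pullback.snd T.hom j :=
  pullback.lift_snd _ _ _

/-- restriction of a flat scheme -/
theorem oIso_fst (T : Over X) [Flat T.hom] : OIso (pullback.fst T.hom j) :=
  OIso.of_isPullback (IsPullback.of_hasPullback T.hom j).flip

theorem hom_ext' {T Q : Over X} [Flat T.hom] [IsSeparated Q.hom] {f g : T ⟶ Q}
    (h : pullback.fst T.hom j ≫ f.left = pullback.fst T.hom j ≫ g.left) : f = g := by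
  have := oIso_fst j T
  have := OIso.isSchemeTheoreticallyDominant (pullback.fst T.hom j)
  ext1
  exact ext_of_dominant Q.hom (by rw [Over.w, Over.w]) (pullback.fst T.hom j) h

theorem map_injective {T Q : Over X} [Flat T.hom] [IsSeparated Q.hom] {f g : T ⟶ Q}
    (h : (Over.pullback j).map f = (Over.pullback j).map g) : f = g := by
  apply hom_ext' j
  rw [← map_left_fst, h, map_left_fst]

theorem map_surjective {T Q : Over X} [Flat T.hom] [IsAffineHom Q.hom]
    (h : (Over.pullback j).obj T ⟶ (Over.pullback j).obj Q) :
    ∃ f : T ⟶ Q, (Over.pullback j).map f = h := by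
  have := oIso_fst j T
  obtain ⟨u, hu, hu'⟩ := exists_lift (pullback.fst T.hom j) Q.hom
    (h.left ≫ pullback.fst Q.hom j) T.hom (by
      have h1 : h.left ≫ pullback.snd Q.hom j = pullback.snd T.hom j := Over.w h
      rw [Category.assoc, pullback.condition, ← Category.assoc, h1, pullback.condition])
  refine ⟨Over.homMk u hu', ?_⟩
  ext1
  apply pullback.hom_ext
  · exact (map_left_fst j _).trans hu
  · have h1 : h.left ≫ pullback.snd Q.hom j = pullback.snd T.hom j := Over.w h
    exact (map_left_snd j _).trans h1.symm

end K550.OIFF
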