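import Groth.Agent.NonAbH1.K550.TorIso
import Mathlib.RingTheory.TensorProduct.Free
import Mathlib.RingTheory.IsTensorProduct

/-!
# The linear map given by a shear map
-/

set_option autoImplicit false

open scoped TensorProduct

namespace K550.ShearAlg

open K550.TI

theorem torIso_congr {A M M' N N' : Type*} [CommRing A] [AddCommGroup M] [Module A M]
    [AddCommGroup M'] [Module A M'] [AddCommGroup N] [Module A N] [AddCommGroup N'] [Module A N']
    {S : Submonoid A} {φ : M →ₗ[A] M'} (hφ : TorIso S φ) (e : N ≃ₗ[A] M) (e' : M' ≃ₗ[A] N') :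
    TorIso S (e'.toLinearMap ∘ₗ φ ∘ₗ e.toLinearMap) := by
  refine ⟨fun x hx => ?_, fun y => ?_⟩
  · obtain ⟨s, hs, h⟩ := hφ.inj (e x) (e'.injective (by simpa using hx))
    exact ⟨s, hs, e.injective (by rw [map_smul, h, map_zero])⟩
  · obtain ⟨s, hs, x, h⟩ := hφ.surj (e'.symm y)
    refine ⟨s, hs, e.symm x, e'.symm.injective ?_⟩
    simp [h]

theorem exists_rho {A B C D E : Type*} [CommRing A] [CommRing B] [Algebra A B] [AddCommGroup C]
    [Module A C] [AddCommGroup D] [Module A D] [Module B D] [IsScalarTower A B D] [AddCommGroup E]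
    [Module A E] [Module B E] [IsScalarTower A B E] (e : B →ₗ[A] E) (he : IsBaseChange B e)
    (d : C →ₗ[A] D) (hd : IsBaseChange B d) {r : ℕ} (b : Module.Basis (Fin r) A C)
    (σ : E →ₗ[B] D) :
    ∃ ρ : B →ₗ[A] (Fin r → B), ∀ S : Submonoid A, TorIso S (σ.restrictScalars A) →
      TorIso S ((ρ.liftBaseChange B).restrictScalars A) := by
  let θ : D ≃ₗ[B] (Fin r → B) := hd.equiv.symm.trans (b.baseChange B).equivFun
  refine ⟨θ.toLinearMap.restrictScalars A ∘ₗ σ.restrictScalars A ∘ₗ e, fun S hσ => ?_⟩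
  have h1 : ((θ.toLinearMap.restrictScalars A ∘ₗ σ.restrictScalars A ∘ₗ e).liftBaseChange B).restrictScalars A =
      (θ.restrictScalars A).toLinearMap ∘ₗ σ.restrictScalars A ∘ₗ
        (he.equiv.restrictScalars A).toLinearMap := by
    apply TensorProduct.ext'
    intro x y
    simp [IsBaseChange.equiv_tmul]
  rw [h1]
  exact torIso_congr hσ _ _

end K550.ShearAlg
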