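import Groth.Agent.NonAbH1.K550.Sec
import Groth.Agent.NonAbH1.K550.OIFF
import Groth.Agent.NonAbH1.K550.ShearAlg
import Groth.Agent.NonAbH1.K550.AffMain
import Mathlib.RingTheory.Finiteness.ModuleFinitePresentation

/-!
# Local freeness of the hull of a torsor, in terms of sections
-/

set_option autoImplicit false
universe u

open CategoryTheory CategoryTheory.Limits AlgebraicGeometry TopologicalSpace Opposite MonoidalCategory
  CartesianMonoidalCategory

namespace K550.LocFree

open K550.SecLoc K550.SecT K550.SatMod K550.TI Groth.Agent.Desc.AffineHull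

variable {X : Scheme.{u}}

theorem exists_finite_basicOpen {V : X.Opens} (hV : IsAffineOpen V) {W : X.Opens}
    (hW : IsCompact (W : Set X)) (hWV : W ≤ V) :
    ∃ (ι : Type u) (_ : Finite ι) (h : ι → Γ(X, V)), W = ⨆ i, X.basicOpen (h i) := by
  have h1 (x : W) : ∃ f : Γ(X, V), X.basicOpen f ≤ W ∧ (x : X) ∈ X.basicOpen f :=
    hV.exists_basicOpen_le x (hWV x.2)
  choose f hf hf' using h1
  obtain ⟨t, ht⟩ := hW.elim_finite_subcover (fun x : W => (X.basicOpen (f x) : Set X))
    (fun x => (X.basicOpen (f x)).isOpen) (fun x hx => Set.mem_iUnion.mpr ⟨⟨x, hx⟩, hf' ⟨x, hx⟩⟩)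
  refine ⟨t, inferInstance, fun i => f i, le_antisymm ?_ (iSup_le fun i => hf i)⟩
  intro x hx
  have := ht hx
  simp only [Set.mem_iUnion] at this
  obtain ⟨i, hi, hx'⟩ := this
  exact Opens.mem_iSup.mpr ⟨⟨i, hi⟩, hx'⟩

theorem isCompact_inf (U : X.Opens) [QuasiCompact U.ι] {V : X.Opens} (hV : IsAffineOpen V) :
    IsCompact ((U ⊓ V : X.Opens) : Set X) := by
  have h1 : IsCompact ((U.ι ⁻¹ᵁ V : (U : Scheme.{u}).Opens) : Set (U : Scheme.{u})) :=
    U.ι.isCompact_preimage hV.isCompact
  have h2 := h1.image U.ι.continuous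
  convert h2 using 1
  ext x
  constructor
  · rintro ⟨hx, hx'⟩
    exact ⟨⟨x, hx⟩, hx', rfl⟩
  · rintro ⟨x, hx, rfl⟩
    exact ⟨x.2, hx⟩

theorem bijective_secMap {T T' : Over X} (s : T ⟶ T') (U : X.Opens)
    (hs : IsIso ((Over.pullback U.ι).map s)) {W : X.Opens} (hW : W ≤ U) :
    Function.Bijective (secMap s W) := by
  have h1 : IsIso ((Over.pullback U.ι).map s).left :=
    inferInstanceAs (IsIso ((Over.forget _).map ((Over.pullback U.ι).map s)))
  have H : IsPullback (pullback.fst T.hom U.ι) ((Over.pullback U.ι).map s).left s.left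
      (pullback.fst T'.hom U.ι) := by
    have hr : IsPullback (pullback.snd T'.hom U.ι) (pullback.fst T'.hom U.ι) U.ι T'.hom :=
      (IsPullback.of_hasPullback T'.hom U.ι).flip
    have ho : IsPullback (((Over.pullback U.ι).map s).left ≫ pullback.snd T'.hom U.ι)
        (pullback.fst T.hom U.ι) U.ι (s.left ≫ T'.hom) := by
      rw [K550.OIFF.map_left_snd, Over.w]
      exact (IsPullback.of_hasPullback T.hom U.ι).flip
    exact (IsPullback.of_right ho (K550.OIFF.map_left_fst U.ι s) hr).flip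
  have h2 := (isIso_app_iff_of_isPullback H (T'.hom ⁻¹ᵁ W) (by
    rw [Scheme.Hom.opensRange_pullbackFst, Scheme.Opens.opensRange_ι]
    exact T'.hom.preimage_mono hW)).mpr inferInstance
  have h3 : IsIso (s.left.appLE (T'.hom ⁻¹ᵁ W) (T.hom ⁻¹ᵁ W) (preimage_eq s W).ge) := by
    rw [Scheme.Hom.appLE]
    have : IsIso (T.left.presheaf.map (homOfLE (preimage_eq s W).ge).op) := by
      rw [show (homOfLE (preimage_eq s W).ge).op = (eqToHom (preimage_eq s W).symm).op from rfl]
      infer_instance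
    infer_instance
  exact ConcreteCategory.bijective_of_isIso _

/-- the algebra of sections of `T` -/
noncomputable abbrev algSec (T : Over X) (V : X.Opens) : Algebra Γ(X, V) (Sec T V) :=
  (str T V).toAlgebra

attribute [local instance] algSec

/-- the algebra of sections of `T` over a basic open -/
noncomputable abbrev algSec' (T : Over X) {V : X.Opens} (h : Γ(X, V)) :
    Algebra Γ(X, V) (Sec T (X.basicOpen h)) :=
  ((str T (X.basicOpen h)).comp (rs (X.basicOpen_le h))).toAlgebra

attribute [local instance] algSec'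

noncomputable abbrev algRs (T : Over X) {V : X.Opens} (h : Γ(X, V)) :
    Algebra (Sec T V) (Sec T (X.basicOpen h)) :=
  (rsT T (X.basicOpen_le h)).toAlgebra

attribute [local instance] algRs

instance (T : Over X) {V : X.Opens} (h : Γ(X, V)) :
    IsScalarTower Γ(X, V) Γ(X, X.basicOpen h) (Sec T (X.basicOpen h)) :=
  .of_algebraMap_eq fun _ => rfl

instance (T : Over X) {V : X.Opens} (h : Γ(X, V)) :
    IsScalarTower Γ(X, V) (Sec T V) (Sec T (X.basicOpen h)) :=
  .of_algebraMap_eq fun x => (rsT_str T (X.basicOpen_le h) x).symm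

/-- pullback of sections as an algebra homomorphism -/
noncomputable def secHom {T T' : Over X} (s : T ⟶ T') (V : X.Opens) :
    Sec T' V →ₐ[Γ(X, V)] Sec T V :=
  { secMap s V with commutes' := fun x => secMap_str s V x }

/-- restriction to a basic open -/
noncomputable def resL (T : Over X) {V : X.Opens} (h : Γ(X, V)) :
    Sec T V →ₗ[Γ(X, V)] Sec T (X.basicOpen h) :=
  (IsScalarTower.toAlgHom Γ(X, V) (Sec T V) (Sec T (X.basicOpen h))).toLinearMap

lemma resL_apply (T : Over X) {V : X.Opens} (h : Γ(X, V)) (x : Sec T V) :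
    resL T h x = rsT T (X.basicOpen_le h) x := rfl

theorem isLocalizedModule_resL (T : Over X) [IsAffineHom T.hom] {V : X.Opens}
    (hV : IsAffineOpen V) (h : Γ(X, V)) : IsLocalizedModule (.powers h) (resL T h) := by
  have h1 : IsLocalization (Algebra.algebraMapSubmonoid (Sec T V) (.powers h))
      (Sec T (X.basicOpen h)) := by
    rw [Algebra.algebraMapSubmonoid_powers]
    exact isLocalization_away T hV h
  exact isLocalizedModule_iff_isLocalization.mpr h1

theorem torIso_secHom {T T' : Over X} [IsAffineHom T.hom] [IsAffineHom T'.hom] (s : T ⟶ T')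
    {V : X.Opens} (hV : IsAffineOpen V) (h : Γ(X, V))
    (hb : Function.Bijective (secMap s (X.basicOpen h))) :
    TorIso (.powers h) (secHom s V).toLinearMap := by
  have h1 := isLocalizedModule_resL T hV h
  have h2 := isLocalizedModule_resL T' hV h
  refine TorIso.of_bijective_map (resL T' h) (resL T h) (secMap s (X.basicOpen h)) (fun x => ?_)
    (map_zero _) (fun a y => ?_) hb
  · exact secMap_rsT s (X.basicOpen_le h) x
  · rw [Algebra.smul_def, Algebra.smul_def, map_mul]
    congr 1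
    exact secMap_str s _ _

theorem isBaseChange_of_isPushout {A B C D : Type u} [CommRing A] [CommRing B] [CommRing C]
    [CommRing D] [Algebra A B] [Algebra A C] [Algebra B D] [Algebra A D] [IsScalarTower A B D]
    (d : C →ₐ[A] D) (h : IsPushout (CommRingCat.ofHom (algebraMap A C))
      (CommRingCat.ofHom (algebraMap A B)) (CommRingCat.ofHom d.toRingHom)
      (CommRingCat.ofHom (algebraMap B D))) : IsBaseChange B d.toLinearMap := by
  let : Algebra C D := d.toRingHom.toAlgebra
  have : IsScalarTower A C D := .of_algebraMap_eq fun x => (d.commutes x).symm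
  have h1 : Algebra.IsPushout A C B D := CommRingCat.isPushout_iff_isPushout.mp h
  exact h1.symm.out

theorem isSat_of_algebraMap {A R : Type*} [CommRing A] [CommRing R] [Algebra A R] {ι : Type*}
    {h : ι → A} {M : Type*} [AddCommGroup M] [Module A M] [Module R M] [IsScalarTower A R M]
    (hM : IsSat (fun i => algebraMap A R (h i)) M) : IsSat h M := by
  refine ⟨fun m hm => hM.sep m fun i => ?_, fun k m hm => ?_⟩
  · obtain ⟨k, hk⟩ := hm i
    exact ⟨k, by rwa [← map_pow, algebraMap_smul]⟩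
  · have := hM.glue k m
    simp only [← map_pow, ← map_mul, algebraMap_smul] at this
    exact this hm

theorem mem_basicOpen_iff {V : X.Opens} (hV : IsAffineOpen V) {z : X} (hz : z ∈ V) (f : Γ(X, V)) :
    z ∈ X.basicOpen f ↔ f ∉ (hV.primeIdealOf ⟨z, hz⟩).asIdeal := by
  have h1 : hV.primeIdealOf ⟨z, hz⟩ ∈ hV.fromSpec ⁻¹ᵁ X.basicOpen f ↔
      f ∉ (hV.primeIdealOf ⟨z, hz⟩).asIdeal := by
    rw [hV.fromSpec_preimage_basicOpen]; rfl
  rw [← h1]
  change _ ↔ hV.fromSpec (hV.primeIdealOf ⟨z, hz⟩) ∈ X.basicOpen f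
  rw [hV.fromSpec_primeIdealOf]

theorem stalk_props {V : X.Opens} (hV : IsAffineOpen V) {U : X.Opens} {ι : Type*} (h : ι → Γ(X, V))
    (hh : U ⊓ V = ⨆ i, X.basicOpen (h i))
    (hZ : ∀ z : X, z ∉ U → IsRegularLocalRing (X.presheaf.stalk z) ∧
      (2 : WithBot ℕ∞) ≤ ringKrullDim (X.presheaf.stalk z))
    (q : Ideal Γ(X, V)) (hq : q.IsPrime) (hqh : ∀ i, h i ∈ q) :
    IsRegularLocalRing (Localization.AtPrime q) ∧ 2 ≤ ringKrullDim (Localization.AtPrime q) := by
  let y : PrimeSpectrum Γ(X, V) := ⟨q, hq⟩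
  have hxV : hV.fromSpec y ∈ V := by
    have : hV.fromSpec y ∈ Set.range hV.fromSpec := ⟨y, rfl⟩
    rwa [hV.range_fromSpec] at this
  have hxU : hV.fromSpec y ∉ U := by
    intro hxU
    have h1 : hV.fromSpec y ∈ U ⊓ V := ⟨hxU, hxV⟩
    rw [hh] at h1
    obtain ⟨i, hi⟩ := Opens.mem_iSup.mp h1
    have h2 : y ∈ hV.fromSpec ⁻¹ᵁ X.basicOpen (h i) := hi
    rw [hV.fromSpec_preimage_basicOpen] at h2
    exact h2 (hqh i)
  obtain ⟨h1, h2⟩ := hZ _ hxU
  let _ := TopCat.Presheaf.algebra_section_stalk X.presheaf ⟨_, hxV⟩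
  have hloc : IsLocalization.AtPrime (X.presheaf.stalk (hV.fromSpec y)) q :=
    hV.isLocalization_stalk' y hxV
  let e : X.presheaf.stalk (hV.fromSpec y) ≃+* Localization.AtPrime q :=
    (IsLocalization.algEquiv q.primeCompl (X.presheaf.stalk (hV.fromSpec y))
      (Localization.AtPrime q)).toRingEquiv
  exact ⟨IsRegularLocalRing.of_ringEquiv e, h2.trans_eq (ringKrullDim_eq_of_ringEquiv e)⟩

set_option backward.isDefEq.respectTransparency.types false in
theorem isAffineHom_tensor (G Q : Over X) [IsAffineHom G.hom] [IsAffineHom Q.hom] :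
    IsAffineHom (G ⊗ Q).hom := by
  have h : IsAffineHom (pullback.fst G.hom Q.hom) := MorphismProperty.pullback_fst _ _ inferInstance
  exact MorphismProperty.comp_mem @IsAffineHom (pullback.fst G.hom Q.hom) G.hom h inferInstance

theorem exists_torIso_sec (G Q : Over X) [IsAffineHom G.hom] [IsAffineHom Q.hom] {V : X.Opens}
    (hV : IsAffineOpen V) (U : X.Opens) [QuasiCompact U.ι] [OIso U.ι]
    [OIso (pullback.fst Q.hom U.ι)] (hfree : Module.Free Γ(X, V) (Sec G V))
    (hfin : Module.Finite Γ(X, V) (Sec G V))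
    (hQ : ∀ W : X.Opens, IsAffineOpen W → W ≤ U →
      (str Q W).Finite ∧ (str Q W).Flat ∧ (str Q W).FinitePresentation)
    (s : G ⊗ Q ⟶ Q ⊗ Q) (hs : s ≫ snd Q Q = snd G Q) (hsU : IsIso ((Over.pullback U.ι).map s))
    (hZ : ∀ z : X, z ∉ U → IsRegularLocalRing (X.presheaf.stalk z) ∧
      (2 : WithBot ℕ∞) ≤ ringKrullDim (X.presheaf.stalk z))
    (z : X) (hz : z ∈ V) (hzU : z ∉ U) :
    ∃ f : Γ(X, V), z ∈ X.basicOpen f ∧ ∃ (n : ℕ) (φ : (Fin n → Γ(X, V)) →ₗ[Γ(X, V)] Sec Q V),
      TorIso (.powers f) φ := by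
  obtain ⟨ι, _, h, hh⟩ := exists_finite_basicOpen hV (isCompact_inf U hV) inf_le_right
  have hhU (i) : X.basicOpen (h i) ≤ U :=
    (le_iSup (fun i => X.basicOpen (h i)) i).trans (hh.symm.le.trans inf_le_left)
  have hp := (hV.primeIdealOf ⟨z, hz⟩).isPrime
  have : Nontrivial Γ(X, V) := ⟨⟨0, 1, fun h01 => hp.ne_top ((Ideal.eq_top_iff_one _).mpr
    (h01 ▸ Ideal.zero_mem _))⟩⟩
  have hzh (i) : h i ∈ (hV.primeIdealOf ⟨z, hz⟩).asIdeal := by
    by_contra hcon
    exact hzU (hhU i ((mem_basicOpen_iff hV hz (h i)).mpr hcon))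
  have : IsAffineHom (G ⊗ Q).hom := isAffineHom_tensor G Q
  have : IsAffineHom (Q ⊗ Q).hom := isAffineHom_tensor Q Q
  let p := (hV.primeIdealOf ⟨z, hz⟩).asIdeal
  -- the local rings
  have hstalk := stalk_props hV h hh hZ
  -- saturation
  have hA : IsSat h Γ(X, V) := isSat_of_bijective hV h hh inf_le_right
    (bijective_res_of_oIso U.ι V (U ⊓ V) inf_le_right (by
      rw [Scheme.Opens.opensRange_ι]; exact le_of_eq (inf_comm _ _)))
  have hB : IsSat h (Sec Q V) := by
    refine isSat_of_algebraMap (R := Sec Q V) (isSat_of_bijective (hV.preimage Q.hom)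
      (fun i => str Q V (h i)) (W := Q.hom ⁻¹ᵁ (U ⊓ V)) ?_ (Q.hom.preimage_mono inf_le_right)
      (bijective_res_of_oIso (pullback.fst Q.hom U.ι) _ _ _ ?_))
    · rw [hh, Scheme.Hom.preimage_iSup]
      exact iSup_congr fun i => Scheme.preimage_basicOpen Q.hom (h i)
    · rw [Scheme.Hom.opensRange_pullbackFst, Scheme.Opens.opensRange_ι]
      exact fun x hx => ⟨hx.2, hx.1⟩
  -- the shear map
  let B := Sec Q V
  let C := Sec G V
  let D := Sec (G ⊗ Q) V
  let E := Sec (Q ⊗ Q) V
  let iBD : Algebra B D := (secMap (snd G Q) V).toAlgebra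
  let iBE : Algebra B E := (secMap (snd Q Q) V).toAlgebra
  have hBD : IsScalarTower Γ(X, V) B D := .of_algebraMap_eq fun x => (secMap_str _ V x).symm
  have hBE : IsScalarTower Γ(X, V) B E := .of_algebraMap_eq fun x => (secMap_str _ V x).symm
  have he : IsBaseChange B (secHom (fst Q Q) V).toLinearMap :=
    isBaseChange_of_isPushout _ (isPushout_sec Q Q hV)
  have hd : IsBaseChange B (secHom (fst G Q) V).toLinearMap :=
    isBaseChange_of_isPushout _ (isPushout_sec G Q hV)
  let σ : E →ₗ[B] D := 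
    { toFun := secMap s V
      map_add' := map_add _
      map_smul' := fun b x => by
        rw [Algebra.smul_def, Algebra.smul_def, map_mul]
        congr 1
        change secMap s V (secMap (snd Q Q) V b) = secMap (snd G Q) V b
        rw [← secMap_comp, hs] }
  obtain ⟨ρ, hρ⟩ := K550.ShearAlg.exists_rho (secHom (fst Q Q) V).toLinearMap he
    (secHom (fst G Q) V).toLinearMap hd (Module.finBasis Γ(X, V) (Sec G V)) σ
  have hρ' : ∀ i, TorIso (.powers (h i)) ((ρ.liftBaseChange B).restrictScalars Γ(X, V)) :=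
    fun i => hρ _ (torIso_secHom s hV (h i) (bijective_secMap s U hsU (hhU i)))
  have hloc (i) : IsLocalization.Away (h i) Γ(X, X.basicOpen (h i)) :=
    hV.isLocalization_basicOpen (h i)
  have hloc' (i) := isLocalizedModule_resL Q hV (h i)
  have hfp (i) : Module.FinitePresentation Γ(X, X.basicOpen (h i)) (Sec Q (X.basicOpen (h i))) := by
    obtain ⟨h1, -, h3⟩ := hQ _ (hV.basicOpen (h i)) (hhU i)
    have h4 : Module.Finite Γ(X, X.basicOpen (h i)) (Sec Q (X.basicOpen (h i))) := h1
    have h5 : Algebra.FinitePresentation Γ(X, X.basicOpen (h i)) (Sec Q (X.basicOpen (h i))) := h3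
    exact Module.FinitePresentation.of_finite_of_finitePresentation _ _
  have hfl (i) : Module.Flat Γ(X, X.basicOpen (h i)) (Sec Q (X.basicOpen (h i))) :=
    (hQ _ (hV.basicOpen (h i)) (hhU i)).2.1
  have hreg : IsRegularLocalRing (Localization.AtPrime p) := (hstalk p hp hzh).1
  obtain ⟨f, hf, n, φ, hφ⟩ := K550.AffMain.exists_torIso h p (fun q hq hqh => (hstalk q hq hqh).2)
    hA hB (fun i => Γ(X, X.basicOpen (h i))) (fun i => Sec Q (X.basicOpen (h i)))
    (fun i => resL Q (h i)) ρ hρ'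
  exact ⟨f, (mem_basicOpen_iff hV hz f).mpr hf, n, φ, hφ⟩

end K550.LocFree
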