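import Groth.Agent.NonAbH1.K550.RegDepth

/-!
# Lowering the projective dimension by the vanishing of `Ext^s(N, R)`
-/

set_option autoImplicit false
universe u

open CategoryTheory Abelian IsLocalRing

namespace K550.PDDown

open Groth.Agent.CalgA Groth.Agent.CalgA.RegProjDim K550.ExtLen K550.RegDepth

variable {R : Type u} [CommRing R]

theorem projective_of_ext_one [IsLocalRing R] [IsNoetherianRing R] (N : Type u) [AddCommGroup N]
    [Module R N] [Module.Finite R N] (h : PD R N 2) (h1 : Subsingleton (X R N 1)) :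
    Module.Projective R N := by
  classical
  obtain ⟨F, _, _, _, _, g, hg⟩ := exists_finite_free_cover R N
  have hex : Function.Exact (LinearMap.ker g).subtype g := LinearMap.exact_subtype_ker_map g
  have hinj := (LinearMap.ker g).injective_subtype
  have hK : PD R (LinearMap.ker g) 1 := (PD.ses_iff _ g hinj hex hg 0).mp h
  have := PD.one_iff.mp hK
  obtain ⟨c, ⟨ε⟩⟩ := RegAB.exists_equiv_pi (R := R) (LinearMap.ker g)
  have key : ∀ l : LinearMap.ker g →ₗ[R] R, ∃ l' : F →ₗ[R] R,
      ∀ v : LinearMap.ker g, l' v = l v := by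
    intro l
    let y : X R (LinearMap.ker g) 0 := Ext.mk₀ (ModuleCat.ofHom l)
    have hy : δ (LinearMap.ker g).subtype g hinj hex hg 0 y = 0 :=
      Subsingleton.elim (α := X R N 1) _ _
    obtain ⟨z, hz⟩ := (exact₁ (LinearMap.ker g).subtype g hinj hex hg 0 y).mp hy
    obtain ⟨f, rfl⟩ := (Ext.mk₀_bijective _ _).2 z
    refine ⟨f.hom, fun v => ?_⟩
    have h3 : Ext.mk₀ (ModuleCat.ofHom (LinearMap.ker g).subtype ≫ f) =
        Ext.mk₀ (ModuleCat.ofHom l) := by
      rw [← Ext.mk₀_comp_mk₀]
      exact hz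
    have h4 := (Ext.mk₀_bijective _ _).1 h3
    exact congr($(h4).hom v)
  choose l' hl' using fun i : Fin c => key (LinearMap.proj i ∘ₗ ε.toLinearMap)
  let ρ : F →ₗ[R] LinearMap.ker g := ε.symm.toLinearMap ∘ₗ LinearMap.pi l'
  have hρ : ∀ v : LinearMap.ker g, ρ v = v := by
    intro v
    apply ε.injective
    simp only [ρ, LinearMap.comp_apply, LinearEquiv.coe_coe, LinearEquiv.apply_symm_apply]
    funext i
    exact hl' i v
  let τ : F →ₗ[R] F := LinearMap.id - (LinearMap.ker g).subtype ∘ₗ ρ
  have hτ : LinearMap.ker g ≤ LinearMap.ker τ := by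
    intro v hv
    have h5 : ((ρ v : LinearMap.ker g) : F) = v := congrArg Subtype.val (hρ ⟨v, hv⟩)
    rw [LinearMap.mem_ker]
    change v - ((ρ v : LinearMap.ker g) : F) = 0
    rw [h5, sub_self]
  let i : N →ₗ[R] F := (LinearMap.ker g).liftQ τ hτ ∘ₗ (g.quotKerEquivOfSurjective hg).symm
  refine Module.Projective.of_split i g ?_
  ext n
  obtain ⟨v, rfl⟩ := hg n
  have h6 : (g.quotKerEquivOfSurjective hg).symm (g v) = Submodule.Quotient.mk v := by
    rw [LinearEquiv.symm_apply_eq]
    rfl
  change g ((LinearMap.ker g).liftQ τ hτ ((g.quotKerEquivOfSurjective hg).symm (g v))) = g v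
  rw [h6]
  change g (v - ((ρ v : LinearMap.ker g) : F)) = g v
  rw [map_sub, (ρ v).2, sub_zero]

/-- if `pd N ≤ s`, `1 ≤ s` and `Ext^s(N, R) = 0` then `pd N ≤ s - 1`. -/
theorem PD_down [IsLocalRing R] [IsNoetherianRing R] (s : ℕ) : ∀ (N : Type u) [AddCommGroup N]
    [Module R N] [Module.Finite R N], PD R N (s + 2) → Subsingleton (X R N (1 + s)) →
      PD R N (s + 1) := by
  induction s with
  | zero =>
    intro N _ _ _ h h1
    exact PD.one_iff.mpr (projective_of_ext_one N h h1)
  | succ s ih =>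
    intro N _ _ _ h h1
    obtain ⟨F, _, _, _, _, g, hg⟩ := exists_finite_free_cover R N
    have hex : Function.Exact (LinearMap.ker g).subtype g := LinearMap.exact_subtype_ker_map g
    have hinj := (LinearMap.ker g).injective_subtype
    have hK : PD R (LinearMap.ker g) (s + 2) := (PD.ses_iff _ g hinj hex hg _).mp h
    refine (PD.ses_iff _ g hinj hex hg _).mpr (ih _ hK ?_)
    have hF : Subsingleton (X R F (1 + s)) := subsingleton_X_of_PD F
      (PD.of_projective (n := 1) le_rfl) (by omega)
    have h1' : Subsingleton (X R N (1 + (1 + s))) := by rwa [add_comm 1 s]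
    refine ⟨fun y z => ?_⟩
    rw [← sub_eq_zero]
    obtain ⟨w, hw⟩ := (exact₁ (LinearMap.ker g).subtype g hinj hex hg (1 + s) (y - z)).mp
      (Subsingleton.elim _ _)
    rw [← hw, Subsingleton.elim w 0, map_zero]

/-- multiplication by an element of the splitting ideal of a free cover kills `Ext^i(N, R)`. -/
theorem smul_X_eq_zero {F N : Type u} [AddCommGroup F] [Module R F] [AddCommGroup N]
    [Module R N] [Module.Projective R F] (π : F →ₗ[R] N) (σ : N →ₗ[R] F) (s : R)
    (h : ∀ n, π (σ n) = s • n) (i : ℕ) (hi : 1 ≤ i) (y : X R N i) : s • y = 0 := by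
  have hF : Subsingleton (X R F i) := subsingleton_X_of_PD F
      (PD.of_projective (n := 1) le_rfl) hi
  have h1 : π ∘ₗ σ = s • LinearMap.id := LinearMap.ext h
  rw [← pull_smul_id s i y, ← h1, pull_comp, Subsingleton.elim (pull π i y) 0, map_zero]

end K550.PDDown
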