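import Groth.Agent.NonAbH1.K550.RegPairs
import Groth.Agent.CalgA.RegProjDim
import Mathlib.RingTheory.Flat.EquationalCriterion
import Mathlib.RingTheory.Finiteness.Ideal
import Mathlib.Algebra.Module.LocalizedModule.IsLocalization
import Mathlib.RingTheory.Regular.Flat
import Mathlib.RingTheory.Flat.TorsionFree

/-!
# Saturated modules: modules equal to their sections over `⋃ D(h i)`
-/

set_option autoImplicit false

namespace K550.SatMod

open Groth.Agent.Divis.DepthTwo

variable {A : Type*} [CommRing A] {ι : Type*} (h : ι → A)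

/-- `M` is the module of sections over `⋃ D(h i)`, in elementary terms. -/
structure IsSat (M : Type*) [AddCommGroup M] [Module A M] : Prop where
  sep : ∀ m : M, (∀ i, ∃ k : ℕ, h i ^ k • m = 0) → m = 0
  glue : ∀ (k : ℕ) (m : ι → M),
    (∀ i j, ∃ l : ℕ, (h i * h j) ^ l • (h j ^ k • m i - h i ^ k • m j) = 0) →
      ∃ m₀ : M, ∀ i, ∃ l : ℕ, h i ^ l • (h i ^ k • m₀ - m i) = 0

variable {h} {M M' : Type*} [AddCommGroup M] [Module A M] [AddCommGroup M'] [Module A M']

lemma smul_pow_eq_zero_of_le {a : A} {m : M} {k l : ℕ} (hkl : k ≤ l) (hm : a ^ k • m = 0) :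
    a ^ l • m = 0 := by
  obtain ⟨c, rfl⟩ := Nat.exists_eq_add_of_le hkl
  rw [pow_add, mul_comm, mul_smul, hm, smul_zero]

theorem IsSat.pi {κ : Type*} [Finite κ] (hM : IsSat h M) : IsSat h (κ → M) := by
  classical
  have := Fintype.ofFinite κ
  refine ⟨fun m hm => ?_, fun k m hm => ?_⟩
  · funext c
    refine hM.sep _ fun i => ?_
    obtain ⟨l, hl⟩ := hm i
    exact ⟨l, congrFun hl c⟩
  · have key : ∀ c, ∃ m₀ : M, ∀ i, ∃ l : ℕ, h i ^ l • (h i ^ k • m₀ - m i c) = 0 := fun c =>
      hM.glue k (fun i => m i c) fun i j => by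
        obtain ⟨l, hl⟩ := hm i j
        exact ⟨l, congrFun hl c⟩
    choose m₀ hm₀ using key
    choose l hl using hm₀
    refine ⟨m₀, fun i => ⟨Finset.univ.sup fun c => l c i, ?_⟩⟩
    funext c
    exact smul_pow_eq_zero_of_le (Finset.le_sup (f := fun c => l c i) (Finset.mem_univ c)) (hl c i)

theorem IsSat.localize [Finite ι] (S : Submonoid A) (f : M →ₗ[A] M') [IsLocalizedModule S f]
    (hM : IsSat h M) : IsSat h M' := by
  classical
  have := Fintype.ofFinite ι
  have hunit : ∀ (s : S) (m : M'), s • m = 0 → m = 0 := by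
    intro s m hm
    exact IsLocalizedModule.smul_injective f s (by simpa using hm)
  have ker : ∀ m : M, f m = 0 → ∃ s : S, s • m = 0 := fun m hm =>
    (IsLocalizedModule.eq_zero_iff S f).mp hm
  refine ⟨fun m hm => ?_, fun k m hm => ?_⟩
  · obtain ⟨⟨m, s⟩, hs⟩ := IsLocalizedModule.surj S f m
    simp only at hs
    choose l hl using hm
    have h1 : ∀ i, ∃ t : S, t • (h i ^ l i • m) = 0 := fun i => ker _ (by
      rw [map_smul, ← hs, smul_comm, hl, smul_zero])
    choose t ht using h1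
    have h2 : (∏ i, t i) • m = 0 := hM.sep _ fun i => ⟨l i, by
      rw [smul_comm, ← Finset.prod_erase_mul _ _ (Finset.mem_univ i), mul_smul, ht, smul_zero]⟩
    apply hunit s
    rw [hs]
    apply hunit (∏ i, t i)
    rw [Submonoid.smul_def, ← map_smul, ← Submonoid.smul_def, h2, map_zero]
  · obtain ⟨s, hs⟩ := IsLocalizedModule.exist_integer_multiples_of_finite S f m
    choose n hn using hs
    have h1 : ∀ i j, ∃ (l : ℕ) (t : S), t • ((h i * h j) ^ l • (h j ^ k • n i - h i ^ k • n j)) = 0 := by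
      intro i j
      obtain ⟨l, hl⟩ := hm i j
      obtain ⟨t, ht⟩ := ker ((h i * h j) ^ l • (h j ^ k • n i - h i ^ k • n j)) (by
        rw [map_smul, map_sub, map_smul, map_smul, hn, hn, smul_comm _ (s : A), smul_comm _ (s : A),
          ← smul_sub, smul_comm, hl, smul_zero])
      exact ⟨l, t, ht⟩
    choose l t ht using h1
    let T : S := ∏ q : ι × ι, t q.1 q.2
    have hT : ∀ i j, (T : A) • ((h i * h j) ^ l i j • (h j ^ k • n i - h i ^ k • n j)) = 0 := by
      intro i j
      have h2 : T = (∏ q ∈ Finset.univ.erase (i, j), t q.1 q.2) * t i j :=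
        (Finset.prod_erase_mul _ _ (Finset.mem_univ (i, j))).symm
      rw [h2, Submonoid.coe_mul, mul_smul, ← Submonoid.smul_def (t i j), ht, smul_zero]
    obtain ⟨n₀, hn₀⟩ := hM.glue k (fun i => (T : A) • n i) fun i j => ⟨l i j, by
      rw [smul_comm _ (T : A), smul_comm _ (T : A), ← smul_sub, smul_comm, hT]⟩
    obtain ⟨m₀, hm₀⟩ := ((Module.End.isUnit_iff _).mp
      (IsLocalizedModule.map_units f (T * s))).2 (f n₀)
    have hm₀' : ((T : A) * (s : A)) • m₀ = f n₀ := hm₀
    refine ⟨m₀, fun i => ?_⟩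
    obtain ⟨l', hl'⟩ := hn₀ i
    refine ⟨l', hunit (T * s) _ ?_⟩
    have h3 := congrArg f hl'
    have h4 : (T * s) • (h i ^ l' • (h i ^ k • m₀ - m i)) =
        h i ^ l' • (h i ^ k • f n₀ - (T : A) • (s : A) • m i) := by
      rw [Submonoid.smul_def, Submonoid.coe_mul, smul_comm _ (h i ^ l'), smul_sub, smul_comm _ (h i ^ k),
        hm₀', mul_smul]
    rw [map_zero, map_smul, map_sub, map_smul, map_smul, hn] at h3
    rw [h4, h3]

/-- If each `h i` has a power which lies in `{r | r • m ∈ P}`, then so does each element of the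
ideal generated by the `h i`. -/
theorem exists_pow_smul_mem [Finite ι] (J : Ideal A) (hJ : ∀ i, ∃ k : ℕ, h i ^ k ∈ J) {f : A}
    (hf : f ∈ Ideal.span (Set.range h)) : ∃ k : ℕ, f ^ k ∈ J := by
  have h1 : Ideal.span (Set.range h) ≤ J.radical := by
    rw [Ideal.span_le]
    rintro _ ⟨i, rfl⟩
    exact hJ i
  exact h1 hf

theorem exists_pow_smul_mem' [Finite ι] (P : Submodule A M) (m : M)
    (hP : ∀ i, ∃ k : ℕ, h i ^ k • m ∈ P) {f : A} (hf : f ∈ Ideal.span (Set.range h)) :
    ∃ k : ℕ, f ^ k • m ∈ P :=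
  exists_pow_smul_mem (P.comap (LinearMap.toSpanSingleton A M m)) hP hf

section flat

variable (hM : IsSat h M) (N : ι → Type*) [∀ i, AddCommGroup (N i)] [∀ i, Module A (N i)]
  (l : ∀ i, M →ₗ[A] N i) [∀ i, IsLocalizedModule (.powers (h i)) (l i)] [∀ i, Module.Flat A (N i)]

include hM l in
theorem eq_zero_of_smul_eq_zero {s : A} (hs : IsSMulRegular A s) (m : M) (hm : s • m = 0) :
    m = 0 := by
  refine hM.sep m fun i => ?_
  have h1 : IsSMulRegular (N i) s := Groth.Agent.CalgA.RegProjDim.isSMulRegular_flat s hs _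
  have h2 : l i m = 0 := h1 (by simp only [smul_zero]; rw [← map_smul, hm, map_zero])
  obtain ⟨⟨_, k, rfl⟩, hk⟩ := (IsLocalizedModule.eq_zero_iff (.powers (h i)) (l i)).mp h2
  exact ⟨k, hk⟩

theorem regPair_of_flat {P : Type*} [AddCommGroup P] [Module A P] [Module.Flat A P] {f g : A}
    (hfg : RegPair f g A) : RegPair f g P := by
  refine ⟨fun x hx => ?_, fun x y hxy => ?_⟩
  · have h1 : IsSMulRegular A f := (isSMulRegular_iff_right_eq_zero_of_smul).mpr hfg.inj
    exact Groth.Agent.CalgA.RegProjDim.isSMulRegular_flat f h1 P (by simpa using hx)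
  · obtain ⟨k, a, p, hp, ha⟩ := Module.Flat.isTrivialRelation_of_sum_smul_eq_zero (R := A) (M := P)
      (f := ![g, -f]) (x := ![x, y]) (by simp [hxy])
    have h2 : ∀ j, ∃ z, a 0 j = f • z := fun j => hfg.div (a 0 j) (a 1 j) (by
      have := ha j
      simp only [Fin.sum_univ_two, Matrix.cons_val_zero, Matrix.cons_val_one] at this
      simp only [smul_eq_mul]
      linear_combination this)
    choose z hz using h2
    refine ⟨∑ j, z j • p j, ?_⟩
    have h3 := hp 0
    simp only [Matrix.cons_val_zero] at h3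
    rw [h3, Finset.smul_sum]
    exact Finset.sum_congr rfl fun j _ => by rw [hz, smul_smul, smul_eq_mul]

include hM l in
theorem IsSat.regPair [Finite ι] {f g : A} (hfg : RegPair f g A) : RegPair f g M := by
  have hf : IsSMulRegular A f := (isSMulRegular_iff_right_eq_zero_of_smul).mpr hfg.inj
  refine ⟨fun x hx => eq_zero_of_smul_eq_zero hM N l hf x hx, fun x y hxy => ?_⟩
  have h1 : ∀ i, ∃ (z : M) (k : ℕ), h i ^ k • x = f • z := by
    intro i
    have h2 : RegPair f g (N i) := regPair_of_flat hfg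
    obtain ⟨z, hz⟩ := h2.div (l i x) (l i y) (by rw [← map_smul, hxy, map_smul])
    obtain ⟨⟨z', ⟨_, k, rfl⟩⟩, hz'⟩ := IsLocalizedModule.surj (.powers (h i)) (l i) z
    have h3 : l i (h i ^ k • x - f • z') = 0 := by
      rw [map_sub, map_smul, map_smul, hz, ← hz', Submonoid.smul_def, smul_comm, sub_self]
    obtain ⟨⟨_, k', rfl⟩, hk'⟩ := (IsLocalizedModule.eq_zero_iff (.powers (h i)) (l i)).mp h3
    refine ⟨h i ^ k' • z', k' + k, ?_⟩
    have h4 : h i ^ k' • (h i ^ k • x - f • z') = 0 := hk'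
    rw [smul_sub, sub_eq_zero, smul_smul, ← pow_add] at h4
    rw [h4, smul_comm]
  choose z k hz using h1
  have := Fintype.ofFinite ι
  let K := Finset.univ.sup k
  have hK : ∀ i, k i ≤ K := fun i => Finset.le_sup (Finset.mem_univ i)
  have hz' : ∀ i, h i ^ K • x = f • (h i ^ (K - k i) • z i) := fun i => by
    rw [smul_comm, ← hz, smul_smul, ← pow_add, Nat.sub_add_cancel (hK i)]
  obtain ⟨m₀, hm₀⟩ := hM.glue K (fun i => h i ^ (K - k i) • z i) fun i j => ⟨0, by
    rw [pow_zero, one_smul]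
    apply eq_zero_of_smul_eq_zero hM N l hf
    rw [smul_sub, smul_comm f (h j ^ K), smul_comm f (h i ^ K), ← hz', ← hz', smul_comm, sub_self]⟩
  refine ⟨m₀, sub_eq_zero.mp (hM.sep _ fun i => ?_)⟩
  obtain ⟨l', hl'⟩ := hm₀ i
  refine ⟨l' + K, ?_⟩
  rw [pow_add, mul_smul, smul_sub, hz', smul_comm _ f m₀, ← smul_sub, smul_comm _ f, ← neg_sub,
    smul_neg, hl', neg_zero, smul_zero]

end flat

end K550.SatMod
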