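import Groth.Agent.NonAbH1.K550.SecLoc
import Mathlib.CategoryTheory.Monoidal.Cartesian.Over

/-!
# Sections of schemes affine over a base
-/

set_option autoImplicit false
universe u

open CategoryTheory CategoryTheory.Limits AlgebraicGeometry TopologicalSpace Opposite MonoidalCategory
  CartesianMonoidalCategory

namespace K550.SecT

open K550.SecLoc

variable {X : Scheme.{u}}

/-- sections of `T` over `V` -/
abbrev Sec (T : Over X) (V : X.Opens) : Type u := Γ(T.left, T.hom ⁻¹ᵁ V)

/-- the structure map -/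
noncomputable def str (T : Over X) (V : X.Opens) : Γ(X, V) →+* Sec T V := (T.hom.app V).hom

/-- restriction -/
noncomputable def rsT (T : Over X) {V W : X.Opens} (h : W ≤ V) : Sec T V →+* Sec T W :=
  rs (T.hom.preimage_mono h)

lemma rsT_str (T : Over X) {V W : X.Opens} (h : W ≤ V) (x : Γ(X, V)) :
    rsT T h (str T V x) = str T W (rs h x) := by
  unfold rsT str rs
  rw [← ConcreteCategory.comp_apply, ← ConcreteCategory.comp_apply]
  congr 2
  exact (T.hom.naturality (homOfLE h).op).symm

lemma preimage_eq {T T' : Over X} (f : T ⟶ T') (V : X.Opens) :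
    f.left ⁻¹ᵁ (T'.hom ⁻¹ᵁ V) = T.hom ⁻¹ᵁ V := by
  rw [← Scheme.Hom.comp_preimage, Over.w]

/-- pullback of sections -/
noncomputable def secMap {T T' : Over X} (f : T ⟶ T') (V : X.Opens) : Sec T' V →+* Sec T V :=
  (f.left.appLE (T'.hom ⁻¹ᵁ V) (T.hom ⁻¹ᵁ V) (preimage_eq f V).ge).hom

lemma secMap_comp {T T' T'' : Over X} (f : T ⟶ T') (g : T' ⟶ T'') (V : X.Opens) (x : Sec T'' V) :
    secMap (f ≫ g) V x = secMap f V (secMap g V x) := by
  unfold secMap
  rw [← ConcreteCategory.comp_apply, Scheme.Hom.appLE_comp_appLE]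
  rfl

lemma secMap_str {T T' : Over X} (f : T ⟶ T') (V : X.Opens) (x : Γ(X, V)) :
    secMap f V (str T' V x) = str T V x := by
  unfold secMap str
  rw [← ConcreteCategory.comp_apply]
  congr 2
  rw [Scheme.Hom.app_eq_appLE, Scheme.Hom.appLE_comp_appLE]
  simp only [Over.w, Scheme.Hom.appLE_eq_app]

lemma secMap_rsT {T T' : Over X} (f : T ⟶ T') {V W : X.Opens} (h : W ≤ V) (x : Sec T' V) :
    secMap f W (rsT T' h x) = rsT T h (secMap f V x) := by
  unfold secMap rsT rs
  rw [← ConcreteCategory.comp_apply, ← ConcreteCategory.comp_apply]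
  congr 2
  rw [Scheme.Hom.map_appLE, Scheme.Hom.appLE_map]

/-- the sections of a fibre product -/
theorem isPushout_sec (T T' : Over X) [IsAffineHom T.hom] [IsAffineHom T'.hom] {V : X.Opens}
    (hV : IsAffineOpen V) :
    IsPushout (CommRingCat.ofHom (str T V)) (CommRingCat.ofHom (str T' V))
      (CommRingCat.ofHom (secMap (fst T T') V)) (CommRingCat.ofHom (secMap (snd T T') V)) := by
  have H : IsPullback (fst T T').left (snd T T').left T.hom T'.hom :=
    IsPullback.of_hasPullback T.hom T'.hom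
  have h1 := (isIso_pushoutSection_iff H (US := V) (UT := T'.hom ⁻¹ᵁ V) (UX := T.hom ⁻¹ᵁ V)
    (UY := (T ⊗ T').hom ⁻¹ᵁ V) le_rfl le_rfl (by rw [preimage_eq, preimage_eq, inf_idem])).mp
    (isIso_pushoutSection_of_isAffineOpen H le_rfl le_rfl (by rw [preimage_eq, preimage_eq, inf_idem])
      hV (hV.preimage _) (hV.preimage _))
  rw [← Scheme.Hom.app_eq_appLE, ← Scheme.Hom.app_eq_appLE] at h1
  exact h1

/-- localization of sections -/
theorem isLocalization_away (T : Over X) [IsAffineHom T.hom] {V : X.Opens} (hV : IsAffineOpen V)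
    (h : Γ(X, V)) : letI := (rsT T (X.basicOpen_le h)).toAlgebra
      IsLocalization.Away (str T V h) (Sec T (X.basicOpen h)) := by
  refine (hV.preimage T.hom).isLocalization_of_eq_basicOpen (T.hom.app V h)
    (homOfLE (T.hom.preimage_mono (X.basicOpen_le h))) ?_
  exact Scheme.preimage_basicOpen T.hom h

end K550.SecT
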