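import Groth.Agent.NonAbH1.K550.TorIso
import Groth.Agent.Desc.AffineHull
import Mathlib.AlgebraicGeometry.Morphisms.Flat

/-!
# Saturated rings of sections
-/

set_option autoImplicit false
universe u

open CategoryTheory CategoryTheory.Limits AlgebraicGeometry TopologicalSpace Opposite

namespace K550.SecLoc

open K550.SatMod Groth.Agent.Desc.AffineHull

/-- sections extend uniquely along an open immersion with `O ≅ j_* O` -/
theorem bijective_res_of_oIso {Y Y' : Scheme.{u}} (j : Y' ⟶ Y) [IsOpenImmersion j] [OIso j]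
    (V W : Y.Opens) (hW : W ≤ V) (hVW : V ⊓ j.opensRange ≤ W) :
    Function.Bijective (Y.presheaf.map (homOfLE hW).op) := by
  have h1 : IsIso (j.app V) := OIso.isIso_app V
  have h2 : IsIso (j.app W) := OIso.isIso_app W
  have hop : j ⁻¹ᵁ W = j ⁻¹ᵁ V := by
    apply le_antisymm
    · exact j.preimage_mono hW
    · intro x hx
      exact hVW ⟨hx, ⟨x, rfl⟩⟩
  have key : Y.presheaf.map (homOfLE hW).op ≫ j.app W =
      j.app V ≫ Y'.presheaf.map (eqToHom hop).op := by
    rw [Scheme.Hom.naturality]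
    rfl
  have h3 : IsIso (Y.presheaf.map (homOfLE hW).op ≫ j.app W) := by rw [key]; infer_instance
  have h4 : IsIso (Y.presheaf.map (homOfLE hW).op) := IsIso.of_isIso_comp_right _ (j.app W)
  exact ConcreteCategory.bijective_of_isIso _

/-- restriction of sections -/
noncomputable def rs {Y : Scheme.{u}} {V W : Y.Opens} (h : W ≤ V) : Γ(Y, V) →+* Γ(Y, W) :=
  (Y.presheaf.map (homOfLE h).op).hom

lemma rs_rs {Y : Scheme.{u}} {V W W' : Y.Opens} (h : W ≤ V) (h' : W' ≤ W) (x : Γ(Y, V)) :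
    rs h' (rs h x) = rs (h'.trans h) x := by
  unfold rs
  rw [← ConcreteCategory.comp_apply, ← Functor.map_comp]
  rfl

lemma eq_of_rs {Y : Scheme.{u}} {ι : Type*} {V : Y.Opens} {W : ι → Y.Opens} (hW : ∀ i, W i ≤ V)
    (hcov : V ≤ iSup W) {x y : Γ(Y, V)} (h : ∀ i, rs (hW i) x = rs (hW i) y) : x = y :=
  Y.sheaf.eq_of_locally_eq' W V (fun i => homOfLE (hW i)) hcov x y h

lemma exists_glue {Y : Scheme.{u}} {ι : Type*} {V : Y.Opens} {W : ι → Y.Opens} (hW : ∀ i, W i ≤ V)
    (hcov : V ≤ iSup W) (s : ∀ i, Γ(Y, W i))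
    (h : ∀ i j, rs (inf_le_left : W i ⊓ W j ≤ W i) (s i) =
      rs (inf_le_right : W i ⊓ W j ≤ W j) (s j)) :
    ∃ x : Γ(Y, V), ∀ i, rs (hW i) x = s i := by
  obtain ⟨x, hx, -⟩ := Y.sheaf.existsUnique_gluing' W V (fun i => homOfLE (hW i)) hcov s
    (fun i j => h i j)
  exact ⟨x, hx⟩

theorem isSat_of_bijective {Y : Scheme.{u}} {V : Y.Opens} (hV : IsAffineOpen V) {ι : Type*}
    (h : ι → Γ(Y, V)) {W : Y.Opens} (hW : W = ⨆ i, Y.basicOpen (h i)) (hWV : W ≤ V)
    (hb : Function.Bijective (rs hWV)) : IsSat h Γ(Y, V) := by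
  subst hW
  have hloc (i) : IsLocalization.Away (h i) Γ(Y, Y.basicOpen (h i)) :=
    hV.isLocalization_basicOpen (h i)
  have halg (i) (x : Γ(Y, V)) : algebraMap Γ(Y, V) Γ(Y, Y.basicOpen (h i)) x =
    rs (Y.basicOpen_le (h i)) x := rfl
  have hle (i) : Y.basicOpen (h i) ≤ ⨆ i, Y.basicOpen (h i) := le_iSup (fun i => Y.basicOpen (h i)) i
  have hu (i) : IsUnit (rs (Y.basicOpen_le (h i)) (h i)) :=
    Y.toRingedSpace.isUnit_res_basicOpen (h i)
  refine ⟨fun m hm => ?_, fun k m hm => ?_⟩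
  · apply hb.1
    rw [map_zero]
    refine eq_of_rs hle le_rfl fun i => ?_
    rw [rs_rs, map_zero]
    obtain ⟨k, hk⟩ := hm i
    have h1 := congrArg (rs (Y.basicOpen_le (h i))) hk
    rw [smul_eq_mul, map_mul, map_pow, map_zero] at h1
    exact ((hu i).pow k).mul_right_eq_zero.mp h1
  · choose v hv using hu
    have hv' (i) : (v i : Γ(Y, Y.basicOpen (h i))) = rs (Y.basicOpen_le (h i)) (h i) := hv i
    let t : ∀ i, Γ(Y, Y.basicOpen (h i)) := fun i =>
      (↑(v i ^ k)⁻¹ : Γ(Y, Y.basicOpen (h i))) * rs (Y.basicOpen_le (h i)) (m i)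
    have ht (i) : rs (Y.basicOpen_le (h i)) (h i) ^ k * t i = rs (Y.basicOpen_le (h i)) (m i) := by
      rw [← hv', ← Units.val_pow_eq_pow_val, Units.mul_inv_cancel_left]
    obtain ⟨x, hx⟩ := exists_glue hle le_rfl t fun i j => by
      obtain ⟨l, hl⟩ := hm i j
      have hD : Y.basicOpen (h i) ⊓ Y.basicOpen (h j) ≤ V := inf_le_left.trans (Y.basicOpen_le _)
      have hui : IsUnit (rs hD (h i)) := by
        rw [← rs_rs (Y.basicOpen_le (h i)) inf_le_left, ← hv']
        exact (v i).isUnit.map _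
      have huj : IsUnit (rs hD (h j)) := by
        rw [← rs_rs (Y.basicOpen_le (h j)) inf_le_right, ← hv']
        exact (v j).isUnit.map _
      have h1 := congrArg (rs hD) hl
      simp only [smul_eq_mul, map_mul, map_pow, map_sub, map_zero] at h1
      have h2 := ((hui.mul huj).pow l).mul_right_eq_zero.mp h1
      have hi := congrArg (rs (inf_le_left : Y.basicOpen (h i) ⊓ Y.basicOpen (h j) ≤ _)) (ht i)
      have hj := congrArg (rs (inf_le_right : Y.basicOpen (h i) ⊓ Y.basicOpen (h j) ≤ _)) (ht j)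
      rw [map_mul, map_pow, rs_rs, rs_rs] at hi hj
      rw [← hi, ← hj] at h2
      apply ((hui.pow k).mul (huj.pow k)).mul_left_cancel
      linear_combination h2
    obtain ⟨m₀, hm₀⟩ := hb.2 x
    refine ⟨m₀, fun i => ?_⟩
    have h3 : rs (Y.basicOpen_le (h i)) (h i ^ k • m₀ - m i) = 0 := by
      rw [map_sub, smul_eq_mul, map_mul, map_pow, ← ht, ← hx i, ← hm₀, rs_rs, sub_self]
    obtain ⟨⟨_, l, rfl⟩, hl⟩ := (IsLocalization.map_eq_zero_iff (.powers (h i))
      Γ(Y, Y.basicOpen (h i)) _).mp ((halg i _).trans h3)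
    exact ⟨l, hl⟩

end K550.SecLoc
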