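import Groth.Prelude.Def_NonAbH1

/-!
# Toolbox for sheaves with an action of a sheaf of groups

Gluing of sections and of morphisms given by locally unique relations; equivariant morphisms of torsors are
isomorphisms; a torsor with a section is trivial; classes in `H1`.
-/

set_option autoImplicit false

universe w v u

open CategoryTheory Opposite

namespace K550.Sh

variable {C : Type u} [Category.{v} C] {J : GrothendieckTopology C}

/-- Sections of a sheaf of sets which agree on a covering sieve are equal. -/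
lemma sec_ext (P : Sheaf J (Type w)) {U : C} {S : Sieve U} (hS : S ∈ J U) {p q : P.obj.obj (op U)}
    (h : ∀ ⦃V : C⦄ (f : V ⟶ U), S f → P.obj.map f.op p = P.obj.map f.op q) : p = q :=
  (((isSheaf_iff_isSheaf_of_type _ _).1 P.property).isSeparated S hS).ext h

/-- Gluing of sections of a sheaf of sets along a covering sieve. -/
lemma exists_glue (P : Sheaf J (Type w)) {U : C} {S : Sieve U} (hS : S ∈ J U)
    (x : ∀ ⦃V : C⦄ (f : V ⟶ U), S f → P.obj.obj (op V))
    (hx : ∀ ⦃V W : C⦄ (f : V ⟶ U) (hf : S f) (g : W ⟶ V),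
      P.obj.map g.op (x f hf) = x (g ≫ f) (S.downward_closed hf g)) :
    ∃ p : P.obj.obj (op U), ∀ ⦃V : C⦄ (f : V ⟶ U) (hf : S f), P.obj.map f.op p = x f hf := by
  let y : Presieve.FamilyOfElements P.obj S.arrows := fun V f hf => x f hf
  have hy : y.Compatible := by
    rw [Presieve.compatible_iff_sieveCompatible]
    intro V W f g hf
    exact (hx f hf g).symm
  obtain ⟨p, hp, -⟩ := ((isSheaf_iff_isSheaf_of_type _ _).1 P.property) S hS y hy
  exact ⟨p, fun V f hf => hp f hf⟩

/-- Gluing of locally unique sections. -/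
lemma exists_of_locally (P : Sheaf J (Type w)) {U : C} {S : Sieve U} (hS : S ∈ J U)
    (R : ∀ ⦃V : C⦄ (_ : V ⟶ U), P.obj.obj (op V) → Prop)
    (hres : ∀ ⦃V W : C⦄ (f : V ⟶ U) (g : W ⟶ V) (p : P.obj.obj (op V)), R f p → R (g ≫ f) (P.obj.map g.op p))
    (huniq : ∀ ⦃V : C⦄ (f : V ⟶ U) (p q : P.obj.obj (op V)), R f p → R f q → p = q)
    (hex : ∀ ⦃V : C⦄ (f : V ⟶ U), S f → ∃ p, R f p) :
    ∃ p : P.obj.obj (op U), ∀ ⦃V : C⦄ (f : V ⟶ U), S f → R f (P.obj.map f.op p) := by
  choose x hx using hex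
  obtain ⟨p, hp⟩ := exists_glue P hS (fun V f hf => x f hf) (fun V W f hf g =>
    huniq _ _ _ (hres f g _ (hx f hf)) (hx _ (S.downward_closed hf g)))
  exact ⟨p, fun V f hf => by rw [hp f hf]; exact hx f hf⟩

/-- A relation between the sections of two sheaves of sets which is stable under restriction, local, single valued
and locally total is the graph of a morphism. -/
lemma exists_hom (P Q : Sheaf J (Type w)) (R : ∀ ⦃V : C⦄, P.obj.obj (op V) → Q.obj.obj (op V) → Prop)
    (hres : ∀ ⦃V W : C⦄ (g : W ⟶ V) (p : P.obj.obj (op V)) (q : Q.obj.obj (op V)),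
      R p q → R (P.obj.map g.op p) (Q.obj.map g.op q))
    (huniq : ∀ ⦃V : C⦄ (p : P.obj.obj (op V)) (q q' : Q.obj.obj (op V)), R p q → R p q' → q = q')
    (hloc : ∀ ⦃U : C⦄ (p : P.obj.obj (op U)) (q : Q.obj.obj (op U)) (S : Sieve U), S ∈ J U →
      (∀ ⦃V : C⦄ (f : V ⟶ U), S f → R (P.obj.map f.op p) (Q.obj.map f.op q)) → R p q)
    (htot : ∀ ⦃U : C⦄ (p : P.obj.obj (op U)), ∃ S ∈ J U, ∀ ⦃V : C⦄ (f : V ⟶ U), S f →
      ∃ q : Q.obj.obj (op V), R (P.obj.map f.op p) q) :
    ∃ φ : P ⟶ Q, ∀ (V : Cᵒᵖ) (p : P.obj.obj V), R (V := V.unop) p (φ.hom.app V p) := by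
  have key : ∀ ⦃U : C⦄ (p : P.obj.obj (op U)), ∃ q : Q.obj.obj (op U), R p q := by
    intro U p
    obtain ⟨S, hS, h⟩ := htot p
    obtain ⟨q, hq⟩ := exists_of_locally Q hS (fun V f q => R (P.obj.map f.op p) q)
      (fun V W f g q hq => by
        have := hres g _ _ hq
        rwa [← Functor.map_comp_apply, ← op_comp] at this)
      (fun V f q q' h1 h2 => huniq _ _ _ h1 h2) h
    exact ⟨q, hloc p q S hS hq⟩
  choose φ hφ using key
  refine ⟨⟨{ app := fun V => (TypeCat.ofHom (fun p => φ (U := V.unop) p)), naturality := ?_ }⟩, ?_⟩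
  · intro V W f
    ext p
    exact huniq _ _ _ (hφ (P.obj.map f p)) (hres f.unop _ _ (hφ p))
  · intro V p
    exact hφ p

/-- restriction along a composite -/
lemma map_comp_sec (P : Sheaf J (Type w)) {U V W : C} (f : V ⟶ U) (g : W ⟶ V) (p : P.obj.obj (op U)) :
    P.obj.map g.op (P.obj.map f.op p) = P.obj.map (g ≫ f).op p := by
  rw [← Functor.map_comp_apply, ← op_comp]

/-- The subsheaf of a sheaf of sets cut out by a local condition on sections. -/
def subSh (P : Sheaf J (Type w)) (R : ∀ V : Cᵒᵖ, P.obj.obj V → Prop)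
    (hres : ∀ ⦃V W : Cᵒᵖ⦄ (g : V ⟶ W) (p : P.obj.obj V), R V p → R W (P.obj.map g p))
    (hloc : ∀ ⦃U : C⦄ (p : P.obj.obj (op U)) (S : Sieve U), S ∈ J U →
      (∀ ⦃V : C⦄ (f : V ⟶ U), S f → R (op V) (P.obj.map f.op p)) → R (op U) p) :
    Sheaf J (Type w) where
  obj :=
    { obj := fun V => {p : P.obj.obj V // R V p}
      map := fun {V W} g => TypeCat.ofHom (fun p => ⟨P.obj.map g p.1, hres g p.1 p.2⟩)
      map_id := fun V => by
        ext p
        change P.obj.map (𝟙 V) p.1 = p.1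
        rw [P.obj.map_id]; rfl
      map_comp := fun f g => by
        ext p
        change P.obj.map (f ≫ g) p.1 = P.obj.map g (P.obj.map f p.1)
        rw [P.obj.map_comp]; rfl }
  property := by
    rw [isSheaf_iff_isSheaf_of_type]
    intro U S hS x hx
    rw [Presieve.compatible_iff_sieveCompatible] at hx
    obtain ⟨p, hp⟩ := exists_glue P hS (fun V f hf => (x f hf).1) (fun V W f hf g =>
      (congrArg Subtype.val (hx f g hf)).symm)
    refine ⟨⟨p, hloc p S hS fun V f hf => by rw [hp f hf]; exact (x f hf).2⟩, ?_, ?_⟩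
    · intro V f hf
      exact Subtype.ext (hp f hf)
    · intro q hq
      apply Subtype.ext
      refine sec_ext P hS fun V f hf => ?_
      have h1 : P.obj.map f.op q.1 = (x f hf).1 := congrArg Subtype.val (hq f hf)
      rw [hp f hf, h1]

open NonAbH1

variable {G : Sheaf J GrpCat.{w}}

lemma smul_left_inj {P : GSheaf G} (hP : P.IsPseudoTorsor) {U : Cᵒᵖ} (p : P.P.obj.obj U) {g g' : G.obj.obj U}
    (h : P.smul g p = P.smul g' p) : g = g' :=
  (hP U p (P.smul g' p)).unique h rfl

/-- An equivariant morphism of pseudo-torsors is injective on sections. -/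
lemma injective_of_isPseudoTorsor {P Q : GSheaf G} (hP : P.IsPseudoTorsor) (hQ : Q.IsPseudoTorsor) (f : P ⟶ Q)
    (U : Cᵒᵖ) : Function.Injective (f.hom.hom.app U) := by
  intro p q h
  obtain ⟨g, hg, -⟩ := hP U p q
  have h1 : Q.smul g (f.hom.hom.app U p) = Q.smul 1 (f.hom.hom.app U p) := by
    rw [Q.one_smul, ← f.map_smul, hg, h]
  rw [← hg, smul_left_inj hQ _ h1, P.one_smul]

/-- An equivariant morphism from a torsor to a pseudo-torsor is bijective on sections. -/
lemma bijective_of_isTorsor {P Q : GSheaf G} (hP : P.IsTorsor) (hQ : Q.IsPseudoTorsor) (f : P ⟶ Q)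
    (U : Cᵒᵖ) : Function.Bijective (f.hom.hom.app U) := by
  refine ⟨injective_of_isPseudoTorsor hP.1 hQ f U, fun q => ?_⟩
  obtain ⟨S, hS, hne⟩ := hP.2 U.unop
  obtain ⟨p, hp⟩ := exists_of_locally P.P hS
    (fun V a p => f.hom.hom.app (op V) p = Q.P.obj.map a.op q)
    (fun V W a b p hp => by
      rw [← map_comp_sec, ← hp]
      exact NatTrans.naturality_apply f.hom.hom b.op p)
    (fun V a p p' h h' => injective_of_isPseudoTorsor hP.1 hQ f (op V) (h.trans h'.symm))
    (fun V a ha => by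
      obtain ⟨p⟩ := hne a ha
      obtain ⟨g, hg, -⟩ := hQ (op V) (f.hom.hom.app (op V) p) (Q.P.obj.map a.op q)
      exact ⟨P.smul g p, by rw [f.map_smul, hg]⟩)
  refine ⟨p, sec_ext Q.P hS fun V a ha => ?_⟩
  rw [← hp a ha]
  exact (NatTrans.naturality_apply f.hom.hom a.op p).symm

/-- An equivariant morphism which is bijective on sections is an isomorphism. -/
lemma nonempty_iso_of_bijective {P Q : GSheaf G} (f : P ⟶ Q) (h : ∀ U, Function.Bijective (f.hom.hom.app U)) :
    Nonempty (P ≅ Q) := by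
  have h1 : IsIso f.hom.hom := by
    rw [NatTrans.isIso_iff_isIso_app]
    exact fun U => (isIso_iff_bijective _).2 (h U)
  have h2 : IsIso f.hom := by
    have : IsIso ((sheafToPresheaf J (Type w)).map f.hom) := h1
    exact isIso_of_reflects_iso f.hom (sheafToPresheaf J (Type w))
  have h3 : ∀ (U : Cᵒᵖ) (q : Q.P.obj.obj U), f.hom.hom.app U ((inv f.hom).hom.app U q) = q := by
    intro U q
    have h4 : ((inv f.hom) ≫ f.hom).hom.app U q = q := by rw [IsIso.inv_hom_id]; rfl
    exact h4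
  refine ⟨⟨f, ⟨inv f.hom, ?_⟩, ?_, ?_⟩⟩
  · intro U g q
    apply (h U).1
    rw [h3, f.map_smul, h3]
  · ext1
    exact IsIso.hom_inv_id f.hom
  · ext1
    exact IsIso.inv_hom_id f.hom

lemma iso_of_isTorsor {P Q : GSheaf G} (hP : P.IsTorsor) (hQ : Q.IsPseudoTorsor) (f : P ⟶ Q) :
    Nonempty (P ≅ Q) :=
  nonempty_iso_of_bijective f (bijective_of_isTorsor hP hQ f)

/-- Locally nonempty is invariant under equivariant morphisms. -/
lemma locallyNonempty_of_hom {P Q : GSheaf G} (hP : P.LocallyNonempty) (f : P ⟶ Q) : Q.LocallyNonempty := by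
  intro U
  obtain ⟨S, hS, h⟩ := hP U
  exact ⟨S, hS, fun V a ha => (h a ha).map fun p => f.hom.hom.app (op V) p⟩

/-- the relation defining `H1` is an equivalence relation -/
lemma cl_eq_iff (P Q : Torsor G) : P.cl = Q.cl ↔ Nonempty (P.toGSheaf ≅ Q.toGSheaf) := by
  constructor
  · intro h
    have hr : Equivalence (fun P Q : Torsor G => Nonempty (P.toGSheaf ≅ Q.toGSheaf)) :=
      ⟨fun _ => ⟨Iso.refl _⟩, fun ⟨e⟩ => ⟨e.symm⟩, fun ⟨e⟩ ⟨e'⟩ => ⟨e ≪≫ e'⟩⟩
    exact hr.eqvGen_iff.1 (Quot.eqvGen_exact h)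
  · exact fun h => Quot.sound h

lemma hasSection_of_hom {P Q : GSheaf G} (h : P.HasSection) (f : P ⟶ Q) : Q.HasSection := by
  obtain ⟨s, hs⟩ := h
  refine ⟨fun U => f.hom.hom.app U (s U), fun {U V} a => ?_⟩
  have h := NatTrans.naturality_apply f.hom.hom a (s U)
  rw [hs a] at h
  exact h.symm

section Triv

variable [J.HasSheafCompose (forget GrpCat.{w})]

/-- a global section gives an equivariant morphism from the trivial torsor -/
def homOfSection (P : GSheaf G) (s : P.P.obj.sections) : GSheaf.trivial G ⟶ P where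
  hom := ⟨{ app := fun U => TypeCat.ofHom (fun g => P.smul (GSheaf.toGrp g) (s.1 U))
            naturality := fun U V f => by
              ext g
              have h := P.map_smul f (GSheaf.toGrp g) (s.1 U)
              rw [s.2 f] at h
              exact h.symm }⟩
  map_smul g p := P.mul_smul _ _ _

@[simp] lemma homOfSection_app (P : GSheaf G) (s : P.P.obj.sections) (U : Cᵒᵖ) (g : G.obj.obj U) :
    (homOfSection P s).hom.hom.app U (GSheaf.ofGrp g) = P.smul g (s.1 U) := rfl

/-- A pseudo-torsor with a global section is trivial. -/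
lemma isTrivial_of_hasSection {P : GSheaf G} (hP : P.IsPseudoTorsor) (h : P.HasSection) : P.IsTrivial := by
  obtain ⟨s, hs⟩ := h
  exact iso_of_isTorsor (GSheaf.isTorsor_trivial G) hP (homOfSection P ⟨s, hs⟩)

lemma hasSection_trivial : (GSheaf.trivial G).HasSection :=
  ⟨fun U => GSheaf.ofGrp (1 : G.obj.obj U), fun {U V} a => by
    change G.obj.map a (1 : G.obj.obj U) = 1
    exact map_one _⟩

/-- A torsor is trivial iff it has a global section. -/
lemma isTrivial_iff_hasSection {P : GSheaf G} (hP : P.IsPseudoTorsor) : P.IsTrivial ↔ P.HasSection := by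
  refine ⟨?_, isTrivial_of_hasSection hP⟩
  rintro ⟨e⟩
  exact hasSection_of_hom hasSection_trivial e.hom

lemma cl_eq_one_iff (P : Torsor G) : P.cl = 1 ↔ P.HasSection := by
  rw [← isTrivial_iff_hasSection P.isTorsor.1]
  refine (cl_eq_iff P (trivialTorsor G)).trans ?_
  exact ⟨fun ⟨e⟩ => ⟨e.symm⟩, fun ⟨e⟩ => ⟨e.symm⟩⟩

end Triv

end K550.Sh
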