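import Groth.Agent.NonAbH1.K550.Sat
import Mathlib.Algebra.Module.FinitePresentation
import Mathlib.LinearAlgebra.StdBasis
import Mathlib.RingTheory.TensorProduct.IsBaseChangePi

/-!
# Linear maps which are isomorphisms after localization, in elementary terms
-/

set_option autoImplicit false

namespace K550.TI

open K550.SatMod

variable {A : Type*} [CommRing A] {M M' : Type*} [AddCommGroup M] [Module A M] [AddCommGroup M']
  [Module A M']

/-- `φ` is an isomorphism after localization at `S`. -/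
structure TorIso (S : Submonoid A) (φ : M →ₗ[A] M') : Prop where
  inj : ∀ x, φ x = 0 → ∃ s ∈ S, s • x = 0
  surj : ∀ y, ∃ s ∈ S, ∃ x, s • y = φ x

theorem TorIso.mono {S T : Submonoid A} {φ : M →ₗ[A] M'} (hφ : TorIso S φ)
    (hST : ∀ s ∈ S, ∃ t ∈ T, s ∣ t) : TorIso T φ := by
  refine ⟨fun x hx => ?_, fun y => ?_⟩
  · obtain ⟨s, hs, h⟩ := hφ.inj x hx
    obtain ⟨t, ht, c, rfl⟩ := hST s hs
    exact ⟨_, ht, by rw [mul_comm, mul_smul, h, smul_zero]⟩
  · obtain ⟨s, hs, x, h⟩ := hφ.surj y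
    obtain ⟨t, ht, c, rfl⟩ := hST s hs
    exact ⟨_, ht, c • x, by rw [mul_comm, mul_smul, h, map_smul]⟩

theorem TorIso.of_dvd {s t : A} {φ : M →ₗ[A] M'} (hφ : TorIso (.powers s) φ) (h : s ∣ t) :
    TorIso (.powers t) φ :=
  hφ.mono fun _ ⟨k, hk⟩ => ⟨t ^ k, ⟨k, rfl⟩, hk ▸ pow_dvd_pow_of_dvd h k⟩

theorem TorIso.bijective_map {S : Submonoid A} {φ : M →ₗ[A] M'} (hφ : TorIso S φ) {N N' : Type*}
    [AddCommGroup N] [Module A N] [AddCommGroup N'] [Module A N'] (f : M →ₗ[A] N)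
    (f' : M' →ₗ[A] N') [IsLocalizedModule S f] [IsLocalizedModule S f'] :
    Function.Bijective (IsLocalizedModule.map S f f' φ) := by
  constructor
  · rw [injective_iff_map_eq_zero]
    intro y hy
    obtain ⟨⟨x, s⟩, hs⟩ := IsLocalizedModule.surj S f y
    have h1 : f' (φ x) = 0 := by
      rw [← IsLocalizedModule.map_apply S f f', ← hs, Submonoid.smul_def, map_smul, hy, smul_zero]
    obtain ⟨t, ht⟩ := (IsLocalizedModule.eq_zero_iff S f').mp h1
    rw [Submonoid.smul_def, ← map_smul] at ht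
    obtain ⟨u, hu, hu'⟩ := hφ.inj _ ht
    have h2 : f x = 0 := (IsLocalizedModule.eq_zero_iff S f).mpr ⟨⟨u, hu⟩ * t, by
      rw [mul_smul]; exact hu'⟩
    exact IsLocalizedModule.smul_injective f s (by
      change s • y = s • 0
      rw [smul_zero]; exact hs.trans h2)
  · intro y
    obtain ⟨⟨x, s⟩, hs⟩ := IsLocalizedModule.surj S f' y
    obtain ⟨t, ht, z, hz⟩ := hφ.surj x
    obtain ⟨w, hw⟩ := ((Module.End.isUnit_iff _).mp
      (IsLocalizedModule.map_units f (⟨t, ht⟩ * s))).2 (f z)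
    refine ⟨w, IsLocalizedModule.smul_injective f' (⟨t, ht⟩ * s) ?_⟩
    have h1 : (⟨t, ht⟩ * s : S) • w = f z := hw
    change (⟨t, ht⟩ * s : S) • _ = (⟨t, ht⟩ * s : S) • _
    rw [Submonoid.smul_def, ← map_smul, ← Submonoid.smul_def, h1, IsLocalizedModule.map_apply,
      ← hz, map_smul, mul_smul, hs]
    rfl

theorem TorIso.of_bijective_map {S : Submonoid A} {φ : M →ₗ[A] M'} {N N' : Type*}
    [AddCommGroup N] [Module A N] [AddCommGroup N'] [Module A N'] (f : M →ₗ[A] N)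
    (f' : M' →ₗ[A] N') [IsLocalizedModule S f] [IsLocalizedModule S f'] (ψ : N → N')
    (hψ : ∀ x, ψ (f x) = f' (φ x)) (hψ0 : ψ 0 = 0) (hψS : ∀ (s : A) y, ψ (s • y) = s • ψ y)
    (hb : Function.Bijective ψ) : TorIso S φ := by
  refine ⟨fun x hx => ?_, fun y => ?_⟩
  · have h1 : f x = 0 := hb.1 (by rw [hψ, hx, map_zero, hψ0])
    obtain ⟨s, hs⟩ := (IsLocalizedModule.eq_zero_iff S f).mp h1
    exact ⟨s, s.2, hs⟩
  · obtain ⟨z, hz⟩ := hb.2 (f' y)
    obtain ⟨⟨x, s⟩, hs⟩ := IsLocalizedModule.surj S f z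
    have h1 : f' ((s : A) • y) = f' (φ x) := by
      rw [map_smul, ← hz, ← hψ, ← hψS]
      exact congrArg ψ hs
    obtain ⟨t, ht⟩ := (IsLocalizedModule.eq_iff_exists S f').mp h1
    refine ⟨t * s, (t * s).2, t • x, ?_⟩
    rw [mul_smul, ← Submonoid.smul_def, ht, Submonoid.smul_def, Submonoid.smul_def, map_smul]

theorem TorIso.exists_powers {S : Submonoid A} {φ : M →ₗ[A] M'} [Module.Finite A M]
    [Module.FinitePresentation A M'] (hφ : TorIso S φ) : ∃ s ∈ S, TorIso (.powers s) φ := by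
  obtain ⟨s, hs, h⟩ := exists_bijective_map_powers S (LocalizedModule.mkLinearMap S M)
    (LocalizedModule.mkLinearMap S M') φ (hφ.bijective_map _ _)
  refine ⟨s, hs, TorIso.of_bijective_map (LocalizedModule.mkLinearMap (.powers s) M)
    (LocalizedModule.mkLinearMap (.powers s) M') (LocalizedModule.map (.powers s) φ) (fun x => ?_)
    (map_zero _) (fun a y => ?_) (h s dvd_rfl)⟩
  · simp [LocalizedModule.map_mk]
  · rw [LinearMap.map_smul_of_tower]

theorem TorIso.glue {ι : Type*} [Finite ι] {h : ι → A} (hM : IsSat h M) (hM' : IsSat h M')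
    {φ : M →ₗ[A] M'} {s : A} (hφ : ∀ i, TorIso (.powers (s * h i)) φ) : TorIso (.powers s) φ := by
  classical
  have := Fintype.ofFinite ι
  have hinj : ∀ x, φ x = 0 → ∃ k : ℕ, s ^ k • x = 0 := by
    intro x hx
    have h1 : ∀ i, ∃ k : ℕ, (s * h i) ^ k • x = 0 := fun i => by
      obtain ⟨_, ⟨k, rfl⟩, hk⟩ := (hφ i).inj x hx
      exact ⟨k, hk⟩
    choose k hk using h1
    refine ⟨Finset.univ.sup k, hM.sep _ fun i => ⟨Finset.univ.sup k, ?_⟩⟩
    rw [smul_smul, ← mul_pow, mul_comm]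
    exact smul_pow_eq_zero_of_le (Finset.le_sup (Finset.mem_univ i)) (hk i)
  refine ⟨fun x hx => ?_, fun y => ?_⟩
  · obtain ⟨k, hk⟩ := hinj x hx
    exact ⟨_, ⟨k, rfl⟩, hk⟩
  · have h1 : ∀ i, ∃ (k : ℕ) (x : M), (s * h i) ^ k • y = φ x := fun i => by
      obtain ⟨_, ⟨k, rfl⟩, x, hx⟩ := (hφ i).surj y
      exact ⟨k, x, hx⟩
    choose k x hx using h1
    let K := Finset.univ.sup k
    have hK : ∀ i, k i ≤ K := fun i => Finset.le_sup (Finset.mem_univ i)
    have hx' : ∀ i, (s * h i) ^ K • y = φ ((s * h i) ^ (K - k i) • x i) := fun i => by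
      rw [map_smul, ← hx, smul_smul, ← pow_add, Nat.sub_add_cancel (hK i)]
    have h2 : ∀ q : ι × ι, ∃ l : ℕ, s ^ l • (h q.2 ^ K • ((s * h q.1) ^ (K - k q.1) • x q.1) -
        h q.1 ^ K • ((s * h q.2) ^ (K - k q.2) • x q.2)) = 0 := by
      rintro ⟨i, j⟩
      apply hinj
      rw [map_sub, map_smul φ (h j ^ K), map_smul φ (h i ^ K), ← hx', ← hx', smul_smul, smul_smul,
        mul_pow, mul_pow, ← sub_smul]
      convert zero_smul A y using 2
      ring
    choose l hl using h2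
    let N := Finset.univ.sup l
    have hN : ∀ q, l q ≤ N := fun q => Finset.le_sup (Finset.mem_univ q)
    obtain ⟨m₀, hm₀⟩ := hM.glue K (fun i => s ^ N • ((s * h i) ^ (K - k i) • x i)) fun i j =>
      ⟨0, by
        rw [pow_zero, one_smul, smul_comm _ (s ^ N), smul_comm _ (s ^ N), ← smul_sub]
        exact smul_pow_eq_zero_of_le (hN (i, j)) (hl (i, j))⟩
    refine ⟨s ^ (N + K), ⟨N + K, rfl⟩, m₀, sub_eq_zero.mp (hM'.sep _ fun i => ?_)⟩
    obtain ⟨e, he⟩ := hm₀ i
    refine ⟨e + K, ?_⟩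
    have h3 := congrArg φ he
    rw [map_smul, map_sub, map_smul, map_smul, ← hx', map_zero, mul_pow] at h3
    rw [← neg_sub, smul_neg, neg_eq_zero, ← h3, smul_sub, smul_sub, smul_smul, smul_smul, smul_smul,
      smul_smul, ← pow_add]
    congr 2
    ring

/-- Spreading out of an isomorphism with a free module. -/
theorem TorIso.exists_of_away {S : Submonoid A} {r : ℕ} {φ : (Fin r → A) →ₗ[A] M'}
    (hφ : TorIso S φ) (h : A) {Ah : Type*} [CommRing Ah] [Algebra A Ah] [IsLocalization.Away h Ah]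
    {Mh : Type*} [AddCommGroup Mh] [Module A Mh] [Module Ah Mh] [IsScalarTower A Ah Mh]
    (l : M' →ₗ[A] Mh) [IsLocalizedModule (.powers h) l] [Module.FinitePresentation Ah Mh] :
    ∃ s ∈ S, TorIso (.powers (s * h)) φ := by
  classical
  let lA : (Fin r → A) →ₗ[A] (Fin r → Ah) := LinearMap.pi fun i => (Algebra.linearMap A Ah) ∘ₗ LinearMap.proj i
  have : IsLocalizedModule (.powers h) (Algebra.linearMap A Ah) := inferInstance
  have hlA : IsLocalizedModule (.powers h) lA := inferInstance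
  let ψ : (Fin r → Ah) →ₗ[Ah] Mh := (Pi.basisFun Ah (Fin r)).constr Ah
    fun j => l (φ (Pi.single j 1))
  have hψ : ∀ x, ψ (lA x) = l (φ x) := by
    intro x
    have h1 : x = ∑ j, x j • (Pi.single j 1 : Fin r → A) := by
      simpa using! ((Pi.basisFun A (Fin r)).sum_repr x).symm
    conv_rhs => rw [h1]
    simp only [ψ, Module.Basis.constr_apply_fintype, map_sum, map_smul, Pi.basisFun_equivFun,
      LinearEquiv.refl_apply]
    refine Finset.sum_congr rfl fun j _ => ?_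
    change (algebraMap A Ah (x j)) • _ = _
    rw [algebraMap_smul]
  have h1 : TorIso (S.map (algebraMap A Ah)) ψ := by
    refine ⟨fun x hx => ?_, fun y => ?_⟩
    · obtain ⟨⟨x', ⟨_, k, rfl⟩⟩, hx'⟩ := IsLocalizedModule.surj (.powers h) lA x
      have h2 : l (φ x') = 0 := by
        rw [← hψ, ← hx', Submonoid.smul_def, LinearMap.map_smul_of_tower, hx, smul_zero]
      obtain ⟨⟨_, k', rfl⟩, hk'⟩ := (IsLocalizedModule.eq_zero_iff (.powers h) l).mp h2
      rw [Submonoid.smul_def, ← map_smul] at hk'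
      obtain ⟨s, hs, hs'⟩ := hφ.inj _ hk'
      refine ⟨algebraMap A Ah s, ⟨s, hs, rfl⟩, ?_⟩
      rw [algebraMap_smul]
      have h3 : ∀ (k : ℕ) (z : Fin r → Ah), h ^ k • z = 0 → z = 0 := fun k z hz =>
        IsLocalizedModule.smul_injective (S := .powers h) lA ⟨h ^ k, k, rfl⟩ (by
          change h ^ k • z = h ^ k • 0
          rw [smul_zero]; exact hz)
      apply h3 k'
      apply h3 k
      have h4 := congrArg lA hs'
      rw [map_zero, map_smul, map_smul, ← hx'] at h4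
      change s • h ^ k' • h ^ k • x = 0 at h4
      rw [← h4, smul_comm s, smul_comm (h ^ k), smul_comm s]
    · obtain ⟨⟨y', ⟨_, k, rfl⟩⟩, hy'⟩ := IsLocalizedModule.surj (.powers h) l y
      obtain ⟨s, hs, x, hx⟩ := hφ.surj y'
      have hu : IsUnit (algebraMap A Ah (h ^ k)) :=
        IsLocalization.map_units (M := .powers h) Ah ⟨h ^ k, k, rfl⟩
      obtain ⟨u, hu⟩ := hu
      refine ⟨algebraMap A Ah s, ⟨s, hs, rfl⟩, (↑u⁻¹ : Ah) • lA x, ?_⟩
      rw [map_smul, hψ, ← hx, map_smul, ← hy', algebraMap_smul]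
      change s • y = (↑u⁻¹ : Ah) • s • h ^ k • y
      rw [← algebraMap_smul Ah (h ^ k), ← hu, smul_comm s, smul_smul, Units.inv_mul, one_smul]
  obtain ⟨_, ⟨s, hs, rfl⟩, hs'⟩ := h1.exists_powers
  refine ⟨s, hs, fun x hx => ?_, fun y => ?_⟩
  · obtain ⟨_, ⟨k, rfl⟩, hk⟩ := hs'.inj (lA x) (by rw [hψ, hx, map_zero])
    dsimp only at hk
    rw [← map_pow, algebraMap_smul, ← map_smul] at hk
    obtain ⟨⟨_, k', rfl⟩, hk'⟩ := (IsLocalizedModule.eq_zero_iff (.powers h) lA).mp hk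
    refine ⟨_, ⟨k + k', rfl⟩, ?_⟩
    change (s * h) ^ (k + k') • x = 0
    change h ^ k' • s ^ k • x = 0 at hk'
    have : (s * h) ^ (k + k') = (s ^ k' * h ^ k) * (h ^ k' * s ^ k) := by ring
    rw [this, mul_smul, mul_smul (h ^ k'), hk', smul_zero]
  · obtain ⟨_, ⟨k, rfl⟩, z, hz⟩ := hs'.surj (l y)
    dsimp only at hz
    rw [← map_pow, algebraMap_smul, ← map_smul] at hz
    obtain ⟨⟨x, ⟨_, e, rfl⟩⟩, hx⟩ := IsLocalizedModule.surj (.powers h) lA z
    have h2 : l (h ^ e • s ^ k • y) = l (φ x) := by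
      rw [← hψ, map_smul, hz, ← hx, Submonoid.smul_def, LinearMap.map_smul_of_tower]
    obtain ⟨⟨_, k', rfl⟩, hk'⟩ := (IsLocalizedModule.eq_iff_exists (.powers h) l).mp h2
    change h ^ k' • h ^ e • s ^ k • y = h ^ k' • φ x at hk'
    refine ⟨_, ⟨k + k' + e, rfl⟩, (s ^ (k' + e) * h ^ (k + k')) • x, ?_⟩
    change (s * h) ^ (k + k' + e) • y = _
    have : (s * h) ^ (k + k' + e) = (s ^ (k' + e) * h ^ k) * (h ^ k' * (h ^ e * s ^ k)) := by ring
    rw [this, mul_smul, mul_smul (h ^ k'), mul_smul (h ^ e), hk', smul_smul, map_smul]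
    congr 1
    ring

end K550.TI
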